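import Groth.Prelude.Def_CAlgX
import Mathlib.RingTheory.Ideal.Quotient.Operations
import Mathlib.RingTheory.Ideal.Cotangent
import Mathlib.RingTheory.Kaehler.Basic
import Mathlib.RingTheory.Filtration

/-! Adic formal smoothness of a quotient and sections of `B/(J² + Q'J) → B/J` (helper6). -/

set_option autoImplicit false
universe u

namespace H6Adic

open CAlgX

theorem lift_of_surjective {R S : Type u} [CommRing R] [CommRing S] [Algebra R S] {𝔫 : Ideal S}
    (h : IsAdicFormallySmooth R S 𝔫) {T' T'' : Type u} [CommRing T'] [Algebra R T'] [CommRing T'']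
    [Algebra R T''] (p : T' →ₐ[R] T'') (hp : Function.Surjective p)
    (hsq : (RingHom.ker p) ^ 2 = ⊥) (ψ : S →ₐ[R] T'') (hψ : ∃ k : ℕ, ∀ x ∈ 𝔫 ^ k, ψ x = 0) :
    ∃ χ : S →ₐ[R] T', p.comp χ = ψ := by
  obtain ⟨k, hk⟩ := hψ
  obtain ⟨χ, hχ⟩ := h T' (RingHom.ker p) hsq
    ((Ideal.quotientKerAlgEquivOfSurjective hp).symm.toAlgHom.comp ψ) ⟨k, fun x hx => by
      change (Ideal.quotientKerAlgEquivOfSurjective hp).symm (ψ x) = 0
      rw [hk x hx, map_zero]⟩
  refine ⟨χ, AlgHom.ext fun s => ?_⟩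
  have h1 : Ideal.Quotient.mk (RingHom.ker p) (χ s) =
      (Ideal.quotientKerAlgEquivOfSurjective hp).symm (ψ s) := AlgHom.congr_fun hχ s
  have h2 := congrArg (Ideal.quotientKerAlgEquivOfSurjective hp) h1
  rw [Ideal.quotientKerAlgEquivOfSurjective_mk, AlgEquiv.apply_symm_apply] at h2
  exact h2

section Setup

variable {A B : Type u} [CommRing A] [CommRing B] [Algebra A B] (J : Ideal B) (Q : Ideal (B ⧸ J))

/-- preimage of `Q` in `B` -/
def Qp : Ideal B := Q.comap (Ideal.Quotient.mk J)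

lemma mem_Qp {b : B} : b ∈ Qp J Q ↔ Ideal.Quotient.mk J b ∈ Q := Iff.rfl

lemma J_le_Qp : J ≤ Qp J Q := fun x hx => by
  rw [mem_Qp, Ideal.Quotient.eq_zero_iff_mem.2 hx]
  exact Q.zero_mem

/-- `J² + Q'J` -/
def KK : Ideal B := J ^ 2 ⊔ Qp J Q * J

lemma KK_le : KK J Q ≤ J := sup_le (Ideal.pow_le_self two_ne_zero) Ideal.mul_le_right

lemma sq_le_KK : J ^ 2 ≤ KK J Q := le_sup_left

lemma mul_le_KK : Qp J Q * J ≤ KK J Q := le_sup_right

variable (A) in
/-- the projection `B/(J² + Q'J) → B/J` -/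
def piQ : (B ⧸ KK J Q) →ₐ[A] B ⧸ J := Ideal.Quotient.factorₐ A (KK_le J Q)

variable (A) in
/-- the projection has an algebra section -/
def HasSection : Prop := ∃ σ : (B ⧸ J) →ₐ[A] B ⧸ KK J Q, ∀ c, piQ A J Q (σ c) = c

theorem step_lift (I : Ideal B) (hB : IsAdicFormallySmooth A B I)
    (σ : (B ⧸ J) →ₐ[A] B ⧸ KK J Q) (hσ : ∀ c, piQ A J Q (σ c) = c)
    {T' T'' : Type u} [CommRing T'] [Algebra A T'] [CommRing T''] [Algebra A T'']
    (p : T' →ₐ[A] T'') (hp : Function.Surjective p) (hsq : (RingHom.ker p) ^ 2 = ⊥)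
    (ψ : (B ⧸ J) →ₐ[A] T'')
    (hψ : ∃ k : ℕ, ∀ x ∈ (I.map (Ideal.Quotient.mk J)) ^ k, ψ x = 0)
    (hQ : ∀ c ∈ Q, ∀ t' : T', p t' = ψ c → ∀ n ∈ RingHom.ker p, t' * n = 0) :
    ∃ χ : (B ⧸ J) →ₐ[A] T', p.comp χ = ψ := by
  obtain ⟨k, hk⟩ := hψ
  obtain ⟨φ, hφ⟩ := lift_of_surjective hB p hp hsq (ψ.comp (Ideal.Quotient.mkₐ A J))
    ⟨k, fun x hx => by
      change ψ (Ideal.Quotient.mk J x) = 0
      apply hk
      rw [← Ideal.map_pow]
      exact Ideal.mem_map_of_mem _ hx⟩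
  have hφ' : ∀ b, p (φ b) = ψ (Ideal.Quotient.mk J b) := fun b => AlgHom.congr_fun hφ b
  have hφJ : ∀ j ∈ J, φ j ∈ RingHom.ker p := by
    intro j hj
    rw [RingHom.mem_ker, hφ', Ideal.Quotient.eq_zero_iff_mem.2 hj, map_zero]
  have hsq' : ∀ x ∈ RingHom.ker p, ∀ y ∈ RingHom.ker p, x * y = 0 := by
    intro x hx y hy
    have : x * y ∈ (RingHom.ker p) ^ 2 := by
      rw [pow_two]
      exact Ideal.mul_mem_mul hx hy
    rwa [hsq, Ideal.mem_bot] at this
  have hφK : ∀ x ∈ KK J Q, φ x = 0 := by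
    have : KK J Q ≤ RingHom.ker φ := by
      apply sup_le
      · rw [pow_two, Ideal.mul_le]
        intro x hx y hy
        rw [RingHom.mem_ker, map_mul]
        exact hsq' _ (hφJ x hx) _ (hφJ y hy)
      · rw [Ideal.mul_le]
        intro x hx y hy
        rw [RingHom.mem_ker, map_mul]
        exact hQ _ hx (φ x) (hφ' x) _ (hφJ y hy)
    exact fun x hx => RingHom.mem_ker.1 (this hx)
  refine ⟨(Ideal.Quotient.liftₐ (KK J Q) φ hφK).comp σ, AlgHom.ext fun c => ?_⟩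
  obtain ⟨b', hb'⟩ := Ideal.Quotient.mk_surjective (σ c)
  have h1 : Ideal.Quotient.mk J b' = c := by
    have := hσ c
    rw [← hb'] at this
    exact this
  change p (Ideal.Quotient.liftₐ (KK J Q) φ hφK (σ c)) = ψ c
  rw [← hb']
  change p (φ b') = ψ c
  rw [hφ', h1]

theorem adicSmooth_of_section (I : Ideal B) (hB : IsAdicFormallySmooth A B I)
    (hQ' : ∃ m : ℕ, Q ^ m ≤ I.map (Ideal.Quotient.mk J)) (hσ : HasSection A J Q) :
    IsAdicFormallySmooth A (B ⧸ J) (I.map (Ideal.Quotient.mk J)) := by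
  obtain ⟨σ, hσ⟩ := hσ
  obtain ⟨m, hm⟩ := hQ'
  intro T _ _ N hN ψ hψ
  obtain ⟨k, hk⟩ := hψ
  set 𝔮 : Ideal T := Ideal.comap (Ideal.Quotient.mk N) (Ideal.map ψ Q) with h𝔮
  have hNN : ∀ x ∈ N, ∀ y ∈ N, x * y = 0 := by
    intro x hx y hy
    have : x * y ∈ N ^ 2 := by
      rw [pow_two]
      exact Ideal.mul_mem_mul hx hy
    rwa [hN, Ideal.mem_bot] at this
  have claim : ∀ d : ℕ, ∀ N' : Ideal T, ∀ hN' : N' ≤ N, 𝔮 ^ d * N ≤ N' →
      ∃ χ : (B ⧸ J) →ₐ[A] T ⧸ N', (Ideal.Quotient.factorₐ A hN').comp χ = ψ := by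
    intro d
    induction d with
    | zero =>
      intro N' hN' h0
      rw [pow_zero, one_mul] at h0
      obtain rfl : N' = N := le_antisymm hN' h0
      exact ⟨ψ, by rw [Ideal.Quotient.factorₐ_refl]; rfl⟩
    | succ d ih =>
      intro N' hN' hd
      have hN''le : N' ⊔ 𝔮 ^ d * N ≤ N := sup_le hN' Ideal.mul_le_right
      obtain ⟨χ'', hχ''⟩ := ih (N' ⊔ 𝔮 ^ d * N) hN''le le_sup_right
      have hχ''a : ∀ c, Ideal.Quotient.factor hN''le (χ'' c) = ψ c :=
        fun c => AlgHom.congr_fun hχ'' c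
      let p : (T ⧸ N') →ₐ[A] T ⧸ (N' ⊔ 𝔮 ^ d * N) := Ideal.Quotient.factorₐ A le_sup_left
      have hp : Function.Surjective p := Ideal.Quotient.factor_surjective le_sup_left
      have hker : ∀ x : T ⧸ N', x ∈ RingHom.ker p →
          ∃ t ∈ N' ⊔ 𝔮 ^ d * N, Ideal.Quotient.mk N' t = x := by
        intro x hx
        obtain ⟨t, rfl⟩ := Ideal.Quotient.mk_surjective x
        refine ⟨t, ?_, rfl⟩
        rw [RingHom.mem_ker] at hx
        exact Ideal.Quotient.eq_zero_iff_mem.1 hx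
      have hsq : (RingHom.ker p) ^ 2 = ⊥ := by
        rw [eq_bot_iff, pow_two, Ideal.mul_le]
        intro x hx y hy
        obtain ⟨t, ht, rfl⟩ := hker x hx
        obtain ⟨t', ht', rfl⟩ := hker y hy
        rw [Ideal.mem_bot, ← map_mul, hNN t (hN''le ht) t' (hN''le ht'), map_zero]
      have hχ''k : ∃ k' : ℕ, ∀ x ∈ (I.map (Ideal.Quotient.mk J)) ^ k', χ'' x = 0 := by
        refine ⟨k + k, fun x hx => ?_⟩
        rw [pow_add] at hx
        refine Submodule.mul_induction_on hx ?_ ?_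
        · intro a ha b hb
          obtain ⟨s, hs⟩ := Ideal.Quotient.mk_surjective (χ'' a)
          obtain ⟨s', hs'⟩ := Ideal.Quotient.mk_surjective (χ'' b)
          have hsN : s ∈ N := by
            have := hχ''a a
            rw [← hs, hk a ha] at this
            exact Ideal.Quotient.eq_zero_iff_mem.1 this
          have hs'N : s' ∈ N := by
            have := hχ''a b
            rw [← hs', hk b hb] at this
            exact Ideal.Quotient.eq_zero_iff_mem.1 this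
          rw [map_mul, ← hs, ← hs', ← map_mul, hNN s hsN s' hs'N, map_zero]
        · intro x y hx hy
          rw [map_add, hx, hy, add_zero]
      obtain ⟨χ, hχ⟩ := step_lift J Q I hB σ hσ p hp hsq χ'' hχ''k (by
        intro c hc t' ht' n hn
        obtain ⟨t, rfl⟩ := Ideal.Quotient.mk_surjective t'
        obtain ⟨n₀, hn₀, rfl⟩ := hker n hn
        rw [← map_mul, Ideal.Quotient.eq_zero_iff_mem]
        have ht𝔮 : t ∈ 𝔮 := by
          rw [h𝔮, Ideal.mem_comap]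
          have h1 := hχ''a c
          rw [← ht'] at h1
          have h2 : Ideal.Quotient.mk N t = ψ c := h1
          rw [h2]
          exact Ideal.mem_map_of_mem _ hc
        have : t * n₀ ∈ 𝔮 * (N' ⊔ 𝔮 ^ d * N) := Ideal.mul_mem_mul ht𝔮 hn₀
        rw [Ideal.mul_sup, ← mul_assoc, ← pow_succ'] at this
        exact (sup_le Ideal.mul_le_right hd) this)
      refine ⟨χ, AlgHom.ext fun c => ?_⟩
      have h1 : p (χ c) = χ'' c := AlgHom.congr_fun hχ c
      have h2 := hχ''a c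
      rw [← h1] at h2
      rw [← h2]
      obtain ⟨t, ht⟩ := Ideal.Quotient.mk_surjective (χ c)
      change Ideal.Quotient.factor hN' (χ c) = Ideal.Quotient.factor hN''le (p (χ c))
      rw [← ht]
      rfl
  have hbot : 𝔮 ^ (m * k) * N ≤ ⊥ := by
    have h1 : 𝔮 ^ (m * k) ≤ N := by
      have h2 : 𝔮 ^ (m * k) ≤
          Ideal.comap (Ideal.Quotient.mk N) ((Ideal.map ψ Q) ^ (m * k)) := by
        rw [h𝔮]
        exact Ideal.le_comap_pow _ _
      have h3 : (Ideal.map ψ Q) ^ (m * k) = ⊥ := by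
        rw [← Ideal.map_pow, pow_mul, eq_bot_iff, Ideal.map_le_iff_le_comap]
        intro x hx
        rw [Ideal.mem_comap, Ideal.mem_bot]
        exact hk x (Ideal.pow_right_mono hm k hx)
      rw [h3] at h2
      intro x hx
      have := h2 hx
      rw [Ideal.mem_comap, Ideal.mem_bot] at this
      exact Ideal.Quotient.eq_zero_iff_mem.1 this
    rw [Ideal.mul_le]
    intro x hx y hy
    rw [Ideal.mem_bot]
    exact hNN x (h1 hx) y hy
  obtain ⟨χ, hχ⟩ := claim (m * k) ⊥ bot_le hbot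
  let ℓ : (T ⧸ (⊥ : Ideal T)) →ₐ[A] T := Ideal.Quotient.liftₐ ⊥ (AlgHom.id A T) (fun a ha => by
    rw [Ideal.mem_bot] at ha
    rw [ha, map_zero])
  refine ⟨ℓ.comp χ, AlgHom.ext fun c => ?_⟩
  have h1 : Ideal.Quotient.factor bot_le (χ c) = ψ c := AlgHom.congr_fun hχ c
  obtain ⟨t, ht⟩ := Ideal.Quotient.mk_surjective (χ c)
  rw [← h1]
  change Ideal.Quotient.mk N (ℓ (χ c)) = Ideal.Quotient.factor bot_le (χ c)
  rw [← ht]
  rfl

theorem section_of_adicSmooth [IsNoetherianRing B] (I : Ideal B)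
    (hQ : ∃ n : ℕ, (I.map (Ideal.Quotient.mk J)) ^ n ≤ Q)
    (hC : IsAdicFormallySmooth A (B ⧸ J) (I.map (Ideal.Quotient.mk J))) : HasSection A J Q := by
  obtain ⟨n, hn⟩ := hQ
  have hIn : I ^ n ≤ Qp J Q := by
    intro x hx
    rw [mem_Qp]
    apply hn
    rw [← Ideal.map_pow]
    exact Ideal.mem_map_of_mem _ hx
  obtain ⟨c₀, hc₀⟩ := Ideal.exists_pow_inf_eq_pow_smul I (J : Submodule B B)
  set k := c₀ + n with hk
  have hkn : I ^ k ≤ Qp J Q := (Ideal.pow_le_pow_right (Nat.le_add_left n c₀)).trans hIn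
  have hAR : I ^ k ⊓ J ≤ KK J Q := by
    have h1 := hc₀ k (Nat.le_add_right c₀ n)
    have h2 : I ^ k ⊓ J = I ^ k • (⊤ : Submodule B B) ⊓ J := by
      rw [smul_eq_mul, Ideal.mul_top]
    rw [h2, h1]
    have h3 : k - c₀ = n := by rw [hk]; omega
    rw [h3]
    calc I ^ n • (I ^ c₀ • ⊤ ⊓ J) ≤ I ^ n • (J : Submodule B B) :=
          Submodule.smul_mono le_rfl inf_le_right
      _ ≤ Qp J Q * J := by
          rw [smul_eq_mul]
          exact Ideal.mul_mono_left hIn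
      _ ≤ KK J Q := mul_le_KK J Q
  set Kk : Ideal B := KK J Q ⊔ I ^ k with hKk
  set JI : Ideal B := J ⊔ I ^ k with hJI
  have hKkJI : Kk ≤ JI := sup_le ((KK_le J Q).trans le_sup_left) le_sup_right
  let p : (B ⧸ Kk) →ₐ[A] (B ⧸ JI) := Ideal.Quotient.factorₐ A hKkJI
  have hp : Function.Surjective p := Ideal.Quotient.factor_surjective hKkJI
  have hJIsq : ∀ a ∈ JI, ∀ b ∈ JI, a * b ∈ Kk := by
    intro a ha b hb
    obtain ⟨j, hj, i, hi, rfl⟩ := Submodule.mem_sup.1 ha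
    obtain ⟨j', hj', i', hi', rfl⟩ := Submodule.mem_sup.1 hb
    have e : (j + i) * (j' + i') = j * j' + i' * j + i * j' + i * i' := by ring
    rw [e]
    refine Kk.add_mem (Kk.add_mem (Kk.add_mem ?_ ?_) ?_) ?_
    · apply Ideal.mem_sup_left
      apply sq_le_KK J Q
      rw [pow_two]
      exact Ideal.mul_mem_mul hj hj'
    · apply Ideal.mem_sup_left
      exact mul_le_KK J Q (Ideal.mul_mem_mul (hkn hi') hj)
    · apply Ideal.mem_sup_left
      exact mul_le_KK J Q (Ideal.mul_mem_mul (hkn hi) hj')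
    · apply Ideal.mem_sup_right
      exact Ideal.mul_mem_right _ _ hi
  have hsq : (RingHom.ker p) ^ 2 = ⊥ := by
    rw [eq_bot_iff, pow_two, Ideal.mul_le]
    intro x hx y hy
    obtain ⟨t, rfl⟩ := Ideal.Quotient.mk_surjective x
    obtain ⟨t', rfl⟩ := Ideal.Quotient.mk_surjective y
    rw [RingHom.mem_ker] at hx hy
    have ht : t ∈ JI := Ideal.Quotient.eq_zero_iff_mem.1 hx
    have ht' : t' ∈ JI := Ideal.Quotient.eq_zero_iff_mem.1 hy
    rw [Ideal.mem_bot, ← map_mul, Ideal.Quotient.eq_zero_iff_mem]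
    exact hJIsq t ht t' ht'
  let ψ : (B ⧸ J) →ₐ[A] (B ⧸ JI) := Ideal.Quotient.factorₐ A le_sup_left
  have hψ : ∃ k' : ℕ, ∀ x ∈ (I.map (Ideal.Quotient.mk J)) ^ k', ψ x = 0 := by
    refine ⟨k, fun x hx => ?_⟩
    rw [← Ideal.map_pow] at hx
    obtain ⟨y, hy, rfl⟩ := (Ideal.mem_map_iff_of_surjective _ Ideal.Quotient.mk_surjective).1 hx
    change Ideal.Quotient.mk JI y = 0
    exact Ideal.Quotient.eq_zero_iff_mem.2 (Ideal.mem_sup_right hy)
  obtain ⟨χ, hχ⟩ := lift_of_surjective hC p hp hsq ψ hψ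
  let θ : (B ⧸ KK J Q) →ₐ[A] (B ⧸ Kk) × (B ⧸ J) :=
    AlgHom.prod (Ideal.Quotient.factorₐ A le_sup_left) (piQ A J Q)
  have hθinj : Function.Injective θ := by
    rw [injective_iff_map_eq_zero]
    intro e he
    obtain ⟨x, rfl⟩ := Ideal.Quotient.mk_surjective e
    have h1 : Ideal.Quotient.mk Kk x = 0 := congrArg Prod.fst he
    have h2 : Ideal.Quotient.mk J x = 0 := congrArg Prod.snd he
    rw [Ideal.Quotient.eq_zero_iff_mem] at h1 h2 ⊢
    obtain ⟨κ, hκ, i, hi, hx⟩ := Submodule.mem_sup.1 h1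
    have hiJ : i ∈ J := by
      have : i = x - κ := by rw [← hx]; ring
      rw [this]
      exact J.sub_mem h2 (KK_le J Q hκ)
    rw [← hx]
    exact (KK J Q).add_mem hκ (hAR ⟨hi, hiJ⟩)
  let Γ : (B ⧸ J) →ₐ[A] (B ⧸ Kk) × (B ⧸ J) := AlgHom.prod χ (AlgHom.id A _)
  have hΓ : ∀ c, Γ c ∈ θ.range := by
    intro c
    obtain ⟨b, rfl⟩ := Ideal.Quotient.mk_surjective c
    obtain ⟨b', hb'⟩ := Ideal.Quotient.mk_surjective (χ (Ideal.Quotient.mk J b))
    have h1 : p (χ (Ideal.Quotient.mk J b)) = ψ (Ideal.Quotient.mk J b) := AlgHom.congr_fun hχ _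
    rw [← hb'] at h1
    have h2 : Ideal.Quotient.mk JI b' = Ideal.Quotient.mk JI b := h1
    rw [Ideal.Quotient.eq] at h2
    obtain ⟨j, hj, i, hi, hji⟩ := Submodule.mem_sup.1 h2
    refine ⟨Ideal.Quotient.mk (KK J Q) (b + j), ?_⟩
    apply Prod.ext
    · change Ideal.Quotient.mk Kk (b + j) = χ (Ideal.Quotient.mk J b)
      rw [← hb', Ideal.Quotient.eq]
      have : b + j - b' = -i := by
        have : b' = b + (j + i) := by rw [hji]; ring
        rw [this]
        ring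
      rw [this]
      exact Kk.neg_mem (Ideal.mem_sup_right hi)
    · change Ideal.Quotient.mk J (b + j) = Ideal.Quotient.mk J b
      rw [Ideal.Quotient.eq]
      have : b + j - b = j := by ring
      rw [this]
      exact hj
  refine ⟨((AlgEquiv.ofInjective θ hθinj).symm : θ.range →ₐ[A] _).comp
    (Γ.codRestrict θ.range hΓ), fun c => ?_⟩
  have h1 : AlgEquiv.ofInjective θ hθinj ((AlgEquiv.ofInjective θ hθinj).symm
      (Γ.codRestrict θ.range hΓ c)) = Γ.codRestrict θ.range hΓ c := AlgEquiv.apply_symm_apply _ _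
  have h2 := congrArg Subtype.val h1
  rw [AlgEquiv.ofInjective_apply, AlgHom.coe_codRestrict] at h2
  exact congrArg Prod.snd h2

end Setup

end H6Adic
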