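import Groth.Agent.Lib.helper6.AdicSmooth
import Mathlib.RingTheory.TensorProduct.Basic
import Mathlib.LinearAlgebra.TensorProduct.Tower

/-! Retractions of the base-changed conormal map and sections of `B/(J² + Q'J) → B/J` (helper6). -/

set_option autoImplicit false
universe u

namespace H6Adic

open CAlgX TensorProduct KaehlerDifferential

section Tensor

variable {A B : Type u} [CommRing A] [CommRing B] [Algebra A B] (J : Ideal B) (Q : Ideal (B ⧸ J))

/-- the kernel of `B → B/J` (equal to `J`) -/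
abbrev Jk : Ideal B := RingHom.ker (algebraMap B (B ⧸ J))

lemma ker_eq : Jk J = J := Ideal.mk_ker

/-- `(B/J)/Q` -/
abbrev Cb := (B ⧸ J) ⧸ Q

/-- `(B/J)/Q ⊗ J/J²` -/
abbrev WW := Cb J Q ⊗[B] (Jk J).Cotangent

lemma algebraMap_Cb_eq_zero {b : B} (hb : b ∈ Qp J Q) : algebraMap B (Cb J Q) b = 0 := by
  change Ideal.Quotient.mk Q (Ideal.Quotient.mk J b) = 0
  exact Ideal.Quotient.eq_zero_iff_mem.2 hb

/-- `j ↦ 1 ⊗ [j]` -/
noncomputable def tau : Jk J →ₗ[B] WW J Q :=
  (TensorProduct.mk B (Cb J Q) (Jk J).Cotangent 1) ∘ₗ (Jk J).toCotangent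

lemma tau_apply (x : Jk J) : tau J Q x = (1 : Cb J Q) ⊗ₜ[B] ((Jk J).toCotangent x) := rfl

lemma tau_smul_eq_zero {b : B} (hb : b ∈ Qp J Q) (x : Jk J) : tau J Q (b • x) = 0 := by
  have h0 : b • (1 : Cb J Q) = 0 := by
    rw [← Algebra.algebraMap_eq_smul_one]
    exact algebraMap_Cb_eq_zero J Q hb
  rw [map_smul, tau_apply, TensorProduct.smul_tmul', h0, TensorProduct.zero_tmul]

lemma tau_eq_zero_of_mem (x : Jk J) (hx : (x : B) ∈ KK J Q) : tau J Q x = 0 := by
  have hS : ((Jk J) • (⊤ : Submodule B (Jk J)) ⊔ Qp J Q • (⊤ : Submodule B (Jk J))) ≤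
      LinearMap.ker (tau J Q) := by
    apply sup_le
    · rw [Submodule.smul_le]
      intro r hr n _
      exact LinearMap.mem_ker.2 (tau_smul_eq_zero J Q (J_le_Qp J Q ((ker_eq J).le hr)) n)
    · rw [Submodule.smul_le]
      intro r hr n _
      exact LinearMap.mem_ker.2 (tau_smul_eq_zero J Q hr n)
  have hmap : Submodule.map (Jk J).subtype
      ((Jk J) • (⊤ : Submodule B (Jk J)) ⊔ Qp J Q • (⊤ : Submodule B (Jk J))) = KK J Q := by
    rw [Submodule.map_sup, Submodule.map_smul'', Submodule.map_smul'', Submodule.map_subtype_top,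
      KK, pow_two, ker_eq J]
    rfl
  have hx' : (Jk J).subtype x ∈ Submodule.map (Jk J).subtype
      ((Jk J) • (⊤ : Submodule B (Jk J)) ⊔ Qp J Q • (⊤ : Submodule B (Jk J))) := by
    rw [hmap]
    exact hx
  obtain ⟨y, hy, hyx⟩ := hx'
  have : y = x := Subtype.ext hyx
  rw [← this]
  exact LinearMap.mem_ker.1 (hS hy)

theorem retraction_of_section (hσ : HasSection A J Q) :
    ∃ g : Cb J Q ⊗[B] ((B ⧸ J) ⊗[B] Ω[B⁄A]) →ₗ[Cb J Q] Cb J Q ⊗[B] (Jk J).Cotangent,
      g ∘ₗ LinearMap.baseChange (Cb J Q) (kerCotangentToTensor A B (B ⧸ J)) = LinearMap.id := by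
  classical
  obtain ⟨σ, hσ⟩ := hσ
  let F : B → B ⧸ KK J Q := fun b =>
    Ideal.Quotient.mk (KK J Q) b - σ (Ideal.Quotient.mk J b)
  have hFdef : ∀ b, F b = Ideal.Quotient.mk (KK J Q) b - σ (Ideal.Quotient.mk J b) := fun b => rfl
  have hex : ∀ b : B, ∃ j : Jk J, Ideal.Quotient.mk (KK J Q) (j : B) = F b := by
    intro b
    obtain ⟨x, hx⟩ := Ideal.Quotient.mk_surjective (F b)
    have hxJ : x ∈ J := by
      have := congrArg (piQ A J Q) hx
      rw [hFdef, map_sub, hσ] at this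
      change Ideal.Quotient.mk J x = Ideal.Quotient.mk J b - Ideal.Quotient.mk J b at this
      rw [sub_self] at this
      exact Ideal.Quotient.eq_zero_iff_mem.1 this
    exact ⟨⟨x, (ker_eq J).ge hxJ⟩, hx⟩
  choose jb hjb using hex
  have hwd : ∀ x y : Jk J, Ideal.Quotient.mk (KK J Q) (x : B) = Ideal.Quotient.mk (KK J Q) (y : B) →
      tau J Q x = tau J Q y := by
    intro x y h
    rw [← sub_eq_zero, ← map_sub]
    apply tau_eq_zero_of_mem
    rw [Submodule.coe_sub]
    exact Ideal.Quotient.eq.1 h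
  have hF_add : ∀ b b', F (b + b') = F b + F b' := by
    intro b b'
    simp only [hFdef, map_add]
    ring
  have hσalg : ∀ a : A, σ (Ideal.Quotient.mk J (algebraMap A B a)) =
      Ideal.Quotient.mk (KK J Q) (algebraMap A B a) := fun a => σ.commutes a
  have hF_alg : ∀ (a : A) b, F (algebraMap A B a * b) =
      Ideal.Quotient.mk (KK J Q) (algebraMap A B a) * F b := by
    intro a b
    simp only [hFdef, map_mul, hσalg]
    ring
  have hF_one : F 1 = 0 := by
    simp only [hFdef, map_one, sub_self]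
  have hFF : ∀ b b', F b * F b' = 0 := by
    intro b b'
    rw [← hjb, ← hjb, ← map_mul, Ideal.Quotient.eq_zero_iff_mem]
    apply sq_le_KK J Q
    rw [pow_two]
    exact Ideal.mul_mem_mul ((ker_eq J).le (jb b).2) ((ker_eq J).le (jb b').2)
  have hF_mul : ∀ b b', F (b * b') =
      Ideal.Quotient.mk (KK J Q) b * F b' + Ideal.Quotient.mk (KK J Q) b' * F b := by
    intro b b'
    have h := hFF b b'
    simp only [hFdef, map_mul] at h ⊢
    linear_combination (-1 : B ⧸ KK J Q) * h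
  let D' : Derivation A B (WW J Q) :=
    { toFun := fun b => tau J Q (jb b)
      map_add' := fun b b' => by
        rw [← map_add]
        apply hwd
        rw [Submodule.coe_add, map_add, hjb, hjb, hjb, hF_add]
      map_smul' := fun a b => by
        rw [RingHom.id_apply, ← algebraMap_smul B a (tau J Q (jb b)), ← map_smul]
        apply hwd
        rw [hjb, Submodule.coe_smul, smul_eq_mul, map_mul, hjb, Algebra.smul_def, hF_alg]
      map_one_eq_zero' := by
        change tau J Q (jb 1) = 0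
        rw [← map_zero (tau J Q)]
        apply hwd
        rw [hjb, hF_one, Submodule.coe_zero, map_zero]
      leibniz' := fun b b' => by
        change tau J Q (jb (b * b')) = b • tau J Q (jb b') + b' • tau J Q (jb b)
        rw [← map_smul, ← map_smul, ← map_add]
        apply hwd
        rw [hjb, Submodule.coe_add, Submodule.coe_smul, Submodule.coe_smul, smul_eq_mul,
          smul_eq_mul, map_add, map_mul, map_mul, hjb, hjb, hF_mul] }
  have hD'J : ∀ j : Jk J, D' (j : B) = tau J Q j := by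
    intro j
    change tau J Q (jb (j : B)) = tau J Q j
    apply hwd
    rw [hjb, hFdef, Ideal.Quotient.eq_zero_iff_mem.2 ((ker_eq J).le j.2), map_zero, sub_zero]
  refine ⟨LinearMap.liftBaseChange (Cb J Q)
    ((LinearMap.liftBaseChange (B ⧸ J) D'.liftKaehlerDifferential).restrictScalars B), ?_⟩
  apply TensorProduct.AlgebraTensorModule.ext
  intro c x
  obtain ⟨j, rfl⟩ := Ideal.toCotangent_surjective _ x
  rw [LinearMap.comp_apply, LinearMap.baseChange_tmul, kerCotangentToTensor_toCotangent,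
    LinearMap.liftBaseChange_tmul, LinearMap.restrictScalars_apply, LinearMap.liftBaseChange_tmul,
    one_smul, Derivation.liftKaehlerDifferential_comp_D, hD'J, tau_apply,
    TensorProduct.smul_tmul', smul_eq_mul, mul_one, LinearMap.id_apply]

theorem section_of_retraction
    (g : Cb J Q ⊗[B] ((B ⧸ J) ⊗[B] Ω[B⁄A]) →ₗ[Cb J Q] Cb J Q ⊗[B] (Jk J).Cotangent)
    (hg : g ∘ₗ LinearMap.baseChange (Cb J Q) (kerCotangentToTensor A B (B ⧸ J)) = LinearMap.id) :
    HasSection A J Q := by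
  classical
  let γ : Ω[B⁄A] →ₗ[B] WW J Q := (g.restrictScalars B) ∘ₗ
    (TensorProduct.mk B (Cb J Q) ((B ⧸ J) ⊗[B] Ω[B⁄A]) 1) ∘ₗ (TensorProduct.mk B (B ⧸ J) Ω[B⁄A] 1)
  have hγJ : ∀ j : Jk J, γ (D A B (j : B)) = tau J Q j := by
    intro j
    have h1 := LinearMap.congr_fun hg ((1 : Cb J Q) ⊗ₜ[B] (Jk J).toCotangent j)
    rw [LinearMap.comp_apply, LinearMap.baseChange_tmul, kerCotangentToTensor_toCotangent,
      LinearMap.id_apply] at h1
    exact h1
  -- the map `W → B/(J² + Q'J)`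
  let ν₀ : Jk J →ₗ[B] (B ⧸ KK J Q) := (Algebra.linearMap B (B ⧸ KK J Q)) ∘ₗ (Jk J).subtype
  have hν₀a : ∀ j : Jk J, ν₀ j = Ideal.Quotient.mk (KK J Q) (j : B) := fun j => rfl
  have hν₀ : (Jk J) • (⊤ : Submodule B (Jk J)) ≤ LinearMap.ker ν₀ := by
    rw [Submodule.smul_le]
    intro r hr n _
    rw [LinearMap.mem_ker, hν₀a, Submodule.coe_smul, smul_eq_mul, Ideal.Quotient.eq_zero_iff_mem]
    apply sq_le_KK J Q
    rw [pow_two]
    exact Ideal.mul_mem_mul ((ker_eq J).le hr) ((ker_eq J).le n.2)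
  let ν₁ : (Jk J).Cotangent →ₗ[B] (B ⧸ KK J Q) := Submodule.liftQ _ ν₀ hν₀
  have hν₁ : ∀ j : Jk J, ν₁ ((Jk J).toCotangent j) = Ideal.Quotient.mk (KK J Q) (j : B) :=
    fun j => rfl
  let β₀ : B →ₗ[B] ((Jk J).Cotangent →ₗ[B] (B ⧸ KK J Q)) := LinearMap.toSpanSingleton B _ ν₁
  have hβ₀a : ∀ (b : B) (j : Jk J), β₀ b ((Jk J).toCotangent j) =
      Ideal.Quotient.mk (KK J Q) (b * (j : B)) := by
    intro b j
    change b • ν₁ ((Jk J).toCotangent j) = _
    rw [hν₁, Algebra.smul_def, map_mul]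
    rfl
  have hβ₀ : ∀ b ∈ Qp J Q, β₀ b = 0 := by
    intro b hb
    apply LinearMap.ext
    intro x
    obtain ⟨j, rfl⟩ := Ideal.toCotangent_surjective _ x
    rw [hβ₀a, LinearMap.zero_apply, Ideal.Quotient.eq_zero_iff_mem]
    exact mul_le_KK J Q (Ideal.mul_mem_mul hb ((ker_eq J).le j.2))
  let β₁ : (B ⧸ J) →ₗ[B] ((Jk J).Cotangent →ₗ[B] (B ⧸ KK J Q)) :=
    Submodule.liftQ J β₀ (fun b hb => LinearMap.mem_ker.2 (hβ₀ b (J_le_Qp J Q hb)))
  have hβ₁ : ∀ b : B, β₁ (Ideal.Quotient.mk J b) = β₀ b := fun b => rfl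
  let β₂ : ((B ⧸ J) ⧸ Q.restrictScalars B) →ₗ[B] ((Jk J).Cotangent →ₗ[B] (B ⧸ KK J Q)) :=
    Submodule.liftQ (Q.restrictScalars B) β₁ (by
      intro c hc
      obtain ⟨b, rfl⟩ := Ideal.Quotient.mk_surjective c
      rw [LinearMap.mem_ker, hβ₁]
      exact hβ₀ b hc)
  let β : Cb J Q →ₗ[B] ((Jk J).Cotangent →ₗ[B] (B ⧸ KK J Q)) :=
    β₂ ∘ₗ (Submodule.Quotient.restrictScalarsEquiv B Q).symm.toLinearMap
  have hβ : ∀ b : B, β (Ideal.Quotient.mk Q (Ideal.Quotient.mk J b)) = β₀ b := fun b => rfl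
  let ν : WW J Q →ₗ[B] (B ⧸ KK J Q) := TensorProduct.lift β
  have hν : ∀ (b : B) (j : Jk J),
      ν ((Ideal.Quotient.mk Q (Ideal.Quotient.mk J b)) ⊗ₜ[B] (Jk J).toCotangent j) =
        Ideal.Quotient.mk (KK J Q) (b * (j : B)) := by
    intro b j
    exact (TensorProduct.lift.tmul _ _).trans (by rw [hβ, hβ₀a])
  have hντ : ∀ j : Jk J, ν (tau J Q j) = Ideal.Quotient.mk (KK J Q) (j : B) := by
    intro j
    have := hν 1 j
    rw [one_mul, map_one, map_one] at this
    exact this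
  have hνmem : ∀ w : WW J Q, ∃ j ∈ J, ν w = Ideal.Quotient.mk (KK J Q) j := by
    intro w
    induction w using TensorProduct.induction_on with
    | zero => exact ⟨0, J.zero_mem, by rw [map_zero, map_zero]⟩
    | tmul c x =>
      obtain ⟨c', rfl⟩ := Ideal.Quotient.mk_surjective c
      obtain ⟨b, rfl⟩ := Ideal.Quotient.mk_surjective c'
      obtain ⟨j, rfl⟩ := Ideal.toCotangent_surjective _ x
      exact ⟨b * (j : B), J.mul_mem_left b ((ker_eq J).le j.2), hν b j⟩
    | add w₁ w₂ h₁ h₂ =>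
      obtain ⟨j₁, hj₁, e₁⟩ := h₁
      obtain ⟨j₂, hj₂, e₂⟩ := h₂
      exact ⟨j₁ + j₂, J.add_mem hj₁ hj₂, by rw [map_add, e₁, e₂, map_add]⟩
  have hνν : ∀ w w' : WW J Q, ν w * ν w' = 0 := by
    intro w w'
    obtain ⟨j, hj, e⟩ := hνmem w
    obtain ⟨j', hj', e'⟩ := hνmem w'
    rw [e, e', ← map_mul, Ideal.Quotient.eq_zero_iff_mem]
    apply sq_le_KK J Q
    rw [pow_two]
    exact Ideal.mul_mem_mul hj hj'
  let n : B → B ⧸ KK J Q := fun b => ν (γ (D A B b))
  have hn_def : ∀ b, n b = ν (γ (D A B b)) := fun b => rfl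
  have hn_add : ∀ b b', n (b + b') = n b + n b' := by
    intro b b'
    rw [hn_def, map_add, map_add, map_add]
  have hn_mul : ∀ b b', n (b * b') =
      Ideal.Quotient.mk (KK J Q) b * n b' + Ideal.Quotient.mk (KK J Q) b' * n b := by
    intro b b'
    rw [hn_def, Derivation.leibniz, map_add, map_add, map_smul, map_smul, map_smul, map_smul,
      Algebra.smul_def, Algebra.smul_def]
    rfl
  have hn_alg : ∀ a : A, n (algebraMap A B a) = 0 := by
    intro a
    rw [hn_def, Derivation.map_algebraMap, map_zero, map_zero]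
  let f : B →ₐ[A] B ⧸ KK J Q :=
    { toFun := fun b => Ideal.Quotient.mk (KK J Q) b - n b
      map_one' := by
        have : n 1 = 0 := by
          have := hn_alg 1
          rwa [map_one] at this
        show Ideal.Quotient.mk (KK J Q) 1 - n 1 = 1
        rw [this, sub_zero, map_one]
      map_mul' := fun b b' => by
        have h := hνν (γ (D A B b)) (γ (D A B b'))
        change n b * n b' = 0 at h
        show Ideal.Quotient.mk (KK J Q) (b * b') - n (b * b') =
          (Ideal.Quotient.mk (KK J Q) b - n b) * (Ideal.Quotient.mk (KK J Q) b' - n b')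
        rw [hn_mul, map_mul]
        linear_combination (-1 : B ⧸ KK J Q) * h
      map_zero' := by
        have : n 0 = 0 := by
          have := hn_alg 0
          rwa [map_zero] at this
        show Ideal.Quotient.mk (KK J Q) 0 - n 0 = 0
        rw [this, sub_zero, map_zero]
      map_add' := fun b b' => by
        show Ideal.Quotient.mk (KK J Q) (b + b') - n (b + b') =
          (Ideal.Quotient.mk (KK J Q) b - n b) + (Ideal.Quotient.mk (KK J Q) b' - n b')
        rw [hn_add, map_add]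
        ring
      commutes' := fun a => by
        show Ideal.Quotient.mk (KK J Q) (algebraMap A B a) - n (algebraMap A B a) = _
        rw [hn_alg, sub_zero]
        rfl }
  have hf_def : ∀ b, f b = Ideal.Quotient.mk (KK J Q) b - n b := fun b => rfl
  have hfJ : ∀ j : B, j ∈ J → f j = 0 := by
    intro j hj
    rw [hf_def, hn_def]
    have := hγJ ⟨j, (ker_eq J).ge hj⟩
    rw [this, hντ, sub_self]
  refine ⟨Ideal.Quotient.liftₐ J f hfJ, fun c => ?_⟩
  obtain ⟨b, rfl⟩ := Ideal.Quotient.mk_surjective c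
  change piQ A J Q (f b) = _
  rw [hf_def, map_sub]
  obtain ⟨j, hj, e⟩ := hνmem (γ (D A B b))
  rw [hn_def, e]
  change Ideal.Quotient.mk J b - Ideal.Quotient.mk J j = Ideal.Quotient.mk J b
  rw [Ideal.Quotient.eq_zero_iff_mem.2 hj, sub_zero]

end Tensor

end H6Adic
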