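import Groth.Prelude.Def_ArtFun2
import Mathlib

/-! Helper lemmas on the category `ArtFun.Art Λ k` (helper6). -/

set_option autoImplicit false
universe u v
open CategoryTheory

namespace H6Art

open ArtFun ArtFun.Art

variable {Λ : Type u} {k : Type u} [CommRing Λ] [Field k] [Algebra Λ k]

/-- A bijective morphism of `Art Λ k` is an isomorphism. -/
theorem isIso_of_bijective {A B : Art Λ k} (f : B ⟶ A) (hf : Function.Bijective f) : IsIso f := by
  let e : B ≃ₐ[Λ] A := AlgEquiv.ofBijective f.toAlgHom hf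
  have he : ∀ b, e b = f b := fun _ => rfl
  refine ⟨⟨Art.homMk (e.symm : A →ₐ[Λ] B) ?_, ?_, ?_⟩⟩
  · apply AlgHom.ext
    intro a
    obtain ⟨b, rfl⟩ := hf.2 a
    change B.res (e.symm (f b)) = A.res (f b)
    rw [← he, AlgEquiv.symm_apply_apply, he, Art.res_app]
  · apply Art.hom_ext
    apply AlgHom.ext
    intro b
    change e.symm (f b) = b
    rw [← he, AlgEquiv.symm_apply_apply]
  · apply Art.hom_ext
    apply AlgHom.ext
    intro a
    change f (e.symm a) = a
    rw [← he, AlgEquiv.apply_symm_apply]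

/-- The quotient of an object by an ideal contained in the kernel of the augmentation. -/
@[reducible] noncomputable def quot (B : Art Λ k) (J : Ideal B) (hJ : J ≤ RingHom.ker (B.res : B →+* k)) : Art Λ k :=
  haveI : Nontrivial (B ⧸ J) := by
    rw [Ideal.Quotient.nontrivial_iff]
    intro h
    have : (1 : B) ∈ RingHom.ker (B.res : B →+* k) := hJ (h ▸ Submodule.mem_top)
    rw [RingHom.mem_ker] at this
    simp at this
  haveI : IsLocalRing (B ⧸ J) :=
    IsLocalRing.of_surjective' (Ideal.Quotient.mk J) Ideal.Quotient.mk_surjective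
  haveI : IsArtinianRing (B ⧸ J) :=
    Function.Surjective.isArtinianRing (f := Ideal.Quotient.mk J) Ideal.Quotient.mk_surjective
  { carrier := B ⧸ J
    res := Ideal.Quotient.liftₐ J B.res (fun a ha => by
      have := hJ ha
      rwa [RingHom.mem_ker] at this)
    res_surjective := fun c => by
      obtain ⟨b, rfl⟩ := B.res_surjective c
      exact ⟨Ideal.Quotient.mk J b, rfl⟩ }

lemma ker_le_ker_res {A B : Art Λ k} (f : B ⟶ A) :
    RingHom.ker (f.toAlgHom : B →+* A) ≤ RingHom.ker (B.res : B →+* k) := by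
  intro b hb
  rw [RingHom.mem_ker] at hb ⊢
  have h : A.res (f b) = B.res b := Art.res_app f b
  have hb' : f b = 0 := hb
  change B.res b = 0
  rw [← h, hb', map_zero]

/-- The quotient map as a morphism. -/
noncomputable def quotMk (B : Art Λ k) (J : Ideal B) (hJ : J ≤ RingHom.ker (B.res : B →+* k)) :
    B ⟶ quot B J hJ :=
  Art.homMk (Ideal.Quotient.mkₐ Λ J) (AlgHom.ext fun _ => rfl)

lemma quotMk_apply (B : Art Λ k) (J : Ideal B) (hJ : J ≤ RingHom.ker (B.res : B →+* k)) (b : B) :
    quotMk B J hJ b = Ideal.Quotient.mk J b := rfl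

lemma quotMk_surjective (B : Art Λ k) (J : Ideal B) (hJ : J ≤ RingHom.ker (B.res : B →+* k)) :
    Function.Surjective (quotMk B J hJ) := Ideal.Quotient.mk_surjective

/-- The transition map between quotients. -/
noncomputable def quotFactor (B : Art Λ k) {J J' : Ideal B} (h : J ≤ J')
    (hJ' : J' ≤ RingHom.ker (B.res : B →+* k)) :
    quot B J (h.trans hJ') ⟶ quot B J' hJ' :=
  Art.homMk (Ideal.Quotient.factorₐ Λ h) (AlgHom.ext fun x => by
    obtain ⟨b, rfl⟩ := Ideal.Quotient.mk_surjective x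
    rfl)

lemma quotFactor_mk (B : Art Λ k) {J J' : Ideal B} (h : J ≤ J')
    (hJ' : J' ≤ RingHom.ker (B.res : B →+* k)) (b : B) :
    quotFactor B h hJ' (Ideal.Quotient.mk J b) = Ideal.Quotient.mk J' b := rfl

/-- The induced map out of a quotient. -/
noncomputable def quotLift {A B : Art Λ k} (f : B ⟶ A) (J : Ideal B)
    (hJ : J ≤ RingHom.ker (f.toAlgHom : B →+* A)) :
    quot B J (hJ.trans (ker_le_ker_res f)) ⟶ A :=
  Art.homMk (Ideal.Quotient.liftₐ J f.toAlgHom (fun a ha => by
      have := hJ ha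
      rwa [RingHom.mem_ker] at this)) (AlgHom.ext fun x => by
    obtain ⟨b, rfl⟩ := Ideal.Quotient.mk_surjective x
    exact Art.res_app f b)

lemma quotLift_mk {A B : Art Λ k} (f : B ⟶ A) (J : Ideal B)
    (hJ : J ≤ RingHom.ker (f.toAlgHom : B →+* A)) (b : B) :
    quotLift f J hJ (Ideal.Quotient.mk J b) = f b := rfl

lemma quotMk_comp_quotLift {A B : Art Λ k} (f : B ⟶ A) (J : Ideal B)
    (hJ : J ≤ RingHom.ker (f.toAlgHom : B →+* A)) :
    quotMk B J (hJ.trans (ker_le_ker_res f)) ≫ quotLift f J hJ = f := by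
  apply Art.hom_ext
  apply AlgHom.ext
  intro b
  rfl

lemma quotFactor_comp_quotLift {A B : Art Λ k} (f : B ⟶ A) {J J' : Ideal B} (h : J ≤ J')
    (hJ' : J' ≤ RingHom.ker (f.toAlgHom : B →+* A)) :
    quotFactor B h (hJ'.trans (ker_le_ker_res f)) ≫ quotLift f J' hJ' = quotLift f J (h.trans hJ') := by
  apply Art.hom_ext
  apply AlgHom.ext
  intro x
  obtain ⟨b, rfl⟩ := Ideal.Quotient.mk_surjective x
  rfl

lemma maximalIdeal_eq_ker_res (B : Art Λ k) :
    IsLocalRing.maximalIdeal B = RingHom.ker (B.res : B →+* k) := by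
  ext b
  rw [Art.mem_maximalIdeal_iff, RingHom.mem_ker]
  rfl

/-- In an Artinian local ring, between two ideals `J < K` there is an element of `K` not in `J`
which is multiplied into `J` by the maximal ideal. -/
lemma exists_socle_elt (B : Type u) [CommRing B] [IsLocalRing B] [IsArtinianRing B]
    {J K : Ideal B} (hJK : J < K) :
    ∃ y ∈ K, y ∉ J ∧ ∀ b ∈ IsLocalRing.maximalIdeal B, b * y ∈ J := by
  classical
  set m := IsLocalRing.maximalIdeal B with hm
  have hnil : ∃ n, m ^ n * K ≤ J := by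
    have h1 : IsNilpotent (Ideal.jacobson (⊥ : Ideal B)) := IsArtinianRing.isNilpotent_jacobson_bot
    rw [IsLocalRing.jacobson_eq_maximalIdeal ⊥ bot_ne_top] at h1
    obtain ⟨n, hn⟩ := h1
    refine ⟨n, ?_⟩
    rw [← hm] at hn
    rw [hn]
    simp
  set n := Nat.find hnil with hn
  have hspec : m ^ n * K ≤ J := Nat.find_spec hnil
  have hn0 : n ≠ 0 := by
    intro h0
    rw [h0, pow_zero, one_mul] at hspec
    exact absurd hspec (not_le_of_gt hJK)
  obtain ⟨n', hn'⟩ := Nat.exists_eq_succ_of_ne_zero hn0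
  have hmin : ¬ (m ^ n' * K ≤ J) := Nat.find_min hnil (by rw [← hn, hn']; exact Nat.lt_succ_self _)
  obtain ⟨y, hy, hyJ⟩ := SetLike.not_le_iff_exists.mp hmin
  refine ⟨y, Ideal.mul_le_right hy, hyJ, fun b hb => ?_⟩
  apply hspec
  rw [hn', pow_succ', mul_assoc]
  exact Ideal.mul_mem_mul hb hy

lemma isSmallExt_quotFactor_span (B : Art Λ k) {J : Ideal B} {y : B}
    (hyJ : y ∉ J) (hmy : ∀ b ∈ IsLocalRing.maximalIdeal B, b * y ∈ J)
    (hJ' : J ⊔ Ideal.span {y} ≤ RingHom.ker (B.res : B →+* k)) :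
    IsSmallExt (quotFactor B (le_sup_left : J ≤ J ⊔ Ideal.span {y}) hJ') := by
  set J' := J ⊔ Ideal.span {y} with hJ'def
  have hJJ' : J ≤ J' := le_sup_left
  set q := quotFactor B hJJ' hJ' with hq
  have hker : RingHom.ker q.toAlgHom =
      Ideal.span {(Ideal.Quotient.mk J y : quot B J (hJJ'.trans hJ'))} := by
    apply le_antisymm
    · intro x hx
      obtain ⟨b, rfl⟩ := Ideal.Quotient.mk_surjective x
      rw [RingHom.mem_ker] at hx
      have hx' : Ideal.Quotient.mk J' b = 0 := hx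
      rw [Ideal.Quotient.eq_zero_iff_mem, hJ'def, Submodule.mem_sup] at hx'
      obtain ⟨j, hj, z, hz, rfl⟩ := hx'
      obtain ⟨c, rfl⟩ := Ideal.mem_span_singleton'.1 hz
      rw [Ideal.mem_span_singleton']
      refine ⟨Ideal.Quotient.mk J c, ?_⟩
      rw [map_add, map_mul, (Ideal.Quotient.eq_zero_iff_mem).2 hj, zero_add]
    · rw [Ideal.span_le, Set.singleton_subset_iff, SetLike.mem_coe, RingHom.mem_ker]
      change Ideal.Quotient.mk J' y = 0
      rw [Ideal.Quotient.eq_zero_iff_mem]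
      exact Ideal.mem_sup_right (Ideal.subset_span rfl)
  refine ⟨?_, ?_, ?_, ?_⟩
  · intro x
    obtain ⟨b, rfl⟩ := Ideal.Quotient.mk_surjective x
    exact ⟨Ideal.Quotient.mk J b, rfl⟩
  · rw [hker]
    intro h
    rw [Ideal.span_singleton_eq_bot] at h
    exact hyJ ((Ideal.Quotient.eq_zero_iff_mem).1 h)
  · rw [hker]
    exact ⟨⟨_, rfl⟩⟩
  · rw [hker, ← le_bot_iff, Ideal.mul_le]
    intro a ha x hx
    obtain ⟨c, rfl⟩ := Ideal.mem_span_singleton'.1 hx
    obtain ⟨b, rfl⟩ := Ideal.Quotient.mk_surjective a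
    have hb : b ∈ IsLocalRing.maximalIdeal B := by
      rw [Art.mem_maximalIdeal_iff] at ha ⊢
      exact ha
    have : Ideal.Quotient.mk J b * (c * Ideal.Quotient.mk J y) = c * Ideal.Quotient.mk J (b * y) := by
      rw [map_mul]; ring
    rw [Ideal.mem_bot]
    refine this.trans ?_
    rw [(Ideal.Quotient.eq_zero_iff_mem).2 (hmy b hb), mul_zero]

/-- Induction principle: every surjection in `Art Λ k` is a composite of small extensions and an
isomorphism. -/
theorem surjective_induction_smallExt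
    (P : ∀ ⦃A B : Art Λ k⦄, (B ⟶ A) → Prop)
    (hiso : ∀ ⦃A B : Art Λ k⦄ (e : B ⟶ A), IsIso e → P e)
    (hsmall : ∀ ⦃A B : Art Λ k⦄ (p : B ⟶ A), IsSmallExt p → P p)
    (hcomp : ∀ ⦃A B C : Art Λ k⦄ (p : C ⟶ B) (q : B ⟶ A), P p → P q → P (p ≫ q))
    ⦃A B : Art Λ k⦄ (f : B ⟶ A) (hf : Function.Surjective f) : P f := by
  set K := RingHom.ker (f.toAlgHom : B →+* A) with hK
  have key : ∀ J : Ideal B, ∀ hJ : J ≤ K, P (quotLift f J hJ) := by
    intro J
    induction J using WellFoundedGT.induction with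
    | ind J ih =>
      intro hJ
      by_cases hJK : J = K
      · apply hiso
        apply isIso_of_bijective
        constructor
        · intro x x' hxx'
          obtain ⟨b, rfl⟩ := Ideal.Quotient.mk_surjective x
          obtain ⟨b', rfl⟩ := Ideal.Quotient.mk_surjective x'
          have h1 : f b = f b' := hxx'
          apply (Ideal.Quotient.eq).2
          rw [hJK, hK, RingHom.mem_ker, map_sub]
          exact sub_eq_zero.2 h1
        · intro a
          obtain ⟨b, rfl⟩ := hf a
          exact ⟨Ideal.Quotient.mk J b, rfl⟩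
      · have hlt : J < K := lt_of_le_of_ne hJ hJK
        obtain ⟨y, hyK, hyJ, hmy⟩ := exists_socle_elt B hlt
        have hJ'K : J ⊔ Ideal.span {y} ≤ K :=
          sup_le hJ ((Ideal.span_le).2 (Set.singleton_subset_iff.2 hyK))
        have hlt' : J < J ⊔ Ideal.span {y} :=
          lt_of_le_of_ne le_sup_left
            (fun h => hyJ (h ▸ Ideal.mem_sup_right (Ideal.subset_span rfl)))
        have h2 := ih _ hlt' hJ'K
        rw [← quotFactor_comp_quotLift f le_sup_left hJ'K]
        exact hcomp _ _ (hsmall _ (isSmallExt_quotFactor_span B hyJ hmy _)) h2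
  have h0 := key ⊥ bot_le
  rw [← quotMk_comp_quotLift f ⊥ bot_le]
  refine hcomp _ _ (hiso _ (isIso_of_bijective _ ⟨?_, quotMk_surjective _ _ _⟩)) h0
  intro b b' hbb'
  have := (Ideal.Quotient.eq).1 hbb'
  rw [Ideal.mem_bot] at this
  exact sub_eq_zero.1 this

end H6Art
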