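import Groth.Agent.Lib.helper6.ArtEssential
import Mathlib.RingTheory.Etale.Field
import Mathlib.RingTheory.Ideal.GoingUp

/-! Coefficient fields: when `k` is separable over the image of `Λ`, every object of `Art Λ k`
killed by `m_Λ` receives a morphism from the base object `k`; essential surjections are detected
on relative cotangent spaces (helper6). -/

set_option autoImplicit false
universe u v
open CategoryTheory

namespace H6Art

open ArtFun ArtFun.Art IsLocalRing

variable {Λ : Type u} {k : Type u} [CommRing Λ] [Field k] [Algebra Λ k]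

section
variable (Λ k)
lemma ker_isMaximal [Module.Finite Λ k] : (RingHom.ker (algebraMap Λ k)).IsMaximal := by
  haveI : Algebra.IsIntegral Λ k := Algebra.IsIntegral.of_finite Λ k
  haveI : (⊥ : Ideal k).IsMaximal := Ideal.bot_isMaximal
  have := Ideal.isMaximal_comap_of_isIntegral_of_isMaximal (R := Λ) (S := k) (⊥ : Ideal k)
  rwa [← RingHom.ker_eq_comap_bot] at this
end

theorem exists_base_hom [Module.Finite Λ k] [Algebra.IsSeparable (↥(algebraMap Λ k).range) k]
    (Q : Art Λ k) (hQ : ∀ l : Λ, algebraMap Λ k l = 0 → algebraMap Λ Q l = 0) :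
    Nonempty (base Λ k ⟶ Q) := by
  haveI hmax : (RingHom.ker (algebraMap Λ k)).IsMaximal := ker_isMaximal Λ k
  letI iF : Field (Λ ⧸ RingHom.ker (algebraMap Λ k)) := Ideal.Quotient.field _
  letI iFk : Algebra (Λ ⧸ RingHom.ker (algebraMap Λ k)) k :=
    (Ideal.Quotient.lift (RingHom.ker (algebraMap Λ k)) (algebraMap Λ k) (fun a ha => ha)).toAlgebra
  haveI : IsScalarTower Λ (Λ ⧸ RingHom.ker (algebraMap Λ k)) k :=
    IsScalarTower.of_algebraMap_eq (fun _ => rfl)
  letI iFQ : Algebra (Λ ⧸ RingHom.ker (algebraMap Λ k)) Q :=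
    (Ideal.Quotient.lift (RingHom.ker (algebraMap Λ k)) (algebraMap Λ Q)
      (fun a ha => hQ a ha)).toAlgebra
  haveI : IsScalarTower Λ (Λ ⧸ RingHom.ker (algebraMap Λ k)) Q :=
    IsScalarTower.of_algebraMap_eq (fun _ => rfl)
  haveI hsep : Algebra.IsSeparable (Λ ⧸ RingHom.ker (algebraMap Λ k)) k := by
    refine ⟨fun x => ?_⟩
    let e' : ↥(algebraMap Λ k).range →+* (Λ ⧸ RingHom.ker (algebraMap Λ k)) :=
      (RingHom.quotientKerEquivRange (algebraMap Λ k)).symm.toRingHom
    have he' : (algebraMap (Λ ⧸ RingHom.ker (algebraMap Λ k)) k).comp e'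
        = algebraMap (↥(algebraMap Λ k).range) k := by
      ext y
      obtain ⟨z, rfl⟩ := (RingHom.quotientKerEquivRange (algebraMap Λ k)).surjective y
      obtain ⟨l, rfl⟩ := Ideal.Quotient.mk_surjective z
      simp only [e', RingHom.comp_apply, RingEquiv.toRingHom_eq_coe, RingHom.coe_coe,
        RingEquiv.symm_apply_apply]
      rfl
    have h0 : (minpoly (↥(algebraMap Λ k).range) x).Separable :=
      Algebra.IsSeparable.isSeparable _ x
    have h1 : ((minpoly (↥(algebraMap Λ k).range) x).map e').Separable := h0.map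
    have h2 : Polynomial.aeval x ((minpoly (↥(algebraMap Λ k).range) x).map e') = 0 := by
      rw [Polynomial.aeval_def, Polynomial.eval₂_map, he', ← Polynomial.aeval_def, minpoly.aeval]
    exact h1.of_dvd (minpoly.dvd _ x h2)
  haveI : Algebra.FormallyEtale (Λ ⧸ RingHom.ker (algebraMap Λ k)) k :=
    Algebra.FormallyEtale.of_isSeparable _ _
  let g : Q →ₐ[Λ ⧸ RingHom.ker (algebraMap Λ k)] k :=
    { Q.res.toRingHom with
      commutes' := fun z => by
        obtain ⟨l, rfl⟩ := Ideal.Quotient.mk_surjective z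
        exact Q.res.commutes l }
  have hg : Function.Surjective g := Q.res_surjective
  have hg' : IsNilpotent (RingHom.ker (g : Q →+* k)) := by
    obtain ⟨N, hN⟩ := exists_pow_maximalIdeal_eq_bot Q
    refine ⟨N + 1, ?_⟩
    have : RingHom.ker (g : Q →+* k) = maximalIdeal Q := (maximalIdeal_eq_ker_res Q).symm
    rw [this, hN]
    rfl
  let s₀ := Algebra.FormallySmooth.liftOfSurjective (AlgHom.id _ k) g hg hg'
  have hs₀ : ∀ c, g (s₀ c) = c := fun c =>
    Algebra.FormallySmooth.liftOfSurjective_apply _ g hg hg' c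
  exact ⟨Art.homMk (s₀.restrictScalars Λ) (AlgHom.ext fun c => hs₀ c)⟩

theorem essential_iff_cotangent [IsNoetherianRing Λ] [Module.Finite Λ k]
    [Algebra.IsSeparable (↥(algebraMap Λ k).range) k] {A B : Art Λ k} (f : B ⟶ A) :
    (Function.Surjective f ∧ ∀ (C : Art Λ k) (g : C ⟶ B),
        Function.Surjective (g ≫ f) → Function.Surjective g) ↔
      (Ideal.map (algebraMap Λ A) (RingHom.ker (algebraMap Λ k)) ⊔
          Ideal.map f.toAlgHom (maximalIdeal B) ⊔ maximalIdeal A ^ 2 = maximalIdeal A ∧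
        ∀ b ∈ maximalIdeal B, f b ∈ relN A → b ∈ relN B) := by
  constructor
  · rintro ⟨hf, hess⟩
    refine ⟨(surjective_iff_cotangent f).1 hf, ?_⟩
    intro b hb hfb
    by_contra hbN
    letI iBk : Algebra B k := B.res.toRingHom.toAlgebra
    obtain ⟨ℓ, hℓb, hℓI⟩ := H6Loc.exists_linearMap_residue (S := B) (k := k) B.res_surjective
      (relN B) le_sup_right b hb hbN
    let W : Ideal B := Submodule.map (Submodule.subtype (maximalIdeal B)) (LinearMap.ker ℓ)
    have hW_le : W ≤ maximalIdeal B := by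
      rintro _ ⟨y, -, rfl⟩
      exact y.2
    have hN_le : relN B ≤ W := fun x hx =>
      ⟨⟨x, relN_le B hx⟩, LinearMap.mem_ker.2 (hℓI _ hx), rfl⟩
    have hbW : b ∉ W := by
      rintro ⟨y, hy, hyb⟩
      have : y = ⟨b, hb⟩ := Subtype.ext hyb
      rw [this] at hy
      exact hℓb (LinearMap.mem_ker.1 hy)
    have hdec : ∀ x ∈ maximalIdeal B, ∃ β : B, x - β * b ∈ W := by
      intro x hx
      obtain ⟨β, hβ⟩ := B.res_surjective (ℓ ⟨x, hx⟩ / ℓ ⟨b, hb⟩)
      refine ⟨β, ⟨⟨x, hx⟩ - β • ⟨b, hb⟩, ?_, rfl⟩⟩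
      apply LinearMap.mem_ker.2
      rw [map_sub, map_smul, Algebra.smul_def]
      change ℓ ⟨x, hx⟩ - B.res β * ℓ ⟨b, hb⟩ = 0
      rw [hβ, div_mul_cancel₀ _ hℓb, sub_self]
    have hWker : W ≤ RingHom.ker (B.res : B →+* k) := by
      rw [← maximalIdeal_eq_ker_res]
      exact hW_le
    obtain ⟨Q, π, hπ, hπ0⟩ : ∃ (Q : Art Λ k) (π : B ⟶ Q), Function.Surjective π ∧
        ∀ x, π x = 0 ↔ x ∈ W :=
      ⟨quot B W hWker, quotMk B W hWker, quotMk_surjective B W hWker,
        fun x => Ideal.Quotient.eq_zero_iff_mem⟩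
    have hQ : ∀ l : Λ, algebraMap Λ k l = 0 → algebraMap Λ Q l = 0 := by
      intro l hl
      have : algebraMap Λ Q l = π (algebraMap Λ B l) := (π.toAlgHom.commutes l).symm
      rw [this, hπ0]
      exact hN_le (Ideal.mem_sup_left (Ideal.mem_map_of_mem _ hl))
    obtain ⟨s⟩ := exists_base_hom Q hQ
    obtain ⟨P, p₁, p₂, hP⟩ : ∃ (P : Art Λ k) (p₁ : P ⟶ base Λ k) (p₂ : P ⟶ B),
        IsFibreProd p₁ p₂ s π := ⟨_, _, _, isFibreProd_fibreProd s π hπ⟩
    have hns : ¬ Function.Surjective p₂ := by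
      intro hsurj
      obtain ⟨z, hz⟩ := hsurj b
      have h1 : s (p₁ z) = π b := by
        rw [← hz]
        exact hP.w_apply z
      have h2 : p₁ z = 0 := by
        have := congrArg Q.res h1
        rw [Art.res_app s, Art.res_app π, (Art.mem_maximalIdeal_iff B b).1 hb] at this
        exact this
      rw [h2, map_zero] at h1
      exact hbW ((hπ0 b).1 h1.symm)
    apply hns
    apply hess _ p₂
    rw [surjective_iff_cotangent]
    apply le_antisymm
    · exact sup_le (sup_le (map_ker_le_maximalIdeal A) (map_maximalIdeal_le _))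
        (Ideal.pow_le_self (by norm_num))
    · intro a ha
      obtain ⟨x, rfl⟩ := hf a
      have hx : x ∈ maximalIdeal B := by
        rw [Art.mem_maximalIdeal_iff, ← Art.res_app f, ← Art.mem_maximalIdeal_iff]
        exact ha
      obtain ⟨β, hβ⟩ := hdec x hx
      obtain ⟨z, hz1, hz2⟩ := hP.surj 0 (x - β * b) (by
        rw [map_zero]
        exact ((hπ0 _).2 hβ).symm)
      have hzm : z ∈ maximalIdeal P := by
        rw [Art.mem_maximalIdeal_iff, ← Art.res_app p₂, hz2, ← Art.mem_maximalIdeal_iff]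
        exact hW_le hβ
      have e : f x = (p₂ ≫ f) z + f β * f b := by
        rw [Art.comp_apply, hz2, map_sub, map_mul]
        ring
      rw [e]
      obtain ⟨n1, hn1, n2, hn2, hn⟩ := Submodule.mem_sup.1 ((relN A).mul_mem_left (f β) hfb)
      rw [← hn]
      have e2 : (p₂ ≫ f) z + (n1 + n2) = (n1 + (p₂ ≫ f) z) + n2 := by ring
      rw [e2]
      exact Ideal.add_mem _ (Ideal.mem_sup_left (Ideal.add_mem _ (Ideal.mem_sup_left hn1)
        (Ideal.mem_sup_right (Ideal.mem_map_of_mem _ hzm)))) (Ideal.mem_sup_right hn2)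
  · rintro ⟨hcs, hci⟩
    have hf : Function.Surjective f := (surjective_iff_cotangent f).2 hcs
    refine ⟨hf, ?_⟩
    intro C g hg
    rw [surjective_iff_cotangent]
    apply le_antisymm
    · exact sup_le (sup_le (map_ker_le_maximalIdeal B) (map_maximalIdeal_le g))
        (Ideal.pow_le_self (by norm_num))
    · intro b hb
      have hfb : f b ∈ maximalIdeal A := by
        rw [Art.mem_maximalIdeal_iff, Art.res_app, ← Art.mem_maximalIdeal_iff]
        exact hb
      rw [← (surjective_iff_cotangent (g ≫ f)).1 hg] at hfb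
      obtain ⟨u, hu, n2, hn2, hun⟩ := Submodule.mem_sup.1 hfb
      obtain ⟨n1, hn1, y, hy, hny⟩ := Submodule.mem_sup.1 hu
      obtain ⟨c, hc, rfl⟩ := (Ideal.mem_map_iff_of_surjective (g ≫ f).toAlgHom hg).1 hy
      have hgc : g c ∈ maximalIdeal B := map_maximalIdeal_le g (Ideal.mem_map_of_mem _ hc)
      have hcomp : (g ≫ f).toAlgHom c = f (g c) := rfl
      have h1 : f (b - g c) ∈ relN A := by
        have : f (b - g c) = n1 + n2 := by
          rw [map_sub, ← hun, ← hny, hcomp]
          ring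
        rw [this]
        exact Ideal.add_mem _ (Ideal.mem_sup_left hn1) (Ideal.mem_sup_right hn2)
      have h2 := hci (b - g c) (Ideal.sub_mem _ hb hgc) h1
      obtain ⟨m1, hm1, m2, hm2, hm⟩ := Submodule.mem_sup.1 h2
      have e : b = (m1 + g c) + m2 := by
        rw [add_right_comm, hm]
        ring
      rw [e]
      exact Ideal.add_mem _ (Ideal.mem_sup_left (Ideal.add_mem _ (Ideal.mem_sup_left hm1)
        (Ideal.mem_sup_right (Ideal.mem_map_of_mem _ hc)))) (Ideal.mem_sup_right hm2)

end H6Art
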