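import Mathlib

/-! Surjectivity of local homomorphisms of complete local rings via cotangent spaces (helper6). -/

namespace H6Loc

open IsLocalRing

/-- A ring map from a complete local ring to a Noetherian local ring, surjective on residue fields and on
cotangent spaces, is surjective. -/
theorem surjective_of_map_sup_sq {R S : Type*} [CommRing R] [CommRing S] [IsLocalRing R] [IsLocalRing S]
    [IsNoetherianRing S] [IsPrecomplete (maximalIdeal R) R]
    (f : R →+* S)
    (hres : ∀ s : S, ∃ r : R, f r - s ∈ maximalIdeal S)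
    (h : Ideal.map f (maximalIdeal R) ⊔ maximalIdeal S ^ 2 = maximalIdeal S) :
    Function.Surjective f := by
  have h1 : Ideal.map f (maximalIdeal R) = maximalIdeal S := by
    apply le_antisymm
    · rw [← h]; exact le_sup_left
    · apply Submodule.le_of_le_smul_of_le_jacobson_bot (I := maximalIdeal S)
        (IsNoetherian.noetherian _) (IsLocalRing.maximalIdeal_le_jacobson _)
      rw [smul_eq_mul, ← pow_two, h]
  haveI : IsHausdorff (Ideal.map f (maximalIdeal R)) S := by rw [h1]; infer_instance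
  apply surjective_of_mk_map_comp_surjective (I := maximalIdeal R) f
  intro y
  obtain ⟨s, rfl⟩ := Ideal.Quotient.mk_surjective y
  obtain ⟨r, hr⟩ := hres s
  refine ⟨r, ?_⟩
  rw [RingHom.comp_apply, Ideal.Quotient.eq, h1]; exact hr

/-- The three equivalent forms of surjectivity for augmented local algebras. -/
theorem tfae_surjective {Λ k R S : Type*} [CommRing Λ] [Field k] [Algebra Λ k]
    [CommRing R] [CommRing S] [Algebra Λ R] [Algebra Λ S] [IsLocalRing R] [IsLocalRing S]
    [IsNoetherianRing S] [IsPrecomplete (maximalIdeal R) R]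
    (resR : R →ₐ[Λ] k) (resS : S →ₐ[Λ] k) (hresR : Function.Surjective resR)
    (hmR : ∀ a : R, a ∈ maximalIdeal R ↔ resR a = 0) (hmS : ∀ a : S, a ∈ maximalIdeal S ↔ resS a = 0)
    (f : R →ₐ[Λ] S) (hf : resS.comp f = resR) :
    List.TFAE [Function.Surjective f,
      Ideal.map f (maximalIdeal R) ⊔ maximalIdeal S ^ 2 = maximalIdeal S,
      Ideal.map (algebraMap Λ S) (RingHom.ker (algebraMap Λ k)) ⊔
        Ideal.map f (maximalIdeal R) ⊔ maximalIdeal S ^ 2 = maximalIdeal S] := by
  have hfa : ∀ r : R, resS (f r) = resR r := fun r => by rw [← hf]; rfl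
  have hle : Ideal.map f (maximalIdeal R) ≤ maximalIdeal S := by
    rw [Ideal.map_le_iff_le_comap]
    intro a ha
    rw [Ideal.mem_comap, hmS, hfa, ← hmR]; exact ha
  have hsq : maximalIdeal S ^ 2 ≤ maximalIdeal S := Ideal.pow_le_self (by norm_num)
  have hΛ : Ideal.map (algebraMap Λ S) (RingHom.ker (algebraMap Λ k)) ≤ Ideal.map f (maximalIdeal R) := by
    rw [Ideal.map_le_iff_le_comap]
    intro l hl
    rw [Ideal.mem_comap]
    have : algebraMap Λ S l = f (algebraMap Λ R l) := (f.commutes l).symm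
    rw [this]
    apply Ideal.mem_map_of_mem
    rw [hmR, resR.commutes]
    exact hl
  tfae_have 1 → 2 := by
    intro hs
    apply le_antisymm (sup_le hle hsq)
    intro s hs'
    obtain ⟨r, rfl⟩ := hs s
    apply Ideal.mem_sup_left
    apply Ideal.mem_map_of_mem
    rw [hmR, ← hfa, ← hmS]; exact hs'
  tfae_have 2 → 3 := by
    intro h2
    rw [sup_eq_right.2 hΛ]; exact h2
  tfae_have 3 → 1 := by
    intro h3
    rw [sup_eq_right.2 hΛ] at h3
    apply surjective_of_map_sup_sq (f : R →+* S) _ h3
    intro s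
    obtain ⟨r, hr⟩ := hresR (resS s)
    refine ⟨r, ?_⟩
    rw [hmS, map_sub]
    change resS (f r) - resS s = 0
    rw [hfa, hr, sub_self]
  tfae_finish

end H6Loc

namespace H6Loc

open IsLocalRing

/-- A linear functional on the maximal ideal with values in the residue field, killing a given ideal
containing `m²` and not killing a given element outside it. -/
theorem exists_linearMap_residue {S k : Type*} [CommRing S] [IsLocalRing S] [Field k] [Algebra S k]
    (hres : Function.Surjective (algebraMap S k))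
    (I : Ideal S) (hI : maximalIdeal S ^ 2 ≤ I) (x : S) (hx : x ∈ maximalIdeal S) (hxI : x ∉ I) :
    ∃ ℓ : maximalIdeal S →ₗ[S] k, ℓ ⟨x, hx⟩ ≠ 0 ∧ ∀ y : maximalIdeal S, (y : S) ∈ I → ℓ y = 0 := by
  classical
  set m := maximalIdeal S with hm
  letI : Field (S ⧸ m) := Ideal.Quotient.field m
  set I' : Submodule S m := Submodule.comap m.subtype I with hI'
  have hM : Module.IsTorsionBySet S (m ⧸ I') m := by
    intro v a
    obtain ⟨y, rfl⟩ := Submodule.mkQ_surjective I' v
    rw [← map_smul, Submodule.mkQ_apply, Submodule.Quotient.mk_eq_zero, hI', Submodule.mem_comap]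
    apply hI
    rw [pow_two]
    exact Ideal.mul_mem_mul a.2 y.2
  letI := hM.module
  have hxV : I'.mkQ ⟨x, hx⟩ ∉ (⊥ : Submodule (S ⧸ m) (m ⧸ I')) := by
    rw [Submodule.mem_bot, Submodule.mkQ_apply, Submodule.Quotient.mk_eq_zero, hI', Submodule.mem_comap]
    exact hxI
  obtain ⟨φ, hφ, -⟩ := Submodule.exists_le_ker_of_notMem hxV
  have hker : ∀ a : S, a ∈ m → algebraMap S k a = 0 := by
    intro a ha
    have hmax : (RingHom.ker (algebraMap S k)).IsMaximal :=
      RingHom.ker_isMaximal_of_surjective _ hres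
    have := IsLocalRing.eq_maximalIdeal hmax
    rw [← RingHom.mem_ker, this]; exact ha
  let ι : S ⧸ m →+* k := Ideal.Quotient.lift m (algebraMap S k) hker
  refine ⟨{ toFun := fun y => ι (φ (I'.mkQ y)), map_add' := ?_, map_smul' := ?_ }, ?_, ?_⟩
  · intro y z
    rw [map_add, map_add, map_add]
  · intro s y
    have h1 : I'.mkQ (s • y) = (Ideal.Quotient.mk m s) • I'.mkQ y := by
      rw [map_smul]; rfl
    rw [h1, map_smul, smul_eq_mul, map_mul, RingHom.id_apply, Algebra.smul_def]
    rfl
  · change ι (φ (I'.mkQ ⟨x, hx⟩)) ≠ 0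
    rw [Ne, map_eq_zero]
    exact hφ
  · intro y hy
    change ι (φ (I'.mkQ y)) = 0
    have : I'.mkQ y = 0 := by
      rw [Submodule.mkQ_apply, Submodule.Quotient.mk_eq_zero, hI', Submodule.mem_comap]
      exact hy
    rw [this, map_zero, map_zero]

end H6Loc

namespace H6Loc

open IsLocalRing

/-- If a residually surjective local algebra map `f : R → S` from a complete local ring to a Noetherian
local ring is not surjective, there is a nonzero `Λ`-derivation `S → k` vanishing on the image of `f`. -/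
theorem exists_derivation_of_not_surjective {Λ k R S : Type*} [CommRing Λ] [Field k] [Algebra Λ k]
    [CommRing R] [CommRing S] [Algebra Λ R] [Algebra Λ S] [IsLocalRing R] [IsLocalRing S]
    [IsNoetherianRing S] [IsPrecomplete (maximalIdeal R) R] [Algebra S k] [IsScalarTower Λ S k]
    (resR : R →ₐ[Λ] k) (hresR : Function.Surjective resR)
    (hmR : ∀ a : R, a ∈ maximalIdeal R ↔ resR a = 0)
    (hres : Function.Surjective (algebraMap S k))
    (f : R →ₐ[Λ] S) (hf : ∀ r : R, algebraMap S k (f r) = resR r)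
    (hns : ¬ Function.Surjective f) :
    ∃ D : Derivation Λ S k, (∃ x, D x ≠ 0) ∧ ∀ r : R, D (f r) = 0 := by
  classical
  have hkerS : ∀ a : S, a ∈ maximalIdeal S ↔ algebraMap S k a = 0 := by
    intro a
    have hmax : (RingHom.ker (algebraMap S k)).IsMaximal :=
      RingHom.ker_isMaximal_of_surjective _ hres
    have := IsLocalRing.eq_maximalIdeal hmax
    rw [← RingHom.mem_ker, this]
  set I : Ideal S := Ideal.map f (maximalIdeal R) ⊔ maximalIdeal S ^ 2 with hI
  have hle : Ideal.map f (maximalIdeal R) ≤ maximalIdeal S := by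
    rw [Ideal.map_le_iff_le_comap]
    intro a ha
    rw [Ideal.mem_comap, hkerS, hf, ← hmR]; exact ha
  have hIle : I ≤ maximalIdeal S := sup_le hle (Ideal.pow_le_self (by norm_num))
  have hIne : I ≠ maximalIdeal S := by
    intro h
    apply hns
    apply surjective_of_map_sup_sq (f : R →+* S) _ h
    intro s
    obtain ⟨r, hr⟩ := hresR (algebraMap S k s)
    refine ⟨r, ?_⟩
    rw [hkerS, map_sub]
    change algebraMap S k (f r) - _ = 0
    rw [hf, hr, sub_self]
  obtain ⟨x, hx, hxI⟩ : ∃ x, x ∈ maximalIdeal S ∧ x ∉ I := by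
    by_contra hcon
    push Not at hcon
    exact hIne (le_antisymm hIle hcon)
  obtain ⟨ℓ, hℓx, hℓI⟩ := exists_linearMap_residue hres I le_sup_right x hx hxI
  -- choice of residue lifts
  have hlift : ∀ s : S, ∃ r : R, s - f r ∈ maximalIdeal S := by
    intro s
    obtain ⟨r, hr⟩ := hresR (algebraMap S k s)
    refine ⟨r, ?_⟩
    rw [hkerS, map_sub, hf, hr, sub_self]
  choose ρ hρ using hlift
  -- independence of the lift
  have key : ∀ (s : S) (r : R) (h : s - f r ∈ maximalIdeal S),
      ℓ ⟨s - f r, h⟩ = ℓ ⟨s - f (ρ s), hρ s⟩ := by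
    intro s r h
    have hmem : ρ s - r ∈ maximalIdeal R := by
      rw [hmR, map_sub, ← hf, ← hf, ← map_sub, ← hkerS]
      have : f (ρ s) - f r = (s - f r) - (s - f (ρ s)) := by ring
      rw [this]
      exact Ideal.sub_mem _ h (hρ s)
    have h2 : f (ρ s - r) ∈ maximalIdeal S := hle (Ideal.mem_map_of_mem _ hmem)
    have h3 : ℓ ⟨f (ρ s - r), h2⟩ = 0 :=
      hℓI _ (Ideal.mem_sup_left (Ideal.mem_map_of_mem _ hmem))
    have h4 : (⟨s - f r, h⟩ : maximalIdeal S) = ⟨s - f (ρ s), hρ s⟩ + ⟨f (ρ s - r), h2⟩ := by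
      apply Subtype.ext
      change s - f r = (s - f (ρ s)) + f (ρ s - r)
      rw [map_sub]; ring
    rw [h4, map_add, h3, add_zero]
  let D₀ : S →ₗ[Λ] k :=
    { toFun := fun s => ℓ ⟨s - f (ρ s), hρ s⟩
      map_add' := by
        intro s t
        have h : (s + t) - f (ρ s + ρ t) ∈ maximalIdeal S := by
          have : (s + t) - f (ρ s + ρ t) = (s - f (ρ s)) + (t - f (ρ t)) := by rw [map_add]; ring
          rw [this]; exact Ideal.add_mem _ (hρ s) (hρ t)
        rw [← key (s + t) (ρ s + ρ t) h, ← map_add]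
        congr 1
        apply Subtype.ext
        change (s + t) - f (ρ s + ρ t) = (s - f (ρ s)) + (t - f (ρ t))
        rw [map_add]; ring
      map_smul' := by
        intro l s
        have h : l • s - f (l • ρ s) ∈ maximalIdeal S := by
          have : l • s - f (l • ρ s) = algebraMap Λ S l * (s - f (ρ s)) := by
            rw [map_smul, Algebra.smul_def, Algebra.smul_def]; ring
          rw [this]; exact Ideal.mul_mem_left _ _ (hρ s)
        rw [← key (l • s) (l • ρ s) h, RingHom.id_apply]
        have h5 : (⟨l • s - f (l • ρ s), h⟩ : maximalIdeal S) =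
            (algebraMap Λ S l) • ⟨s - f (ρ s), hρ s⟩ := by
          apply Subtype.ext
          change l • s - f (l • ρ s) = algebraMap Λ S l * (s - f (ρ s))
          rw [map_smul, Algebra.smul_def, Algebra.smul_def]; ring
        rw [h5, map_smul, algebraMap_smul] }
  have hD₀ : ∀ s, D₀ s = ℓ ⟨s - f (ρ s), hρ s⟩ := fun _ => rfl
  have hD₀' : ∀ (s : S) (r : R) (h : s - f r ∈ maximalIdeal S), D₀ s = ℓ ⟨s - f r, h⟩ :=
    fun s r h => (key s r h).symm
  refine ⟨Derivation.mk' D₀ ?_, ⟨x, ?_⟩, ?_⟩
  · intro s t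
    have h : s * t - f (ρ s * ρ t) ∈ maximalIdeal S := by
      have : s * t - f (ρ s * ρ t) = s * (t - f (ρ t)) + f (ρ t) * (s - f (ρ s)) := by
        rw [map_mul]; ring
      rw [this]
      exact Ideal.add_mem _ (Ideal.mul_mem_left _ _ (hρ t)) (Ideal.mul_mem_left _ _ (hρ s))
    rw [hD₀' (s * t) (ρ s * ρ t) h, hD₀ s, hD₀ t]
    have h6 : (⟨s * t - f (ρ s * ρ t), h⟩ : maximalIdeal S) =
        s • ⟨t - f (ρ t), hρ t⟩ + f (ρ t) • ⟨s - f (ρ s), hρ s⟩ := by
      apply Subtype.ext
      change s * t - f (ρ s * ρ t) = s * (t - f (ρ t)) + f (ρ t) * (s - f (ρ s))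
      rw [map_mul]; ring
    rw [h6, map_add, map_smul, map_smul]
    congr 1
    rw [Algebra.smul_def, Algebra.smul_def]
    congr 1
    have := (hkerS _).1 (hρ t)
    rw [map_sub, sub_eq_zero] at this
    exact this.symm
  · have h : x - f 0 ∈ maximalIdeal S := by rw [map_zero, sub_zero]; exact hx
    change D₀ x ≠ 0
    rw [hD₀' x 0 h]
    have : (⟨x - f 0, h⟩ : maximalIdeal S) = ⟨x, hx⟩ := by
      apply Subtype.ext
      change x - f 0 = x
      rw [map_zero, sub_zero]
    rw [this]; exact hℓx
  · intro r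
    have h : f r - f r ∈ maximalIdeal S := by rw [sub_self]; exact zero_mem _
    change D₀ (f r) = 0
    rw [hD₀' (f r) r h]
    have : (⟨f r - f r, h⟩ : maximalIdeal S) = 0 := by
      apply Subtype.ext
      change f r - f r = 0
      rw [sub_self]
    rw [this, map_zero]

end H6Loc

namespace H6Loc

/-- A surjective ring endomorphism of a Noetherian ring is injective. -/
theorem injective_of_surjective_ringEnd {R : Type*} [CommRing R] [IsNoetherianRing R] (σ : R →+* R)
    (hσ : Function.Surjective σ) : Function.Injective σ := by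
  let K : ℕ →o Ideal R := ⟨fun n => RingHom.ker (σ ^ n), fun m n hmn x hx => by
    obtain ⟨d, rfl⟩ := Nat.exists_eq_add_of_le hmn
    rw [RingHom.mem_ker] at hx ⊢
    rw [add_comm, pow_add, RingHom.mul_def, RingHom.comp_apply, hx, map_zero]⟩
  obtain ⟨n, hn⟩ := monotone_stabilizes_iff_noetherian.2 (inferInstance : IsNoetherian R R) K
  have hsurj : Function.Surjective (σ ^ n) := by
    rw [RingHom.coe_pow]; exact hσ.iterate n
  rw [injective_iff_map_eq_zero]
  intro x hx
  obtain ⟨y, rfl⟩ := hsurj x
  have hy : y ∈ K (n + 1) := by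
    change y ∈ RingHom.ker (σ ^ (n + 1))
    rw [RingHom.mem_ker, pow_succ', RingHom.mul_def, RingHom.comp_apply]; exact hx
  rw [← hn (n + 1) (Nat.le_succ n)] at hy
  exact hy

end H6Loc
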