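import Groth.Agent.Lib.helper6.ArtFormal2
import Groth.Agent.Lib.helper6.LocalSurj
import Groth.Prelude.Def_W4sfdMinVersal

/-! Minimal versal families (helper6). -/

set_option autoImplicit false
universe u v
open CategoryTheory

namespace H6Art

open ArtFun ArtFun.Art

variable {Λ : Type u} {k : Type u} [CommRing Λ] [Field k] [Algebra Λ k]

/-- A `Λ`-linear map `D : R → k` satisfying the Leibniz rule with respect to the augmentation
defines an element of `h_R(k[ε])`, `c ↦ res c + D c · ε`. -/
noncomputable def tangentHomSet {R : Type u} [CommRing R] [Algebra Λ R] (resR : R →ₐ[Λ] k) (D : R →ₗ[Λ] k)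
    (hmul : ∀ c c' : R, D (c * c') = resR c * D c' + resR c' * D c) : HomSet R resR (dual Λ k) :=
  have hone : D 1 = 0 := by
    have h := hmul 1 1
    rw [mul_one, map_one resR, one_mul] at h
    exact (add_eq_left.mp h.symm)
  ⟨{ toFun := fun c => ((resR c, D c) : TrivSqZeroExt k k)
     map_one' := TrivSqZeroExt.ext (map_one resR) hone
     map_mul' := fun c c' => TrivSqZeroExt.ext (map_mul resR c c') (by
        change D (c * c') = resR c • D c' + MulOpposite.op (resR c') • D c
        rw [hmul, op_smul_eq_smul, smul_eq_mul, smul_eq_mul])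
     map_zero' := TrivSqZeroExt.ext (map_zero resR) (map_zero D)
     map_add' := fun c c' => TrivSqZeroExt.ext (map_add resR c c') (map_add D c c')
     commutes' := fun r => TrivSqZeroExt.ext (by
          change resR (algebraMap Λ R r) = (algebraMap Λ (TrivSqZeroExt k k) r).fst
          rw [AlgHom.commutes, TrivSqZeroExt.algebraMap_eq_inl', TrivSqZeroExt.fst_inl]) (by
          change D (algebraMap Λ R r) = (algebraMap Λ (TrivSqZeroExt k k) r).snd
          rw [TrivSqZeroExt.algebraMap_eq_inl', TrivSqZeroExt.snd_inl, Algebra.algebraMap_eq_smul_one,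
            map_smul, hone, smul_zero]) }, AlgHom.ext fun _ => rfl⟩

lemma tangentHomSet_snd {R : Type u} [CommRing R] [Algebra Λ R] (resR : R →ₐ[Λ] k) (D : R →ₗ[Λ] k)
    (hmul : ∀ c c' : R, D (c * c') = resR c * D c' + resR c' * D c) (c : R) :
    TrivSqZeroExt.snd ((tangentHomSet resR D hmul).1 c) = D c := rfl

/-- If precomposition with `f : R' → R` is injective on tangent vectors then `f` is surjective. -/
theorem surjective_of_homSet_dual_injective (R' R : CRing Λ k) (f : R'.carrier →ₐ[Λ] R.carrier)
    (hf : R.res.comp f = R'.res)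
    (hinj : ∀ φ ψ : HomSet R.carrier R.res (dual Λ k), φ.1.comp f = ψ.1.comp f → φ = ψ) :
    Function.Surjective f := by
  haveI := R'.isAdicComplete
  by_contra hns
  letI : Algebra R.carrier k := R.res.toRingHom.toAlgebra
  haveI : IsScalarTower Λ R.carrier k := IsScalarTower.of_algebraMap_eq (fun l => (R.res.commutes l).symm)
  have hfa : ∀ r : R'.carrier, algebraMap R.carrier k (f r) = R'.res r := fun r => by rw [← hf]; rfl
  obtain ⟨D, ⟨x, hx⟩, hD⟩ := H6Loc.exists_derivation_of_not_surjective R'.res R'.res_surjective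
    (CRing.mem_maximalIdeal_iff R') R.res_surjective f hfa hns
  have hmulD : ∀ c c' : R.carrier, (D : R.carrier →ₗ[Λ] k) (c * c') = R.res c * (D : R.carrier →ₗ[Λ] k) c' +
      R.res c' * (D : R.carrier →ₗ[Λ] k) c := by
    intro c c'
    change D (c * c') = _
    rw [Derivation.leibniz, Algebra.smul_def, Algebra.smul_def]
    rfl
  have hmul0 : ∀ c c' : R.carrier, (0 : R.carrier →ₗ[Λ] k) (c * c') = R.res c * (0 : R.carrier →ₗ[Λ] k) c' +
      R.res c' * (0 : R.carrier →ₗ[Λ] k) c := by
    intro c c'
    simp
  have := hinj (tangentHomSet R.res (D : R.carrier →ₗ[Λ] k) hmulD) (tangentHomSet R.res 0 hmul0) (by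
    apply AlgHom.ext
    intro r
    apply TrivSqZeroExt.ext
    · rfl
    · change D (f r) = 0
      exact hD r)
  apply hx
  have h2 := congrArg (fun φ : HomSet R.carrier R.res (dual Λ k) => TrivSqZeroExt.snd (φ.1 x)) this
  exact h2

variable {F : Art Λ k ⥤ Type v}

lemma toFormalElt_along {R' R : CRing Λ k} (η : Family R'.carrier R'.res F)
    (f : R'.carrier →ₐ[Λ] R.carrier) (hf : R.res.comp f = R'.res) :
    (η.along f hf).toFormalElt = η.toFormalElt.push f hf := by
  apply FormalElt.ext'
  intro n
  change η.app _ _ = F.map (CRing.truncMapOfHom f hf n) (η.app _ (R'.truncHom n))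
  rw [← η.natural]
  rfl

end H6Art
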