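import Groth.Agent.Lib.helper6.ArtFinite
import Groth.Agent.Lib.helper6.ArtMinVersal

/-! Finiteness of the space of derivations into the residue field (helper6). -/

set_option autoImplicit false
universe u v
open CategoryTheory

namespace H6Art

open ArtFun ArtFun.Art

variable {Λ : Type u} {k : Type u} [CommRing Λ] [Field k] [Algebra Λ k]

/-- The space of `Λ`-derivations of a complete local Noetherian `Λ`-algebra with residue field `k`
into `k` is finite dimensional. -/
theorem finite_derivation [IsNoetherianRing Λ] [Module.Finite Λ k]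
    (S : Type u) [CommRing S] [Algebra Λ S] [IsLocalRing S] [IsNoetherianRing S]
    [IsAdicComplete (IsLocalRing.maximalIdeal S) S] [Algebra S k] [IsScalarTower Λ S k]
    (hres : Function.Surjective (algebraMap S k)) :
    Module.Finite k (Derivation Λ S k) := by
  classical
  let Rc : CRing Λ k := ⟨S, IsScalarTower.toAlgHom Λ S k, hres, inferInstance⟩
  let A : Art Λ k := Rc.trunc 1
  haveI : Module.Finite Λ A := module_finite A
  obtain ⟨n, s, hs⟩ := Module.Finite.exists_fin (R := Λ) (M := A)
  have hsurj : Function.Surjective (Ideal.Quotient.mk (Rc.mpow 1)) := Ideal.Quotient.mk_surjective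
  choose t ht using fun i => hsurj (s i)
  have hm : ∀ a : S, a ∈ IsLocalRing.maximalIdeal S → algebraMap S k a = 0 := by
    intro a ha
    exact (CRing.mem_maximalIdeal_iff Rc a).1 ha
  -- derivations kill `m²`
  have hkill : ∀ (D : Derivation Λ S k) (a : S), a ∈ Rc.mpow 1 → D a = 0 := by
    intro D a ha
    have ha' : a ∈ IsLocalRing.maximalIdeal S * IsLocalRing.maximalIdeal S := by
      have : Rc.mpow 1 = IsLocalRing.maximalIdeal S * IsLocalRing.maximalIdeal S := by
        change IsLocalRing.maximalIdeal S ^ (1 + 1) = _
        rw [pow_two]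
      rw [← this]; exact ha
    refine Submodule.mul_induction_on ha' ?_ ?_
    · intro x hx y hy
      rw [Derivation.leibniz, Algebra.smul_def, Algebra.smul_def, hm x hx, hm y hy, zero_mul, zero_mul,
        add_zero]
    · intro x y hx hy
      rw [map_add, hx, hy, add_zero]
  let L : Derivation Λ S k →ₗ[k] (Fin n → k) :=
    { toFun := fun D i => D (t i)
      map_add' := fun D D' => rfl
      map_smul' := fun c D => rfl }
  have hL : Function.Injective L := by
    rw [← LinearMap.ker_eq_bot, LinearMap.ker_eq_bot']
    intro D hD
    have hDt : ∀ i, D (t i) = 0 := fun i => congrFun hD i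
    have key : ∀ x : A, x ∈ Submodule.span Λ (Set.range s) →
        ∀ s' : S, Ideal.Quotient.mk (Rc.mpow 1) s' = x → D s' = 0 := by
      intro x hx
      induction hx using Submodule.span_induction with
      | mem x hx =>
        obtain ⟨i, rfl⟩ := hx
        intro s' hs'
        have h1 : s' - t i ∈ Rc.mpow 1 := by
          rw [← Ideal.Quotient.eq, hs', ht]
        have h2 := hkill D _ h1
        rw [map_sub, hDt, sub_zero] at h2
        exact h2
      | zero =>
        intro s' hs'
        exact hkill D _ (Ideal.Quotient.eq_zero_iff_mem.1 hs')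
      | add x y _ _ hx hy =>
        intro s' hs'
        obtain ⟨sx, rfl⟩ := hsurj x
        have h1 : D sx = 0 := hx sx rfl
        have h2 : D (s' - sx) = 0 := hy _ (by rw [map_sub, hs']; exact add_sub_cancel_left _ _)
        rw [map_sub, h1, sub_zero] at h2
        exact h2
      | smul l x _ hx =>
        intro s' hs'
        obtain ⟨sx, rfl⟩ := hsurj x
        have h1 : D sx = 0 := hx sx rfl
        have h2 : s' - l • sx ∈ Rc.mpow 1 := by
          rw [← Ideal.Quotient.eq, hs']
          rfl
        have h3 := hkill D _ h2
        rw [map_sub, Derivation.map_smul, h1, smul_zero, sub_zero] at h3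
        exact h3
    apply Derivation.ext
    intro s'
    exact key _ (by rw [hs]; trivial) s' rfl
  exact Module.Finite.of_injective L hL

end H6Art

namespace H6Art

open ArtFun ArtFun.Art

variable {Λ : Type u} {k : Type u} [CommRing Λ] [Field k] [Algebra Λ k]

/-- Two "derivations" define an element of `h_R(k[ε₁, ε₂])`. -/
noncomputable def tangentHomSet2 {R : Type u} [CommRing R] [Algebra Λ R] (resR : R →ₐ[Λ] k)
    (D D' : R →ₗ[Λ] k)
    (hmul : ∀ c c' : R, D (c * c') = resR c * D c' + resR c' * D c)
    (hmul' : ∀ c c' : R, D' (c * c') = resR c * D' c' + resR c' * D' c) :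
    HomSet R resR (dual2 Λ k) :=
  have hone : D 1 = 0 := by
    have h := hmul 1 1
    rw [mul_one, map_one resR, one_mul] at h
    exact (add_eq_left.mp h.symm)
  have hone' : D' 1 = 0 := by
    have h := hmul' 1 1
    rw [mul_one, map_one resR, one_mul] at h
    exact (add_eq_left.mp h.symm)
  ⟨{ toFun := fun c => ((resR c, (D c, D' c)) : TrivSqZeroExt k (k × k))
     map_one' := TrivSqZeroExt.ext (map_one resR) (Prod.ext hone hone')
     map_mul' := fun c c' => TrivSqZeroExt.ext (map_mul resR c c') (by
        change (D (c * c'), D' (c * c')) = resR c • (D c', D' c') + MulOpposite.op (resR c') • (D c, D' c)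
        rw [hmul, hmul', op_smul_eq_smul]
        rfl)
     map_zero' := TrivSqZeroExt.ext (map_zero resR) (Prod.ext (map_zero D) (map_zero D'))
     map_add' := fun c c' => TrivSqZeroExt.ext (map_add resR c c')
        (Prod.ext (map_add D c c') (map_add D' c c'))
     commutes' := fun r => TrivSqZeroExt.ext (by
          change resR (algebraMap Λ R r) = (algebraMap Λ (TrivSqZeroExt k (k × k)) r).fst
          rw [AlgHom.commutes, TrivSqZeroExt.algebraMap_eq_inl', TrivSqZeroExt.fst_inl]) (by
          change (D (algebraMap Λ R r), D' (algebraMap Λ R r)) =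
            (algebraMap Λ (TrivSqZeroExt k (k × k)) r).snd
          rw [TrivSqZeroExt.algebraMap_eq_inl', TrivSqZeroExt.snd_inl, Algebra.algebraMap_eq_smul_one,
            map_smul, map_smul, hone, hone', smul_zero]
          rfl) }, AlgHom.ext fun _ => rfl⟩

variable {F : Art Λ k ⥤ Type v}

/-- The characteristic map of a family is `k`-linear on derivations, hence the tangent space is finite
dimensional when the characteristic map is surjective. -/
theorem hfin_of_family_surjective [IsNoetherianRing Λ] [Module.Finite Λ k] [TangentStr F]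
    (R : CRing Λ k) (ξ : Family R.carrier R.res F)
    (hsurj : Function.Surjective (ξ.app (dual Λ k))) : Hfin F := by
  letI : Algebra R.carrier k := R.res.toRingHom.toAlgebra
  haveI : IsScalarTower Λ R.carrier k := IsScalarTower.of_algebraMap_eq (fun l => (R.res.commutes l).symm)
  haveI := R.isAdicComplete
  haveI : Module.Finite k (Derivation Λ R.carrier k) := finite_derivation R.carrier R.res_surjective
  have hmulD : ∀ (D : Derivation Λ R.carrier k) (c c' : R.carrier),
      (D : R.carrier →ₗ[Λ] k) (c * c') = R.res c * (D : R.carrier →ₗ[Λ] k) c' +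
      R.res c' * (D : R.carrier →ₗ[Λ] k) c := by
    intro D c c'
    change D (c * c') = _
    rw [Derivation.leibniz, Algebra.smul_def, Algebra.smul_def]
    rfl
  let T : Derivation Λ R.carrier k →ₗ[k] TangentSpace F :=
    { toFun := fun D => ξ.app (dual Λ k) (tangentHomSet R.res (D : R.carrier →ₗ[Λ] k) (hmulD D))
      map_add' := by
        intro D D'
        set z := ξ.app (dual2 Λ k) (tangentHomSet2 R.res (D : R.carrier →ₗ[Λ] k) (D' : R.carrier →ₗ[Λ] k)
          (hmulD D) (hmulD D')) with hz
        have h1 : F.map pr₁ z = ξ.app (dual Λ k) (tangentHomSet R.res (D : R.carrier →ₗ[Λ] k) (hmulD D)) := by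
          rw [hz, ← ξ.natural]
          congr 1
        have h2 : F.map pr₂ z = ξ.app (dual Λ k) (tangentHomSet R.res (D' : R.carrier →ₗ[Λ] k) (hmulD D')) := by
          rw [hz, ← ξ.natural]
          congr 1
        have h3 : F.map plus z = ξ.app (dual Λ k)
            (tangentHomSet R.res ((D + D' : Derivation Λ R.carrier k) : R.carrier →ₗ[Λ] k) (hmulD (D + D'))) := by
          rw [hz, ← ξ.natural]
          congr 1
        rw [← h3, ← h1, ← h2]
        exact (TangentStr.add_eq z).symm
      map_smul' := by
        intro c D
        rw [RingHom.id_apply]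
        have h1 : F.map (scale c) (ξ.app (dual Λ k) (tangentHomSet R.res (D : R.carrier →ₗ[Λ] k) (hmulD D))) =
            ξ.app (dual Λ k) (tangentHomSet R.res ((c • D : Derivation Λ R.carrier k) : R.carrier →ₗ[Λ] k)
              (hmulD (c • D))) := by
          rw [← ξ.natural]
          congr 1
        rw [← h1]
        exact (TangentStr.smul_eq c _).symm }
  have hT : Function.Surjective T := by
    intro x
    obtain ⟨φ, rfl⟩ := hsurj x
    -- every tangent vector of `h_R` comes from a derivation
    have hφres : ∀ r : R.carrier, TrivSqZeroExt.fst (φ.1 r) = R.res r := by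
      intro r
      exact congrArg (fun t : R.carrier →ₐ[Λ] k => t r) φ.2
    let D₀ : R.carrier →ₗ[Λ] k :=
      { toFun := fun r => TrivSqZeroExt.snd (φ.1 r)
        map_add' := fun r r' => by
          rw [map_add]
          exact TrivSqZeroExt.snd_add (R := k) (M := k) (φ.1 r) (φ.1 r')
        map_smul' := fun l r => by
          rw [map_smul, RingHom.id_apply]
          rfl }
    have hD₀ : ∀ c c' : R.carrier, D₀ (c * c') = c • D₀ c' + c' • D₀ c := by
      intro c c'
      change TrivSqZeroExt.snd (φ.1 (c * c')) = _
      rw [map_mul]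
      refine (TrivSqZeroExt.snd_mul (R := k) (M := k) (φ.1 c) (φ.1 c')).trans ?_
      rw [hφres, hφres, op_smul_eq_smul, Algebra.smul_def, Algebra.smul_def]
      rfl
    refine ⟨Derivation.mk' D₀ hD₀, ?_⟩
    change ξ.app (dual Λ k) _ = ξ.app (dual Λ k) φ
    congr 1
    apply Subtype.ext
    apply AlgHom.ext
    intro r
    apply TrivSqZeroExt.ext
    · exact (hφres r).symm
    · rfl
  exact Module.Finite.of_surjective T hT

end H6Art
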