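import Groth.Agent.Lib.helper6.ArtBasic

/-! The dual numbers as a small extension of the base (helper6). -/

set_option autoImplicit false
universe u v
open CategoryTheory

namespace H6Art

open ArtFun ArtFun.Art

variable {Λ : Type u} {k : Type u} [CommRing Λ] [Field k] [Algebra Λ k]

lemma mem_ker_toBase_dual (x : (dual Λ k).carrier) :
    x ∈ RingHom.ker (toBase (dual Λ k)).toAlgHom ↔ TrivSqZeroExt.fst (R := k) (M := k) x = 0 := by
  rw [RingHom.mem_ker]
  rfl

/-- `ε` as an element of the object `k[ε]`. -/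
noncomputable def dualEps : (dual Λ k).carrier := (TrivSqZeroExt.inr 1 : TrivSqZeroExt k k)

lemma dualEps_mem : (dualEps : (dual Λ k).carrier) ∈ RingHom.ker (toBase (dual Λ k)).toAlgHom :=
  (mem_ker_toBase_dual _).2 (TrivSqZeroExt.fst_inr k 1)

lemma fst_mul_dual (c y : (dual Λ k).carrier) :
    TrivSqZeroExt.fst (R := k) (M := k) (c * y) =
      TrivSqZeroExt.fst (R := k) (M := k) c * TrivSqZeroExt.fst (R := k) (M := k) y :=
  TrivSqZeroExt.fst_mul (R := k) (M := k) c y

lemma snd_mul_dual (c y : (dual Λ k).carrier) :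
    TrivSqZeroExt.snd (R := k) (M := k) (c * y) =
      TrivSqZeroExt.fst (R := k) (M := k) c * TrivSqZeroExt.snd (R := k) (M := k) y +
      TrivSqZeroExt.fst (R := k) (M := k) y * TrivSqZeroExt.snd (R := k) (M := k) c := by
  refine (TrivSqZeroExt.snd_mul (R := k) (M := k) c y).trans ?_
  rw [op_smul_eq_smul, smul_eq_mul, smul_eq_mul]

theorem isSmallExt_toBase_dual : IsSmallExt (toBase (dual Λ k)) := by
  refine ⟨(dual Λ k).res_surjective, ?_, ⟨⟨(dualEps : (dual Λ k).carrier), ?_⟩⟩, ?_⟩
  · intro h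
    have h1 := dualEps_mem (Λ := Λ) (k := k)
    rw [h] at h1
    have h1' : (dualEps : (dual Λ k).carrier) = 0 := (Ideal.mem_bot (R := (dual Λ k).carrier)).1 h1
    have h2 := congrArg (TrivSqZeroExt.snd (R := k) (M := k)) h1'
    exact one_ne_zero h2
  · apply le_antisymm
    · intro x hx
      rw [mem_ker_toBase_dual] at hx
      refine Submodule.mem_span_singleton.2
        ⟨((TrivSqZeroExt.inl (TrivSqZeroExt.snd (R := k) (M := k) x) : TrivSqZeroExt k k) :
          (dual Λ k).carrier), ?_⟩
      apply TrivSqZeroExt.ext (R := k) (M := k)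
      · rw [smul_eq_mul, fst_mul_dual]
        refine Eq.trans ?_ hx.symm
        exact mul_eq_zero_of_right _ (TrivSqZeroExt.fst_inr k 1)
      · rw [smul_eq_mul, snd_mul_dual]
        change TrivSqZeroExt.snd (R := k) (M := k) x * (1 : k) + (0 : k) * _ = _
        rw [mul_one, zero_mul, add_zero]
    · rw [Submodule.span_le, Set.singleton_subset_iff]
      exact dualEps_mem
  · rw [← le_bot_iff, Ideal.mul_le]
    intro c hc y hy
    rw [mem_ker_toBase_dual] at hy
    have hc' : TrivSqZeroExt.fst (R := k) (M := k) c = 0 := (Art.mem_maximalIdeal_iff (dual Λ k) c).1 hc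
    refine (Ideal.mem_bot (R := (dual Λ k).carrier)).2 ?_
    apply TrivSqZeroExt.ext (R := k) (M := k)
    · rw [fst_mul_dual, hc', zero_mul]; rfl
    · rw [snd_mul_dual, hc', hy, zero_mul, zero_mul, add_zero]; rfl

end H6Art
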