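import Groth.Agent.Lib.helper6.ArtFibreSep
import Groth.Agent.Lib.helper6.LocalSurj

/-! Essential surjections in `Art Λ k` (helper6). -/

set_option autoImplicit false
universe u v
open CategoryTheory

namespace H6Art

open ArtFun ArtFun.Art IsLocalRing

variable {Λ : Type u} {k : Type u} [CommRing Λ] [Field k] [Algebra Λ k]

/-- The ideal `m_Λ A + m_A²`. -/
abbrev relN (A : Art Λ k) : Ideal A :=
  Ideal.map (algebraMap Λ A) (RingHom.ker (algebraMap Λ k)) ⊔ maximalIdeal A ^ 2

lemma map_ker_le_maximalIdeal (A : Art Λ k) :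
    Ideal.map (algebraMap Λ A) (RingHom.ker (algebraMap Λ k)) ≤ maximalIdeal A := by
  rw [Ideal.map_le_iff_le_comap]
  intro l hl
  rw [Ideal.mem_comap, Art.mem_maximalIdeal_iff, A.res.commutes]
  exact hl

lemma relN_le (A : Art Λ k) : relN A ≤ maximalIdeal A :=
  sup_le (map_ker_le_maximalIdeal A) (Ideal.pow_le_self (by norm_num))

lemma map_maximalIdeal_le {X A : Art Λ k} (h : X ⟶ A) :
    Ideal.map h.toAlgHom (maximalIdeal X) ≤ maximalIdeal A := by
  rw [Ideal.map_le_iff_le_comap]
  intro x hx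
  rw [Ideal.mem_comap, Art.mem_maximalIdeal_iff]
  change A.res (h x) = 0
  rw [Art.res_app, ← Art.mem_maximalIdeal_iff]
  exact hx

lemma surj_comp {A B C : Art Λ k} (g : A ⟶ B) (f : B ⟶ C) (hg : Function.Surjective g)
    (hf : Function.Surjective f) : Function.Surjective (g ≫ f) := by
  intro c
  obtain ⟨b, rfl⟩ := hf c
  obtain ⟨a, rfl⟩ := hg b
  exact ⟨a, rfl⟩

lemma surj_of_comp {A B C : Art Λ k} (g : A ⟶ B) (f : B ⟶ C)
    (h : Function.Surjective (g ≫ f)) : Function.Surjective f := by
  intro c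
  obtain ⟨a, ha⟩ := h c
  exact ⟨g a, ha⟩

/-- The cotangent criterion: `h` is surjective iff `m_Λ A + h(m_X) A + m_A² = m_A`. -/
theorem surjective_iff_cotangent {X A : Art Λ k} (h : X ⟶ A) :
    Function.Surjective h ↔
      Ideal.map (algebraMap Λ A) (RingHom.ker (algebraMap Λ k)) ⊔
        Ideal.map h.toAlgHom (maximalIdeal X) ⊔ maximalIdeal A ^ 2 = maximalIdeal A := by
  obtain ⟨N, hN⟩ := exists_pow_maximalIdeal_eq_bot X
  haveI : IsAdicComplete (maximalIdeal X) X := isAdicComplete_of_pow_eq_bot _ _ hN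
  have tf := H6Loc.tfae_surjective (Λ := Λ) (k := k) (R := X) (S := A) X.res A.res
    X.res_surjective (Art.mem_maximalIdeal_iff X) (Art.mem_maximalIdeal_iff A) h.toAlgHom
    h.res_comp
  exact tf.out 0 2

/-- If `h` followed by the quotient by `m_Λ A + m_A²` is surjective then `h` is surjective. -/
theorem surjective_of_comp_quot {X A A' : Art Λ k} (h : X ⟶ A) (qA : A ⟶ A')
    (hkA : RingHom.ker qA.toAlgHom = relN A) (hs : Function.Surjective (h ≫ qA)) :
    Function.Surjective h := by
  rw [surjective_iff_cotangent]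
  apply le_antisymm
  · exact sup_le (sup_le (map_ker_le_maximalIdeal A) (map_maximalIdeal_le h))
      (Ideal.pow_le_self (by norm_num))
  · intro a ha
    obtain ⟨x, hx⟩ := hs (qA a)
    have hxm : x ∈ maximalIdeal X := by
      rw [Art.mem_maximalIdeal_iff, ← Art.res_app (h ≫ qA), hx, Art.res_app,
        ← Art.mem_maximalIdeal_iff]
      exact ha
    have hker : a - h x ∈ RingHom.ker qA.toAlgHom := by
      rw [RingHom.mem_ker, map_sub, sub_eq_zero]
      exact hx.symm
    rw [hkA] at hker
    obtain ⟨n1, hn1, n2, hn2, hn⟩ := Submodule.mem_sup.1 hker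
    have e : a = (n1 + h x) + n2 := by
      rw [add_right_comm, hn]
      ring
    rw [e]
    exact Ideal.add_mem _ (Ideal.mem_sup_left (Ideal.add_mem _ (Ideal.mem_sup_left hn1)
      (Ideal.mem_sup_right (Ideal.mem_map_of_mem _ hxm)))) (Ideal.mem_sup_right hn2)

variable [IsNoetherianRing Λ] [Module.Finite Λ k]

/-- Essential surjections can be tested modulo `m_Λ + m²`. -/
theorem essential_iff_quot {A B A' B' : Art Λ k} (f : B ⟶ A)
    (qB : B ⟶ B') (hqB : Function.Surjective qB) (hkB : RingHom.ker qB.toAlgHom = relN B)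
    (qA : A ⟶ A') (hqA : Function.Surjective qA) (hkA : RingHom.ker qA.toAlgHom = relN A)
    (f' : B' ⟶ A') (hf' : qB ≫ f' = f ≫ qA) :
    (Function.Surjective f ∧ ∀ (C : Art Λ k) (g : C ⟶ B),
        Function.Surjective (g ≫ f) → Function.Surjective g) ↔
    (Function.Surjective f' ∧ ∀ (C : Art Λ k) (g : C ⟶ B'),
        Function.Surjective (g ≫ f') → Function.Surjective g) := by
  constructor
  · rintro ⟨hf, hess⟩
    refine ⟨?_, ?_⟩
    · have h1 : Function.Surjective (qB ≫ f') := by
        rw [hf']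
        exact surj_comp f qA hf hqA
      exact surj_of_comp qB f' h1
    · intro C g hg
      have hP := isFibreProd_fibreProd g qB hqB
      set p₁ := fibreProdFst g qB hqB
      set p₂ := fibreProdSnd g qB hqB
      have hp₁ : Function.Surjective p₁ := by
        intro c
        obtain ⟨b, hb⟩ := hqB (g c)
        obtain ⟨z, hz, -⟩ := hP.surj c b hb.symm
        exact ⟨z, hz⟩
      have e : (p₂ ≫ f) ≫ qA = p₁ ≫ (g ≫ f') := by
        rw [Category.assoc, ← hf', ← Category.assoc, ← hP.w, Category.assoc]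
      have h2 : Function.Surjective ((p₂ ≫ f) ≫ qA) := by
        rw [e]
        exact surj_comp p₁ (g ≫ f') hp₁ hg
      have h3 := hess _ p₂ (surjective_of_comp_quot (p₂ ≫ f) qA hkA h2)
      have h4 : Function.Surjective (p₁ ≫ g) := by
        rw [hP.w]
        exact surj_comp p₂ qB h3 hqB
      exact surj_of_comp p₁ g h4
  · rintro ⟨hf, hess⟩
    refine ⟨?_, ?_⟩
    · apply surjective_of_comp_quot f qA hkA
      rw [← hf']
      exact surj_comp qB f' hqB hf
    · intro C g hg
      apply surjective_of_comp_quot g qB hkB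
      apply hess C (g ≫ qB)
      rw [Category.assoc, hf', ← Category.assoc]
      exact surj_comp (g ≫ f) qA hg hqA

end H6Art
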