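import Groth.Agent.Lib.helper6.ArtFinite

/-! Fibre products in `ArtFun.Art Λ k` and dévissage of the comparison map (helper6). -/

set_option autoImplicit false
universe u v
open CategoryTheory

namespace H6Art

open ArtFun ArtFun.Art

variable {Λ : Type u} {k : Type u} [CommRing Λ] [Field k] [Algebra Λ k]

section Lift

variable {B A A' A'' : Art Λ k} {p' : B ⟶ A'} {p'' : B ⟶ A''} {f' : A' ⟶ A} {f'' : A'' ⟶ A}

/-- The universal property of a pinned fibre product. -/
theorem IsFibreProd.exists_lift (h : IsFibreProd p' p'' f' f'') {T : Art Λ k} (g' : T ⟶ A')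
    (g'' : T ⟶ A'') (hw : g' ≫ f' = g'' ≫ f'') : ∃ s : T ⟶ B, s ≫ p' = g' ∧ s ≫ p'' = g'' := by
  let P := AlgHom.pullback f'.toAlgHom f''.toAlgHom
  let φ : B →ₐ[Λ] P := (AlgHom.prod p'.toAlgHom p''.toAlgHom).codRestrict P (fun b => h.w_apply b)
  have hφ : Function.Bijective φ := by
    constructor
    · intro b₁ b₂ hb
      have h1 := congrArg (fun z : P => z.1.1) hb
      have h2 := congrArg (fun z : P => z.1.2) hb
      exact h.inj b₁ b₂ h1 h2
    · rintro ⟨⟨a', a''⟩, hx⟩
      obtain ⟨b, hb1, hb2⟩ := h.surj a' a'' hx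
      exact ⟨b, Subtype.ext (Prod.ext hb1 hb2)⟩
  let e : B ≃ₐ[Λ] P := AlgEquiv.ofBijective φ hφ
  have hwa : ∀ t : T, f' (g' t) = f'' (g'' t) := fun t => by
    change (g' ≫ f') t = (g'' ≫ f'') t
    rw [hw]
  let ψ : T →ₐ[Λ] P := (AlgHom.prod g'.toAlgHom g''.toAlgHom).codRestrict P hwa
  have he1 : ∀ y : P, p' (e.symm y) = y.1.1 := by
    intro y
    have : e (e.symm y) = y := e.apply_symm_apply y
    exact congrArg (fun z : P => z.1.1) this
  have he2 : ∀ y : P, p'' (e.symm y) = y.1.2 := by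
    intro y
    have : e (e.symm y) = y := e.apply_symm_apply y
    exact congrArg (fun z : P => z.1.2) this
  refine ⟨Art.homMk ((e.symm : P →ₐ[Λ] B).comp ψ) ?_, ?_, ?_⟩
  · apply AlgHom.ext
    intro t
    change B.res (e.symm (ψ t)) = T.res t
    rw [← Art.res_app p', he1]
    exact Art.res_app g' t
  · apply Art.hom_ext
    apply AlgHom.ext
    intro t
    exact he1 (ψ t)
  · apply Art.hom_ext
    apply AlgHom.ext
    intro t
    exact he2 (ψ t)

/-- The universal property of a pinned fibre product, for maps out of an augmented algebra. -/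
theorem IsFibreProd.exists_homSet_lift (h : IsFibreProd p' p'' f' f'') {R : Type u} [CommRing R]
    [Algebra Λ R] {resR : R →ₐ[Λ] k} (g' : HomSet R resR A') (g'' : HomSet R resR A'')
    (hw : HomSet.map f' g' = HomSet.map f'' g'') :
    ∃ s : HomSet R resR B, HomSet.map p' s = g' ∧ HomSet.map p'' s = g'' := by
  let P := AlgHom.pullback f'.toAlgHom f''.toAlgHom
  let φ : B →ₐ[Λ] P := (AlgHom.prod p'.toAlgHom p''.toAlgHom).codRestrict P (fun b => h.w_apply b)
  have hφ : Function.Bijective φ := by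
    constructor
    · intro b₁ b₂ hb
      have h1 := congrArg (fun z : P => z.1.1) hb
      have h2 := congrArg (fun z : P => z.1.2) hb
      exact h.inj b₁ b₂ h1 h2
    · rintro ⟨⟨a', a''⟩, hx⟩
      obtain ⟨b, hb1, hb2⟩ := h.surj a' a'' hx
      exact ⟨b, Subtype.ext (Prod.ext hb1 hb2)⟩
  let e : B ≃ₐ[Λ] P := AlgEquiv.ofBijective φ hφ
  have hwa : ∀ t : R, f' (g'.1 t) = f'' (g''.1 t) := fun t => by
    have := congrArg (fun z : HomSet R resR A => z.1 t) hw
    exact this
  let ψ : R →ₐ[Λ] P := (AlgHom.prod g'.1 g''.1).codRestrict P hwa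
  have he1 : ∀ y : P, p' (e.symm y) = y.1.1 := by
    intro y
    have : e (e.symm y) = y := e.apply_symm_apply y
    exact congrArg (fun z : P => z.1.1) this
  have he2 : ∀ y : P, p'' (e.symm y) = y.1.2 := by
    intro y
    have : e (e.symm y) = y := e.apply_symm_apply y
    exact congrArg (fun z : P => z.1.2) this
  refine ⟨⟨(e.symm : P →ₐ[Λ] B).comp ψ, ?_⟩, ?_, ?_⟩
  · apply AlgHom.ext
    intro t
    change B.res (e.symm (ψ t)) = resR t
    rw [← Art.res_app p', he1, ← g'.2]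
    rfl
  · apply Subtype.ext
    apply AlgHom.ext
    intro t
    exact he1 (ψ t)
  · apply Subtype.ext
    apply AlgHom.ext
    intro t
    exact he2 (ψ t)

end Lift

section Devissage

variable {F : Art Λ k ⥤ Type v}

/-- If `f''` is an isomorphism, the comparison map of any fibre-product square over it is
bijective. -/
theorem cmp_bijective_of_isIso {B A A' A'' : Art Λ k} {p' : B ⟶ A'} {p'' : B ⟶ A''} {f' : A' ⟶ A}
    {f'' : A'' ⟶ A} (h : IsFibreProd p' p'' f' f'') [IsIso f''] :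
    Function.Bijective (cmp F h) := by
  have hp' : IsIso p' := by
    apply isIso_of_bijective
    constructor
    · intro b₁ b₂ hb
      apply h.inj b₁ b₂ hb
      have h1 : f'' (p'' b₁) = f'' (p'' b₂) := by
        rw [← h.w_apply, ← h.w_apply, hb]
      have h2 := congrArg (fun a => (inv f'') a) h1
      change (f'' ≫ inv f'') (p'' b₁) = (f'' ≫ inv f'') (p'' b₂) at h2
      rw [IsIso.hom_inv_id] at h2
      exact h2
    · intro a'
      obtain ⟨b, hb, -⟩ := h.surj a' ((inv f'') (f' a')) (by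
        change f' a' = (inv f'' ≫ f'') (f' a')
        rw [IsIso.inv_hom_id]
        rfl)
      exact ⟨b, hb⟩
  have hp'' : p'' = p' ≫ f' ≫ inv f'' := by
    rw [← Category.assoc, h.w, Category.assoc, IsIso.hom_inv_id, Category.comp_id]
  constructor
  · intro z₁ z₂ hz
    have h1 : F.map p' z₁ = F.map p' z₂ := congrArg (fun t => t.1.1) hz
    have h2 := congrArg (F.map (inv p')) h1
    rw [← Functor.map_comp_apply, ← Functor.map_comp_apply, IsIso.hom_inv_id,
      Functor.map_id_apply, Functor.map_id_apply] at h2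
    exact h2
  · rintro ⟨⟨x', x''⟩, hx⟩
    have hx' : F.map f' x' = F.map f'' x'' := hx
    refine ⟨F.map (inv p') x', Subtype.ext (Prod.ext ?_ ?_)⟩
    · change F.map p' (F.map (inv p') x') = x'
      rw [← Functor.map_comp_apply, IsIso.inv_hom_id, Functor.map_id_apply]
    · change F.map p'' (F.map (inv p') x') = x''
      rw [hp'', ← Functor.map_comp_apply, IsIso.inv_hom_id_assoc, Functor.map_comp_apply, hx',
        ← Functor.map_comp_apply, IsIso.hom_inv_id, Functor.map_id_apply]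

variable [IsNoetherianRing Λ] [Module.Finite Λ k]

/-- Decomposition of a fibre-product square over a composite `p ≫ q` of surjections into two
fibre-product squares. -/
theorem exists_isFibreProd_comp {B A A' B₀ C : Art Λ k} {p' : B ⟶ A'} {p'' : B ⟶ C} {f' : A' ⟶ A}
    {p : C ⟶ B₀} {q : B₀ ⟶ A} (h : IsFibreProd p' p'' f' (p ≫ q)) (hq : Function.Surjective q) :
    ∃ (B₁ : Art Λ k) (r' : B₁ ⟶ A') (r'' : B₁ ⟶ B₀) (s : B ⟶ B₁),
      IsFibreProd r' r'' f' q ∧ IsFibreProd s p'' r'' p ∧ s ≫ r' = p' := by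
  let B₁ := fibreProd f' q hq
  let r' : B₁ ⟶ A' := fibreProdFst f' q hq
  let r'' : B₁ ⟶ B₀ := fibreProdSnd f' q hq
  have h₁ : IsFibreProd r' r'' f' q := isFibreProd_fibreProd f' q hq
  obtain ⟨s, hs1, hs2⟩ := IsFibreProd.exists_lift h₁ p' (p'' ≫ p) (by rw [h.w, Category.assoc])
  have hs1a : ∀ b, r' (s b) = p' b := fun b => by
    change (s ≫ r') b = p' b
    rw [hs1]
  have hs2a : ∀ b, r'' (s b) = p (p'' b) := fun b => by
    change (s ≫ r'') b = (p'' ≫ p) b
    rw [hs2]
  refine ⟨B₁, r', r'', s, h₁, ⟨hs2, ?_, ?_⟩, hs1⟩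
  · intro b₁ b₂ hb1 hb2
    apply h.inj b₁ b₂ _ hb2
    rw [← hs1a, ← hs1a, hb1]
  · intro y c hyc
    obtain ⟨b, hb1, hb2⟩ := h.surj (r' y) c (by
      rw [h₁.w_apply, hyc]
      rfl)
    refine ⟨b, ?_, hb2⟩
    apply h₁.inj
    · rw [hs1a, hb1]
    · rw [hs2a, hb2, hyc]

/-- Surjectivity of the comparison map for small extensions implies it for all surjections. -/
theorem cmp_surjective_of_smallExt
    (hsm : ∀ ⦃B A A' A'' : Art Λ k⦄ (p' : B ⟶ A') (p'' : B ⟶ A'') (f' : A' ⟶ A) (f'' : A'' ⟶ A)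
      (h : IsFibreProd p' p'' f' f''), IsSmallExt f'' → Function.Surjective (cmp F h))
    ⦃B A A' A'' : Art Λ k⦄ (p' : B ⟶ A') (p'' : B ⟶ A'') (f' : A' ⟶ A) (f'' : A'' ⟶ A)
    (h : IsFibreProd p' p'' f' f'') (hf'' : Function.Surjective f'') :
    Function.Surjective (cmp F h) := by
  have key := surjective_induction_smallExt (Λ := Λ) (k := k)
    (fun A A'' f'' => Function.Surjective f'' ∧ ∀ ⦃B A' : Art Λ k⦄ (p' : B ⟶ A') (p'' : B ⟶ A'')
      (f' : A' ⟶ A) (h : IsFibreProd p' p'' f' f''), Function.Surjective (cmp F h)) ?_ ?_ ?_ f'' hf''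
  · exact key.2 p' p'' f' h
  · intro A A'' e he
    refine ⟨fun a => ⟨(inv e) a, ?_⟩, fun B A' p' p'' f' h => (cmp_bijective_of_isIso h).2⟩
    change (inv e ≫ e) a = a
    rw [IsIso.inv_hom_id]
    rfl
  · intro A A'' e he
    exact ⟨he.1, fun B A' p' p'' f' h => hsm p' p'' f' e h he⟩
  · intro A B₀ C p q hp hq
    refine ⟨hq.1.comp hp.1, fun B A' p' p'' f' h => ?_⟩
    obtain ⟨B₁, r', r'', s, h₁, h₂, hs⟩ := exists_isFibreProd_comp h hq.1
    rintro ⟨⟨x', x''⟩, hx⟩
    have hx' : F.map f' x' = F.map (p ≫ q) x'' := hx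
    obtain ⟨y₁, hy₁⟩ := hq.2 r' r'' f' h₁ ⟨(x', F.map p x''), by
      change F.map f' x' = F.map q (F.map p x'')
      rw [hx', Functor.map_comp_apply]⟩
    have hy11 : F.map r' y₁ = x' := congrArg (fun t => t.1.1) hy₁
    have hy12 : F.map r'' y₁ = F.map p x'' := congrArg (fun t => t.1.2) hy₁
    obtain ⟨z, hz⟩ := hp.2 s p'' r'' h₂ ⟨(y₁, x''), hy12⟩
    have hz1 : F.map s z = y₁ := congrArg (fun t => t.1.1) hz
    have hz2 : F.map p'' z = x'' := congrArg (fun t => t.1.2) hz
    refine ⟨z, Subtype.ext (Prod.ext ?_ hz2)⟩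
    change F.map p' z = x'
    rw [← hs, Functor.map_comp_apply, hz1, hy11]

/-- Injectivity of the comparison map for small extensions implies it for all surjections. -/
theorem cmp_injective_of_smallExt
    (hsm : ∀ ⦃B A A' A'' : Art Λ k⦄ (p' : B ⟶ A') (p'' : B ⟶ A'') (f' : A' ⟶ A) (f'' : A'' ⟶ A)
      (h : IsFibreProd p' p'' f' f''), IsSmallExt f'' → Function.Injective (cmp F h))
    ⦃B A A' A'' : Art Λ k⦄ (p' : B ⟶ A') (p'' : B ⟶ A'') (f' : A' ⟶ A) (f'' : A'' ⟶ A)
    (h : IsFibreProd p' p'' f' f'') (hf'' : Function.Surjective f'') :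
    Function.Injective (cmp F h) := by
  have key := surjective_induction_smallExt (Λ := Λ) (k := k)
    (fun A A'' f'' => Function.Surjective f'' ∧ ∀ ⦃B A' : Art Λ k⦄ (p' : B ⟶ A') (p'' : B ⟶ A'')
      (f' : A' ⟶ A) (h : IsFibreProd p' p'' f' f''), Function.Injective (cmp F h)) ?_ ?_ ?_ f'' hf''
  · exact key.2 p' p'' f' h
  · intro A A'' e he
    refine ⟨fun a => ⟨(inv e) a, ?_⟩, fun B A' p' p'' f' h => (cmp_bijective_of_isIso h).1⟩
    change (inv e ≫ e) a = a
    rw [IsIso.inv_hom_id]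
    rfl
  · intro A A'' e he
    exact ⟨he.1, fun B A' p' p'' f' h => hsm p' p'' f' e h he⟩
  · intro A B₀ C p q hp hq
    refine ⟨hq.1.comp hp.1, fun B A' p' p'' f' h => ?_⟩
    obtain ⟨B₁, r', r'', s, h₁, h₂, hs⟩ := exists_isFibreProd_comp h hq.1
    intro z₁ z₂ hz
    have hz1 : F.map p' z₁ = F.map p' z₂ := congrArg (fun t => t.1.1) hz
    have hz2 : F.map p'' z₁ = F.map p'' z₂ := congrArg (fun t => t.1.2) hz
    have hs1 : F.map s z₁ = F.map s z₂ := by
      apply hq.2 r' r'' f' h₁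
      apply Subtype.ext
      apply Prod.ext
      · change F.map r' (F.map s z₁) = F.map r' (F.map s z₂)
        rw [← Functor.map_comp_apply, ← Functor.map_comp_apply, hs, hz1]
      · change F.map r'' (F.map s z₁) = F.map r'' (F.map s z₂)
        rw [← Functor.map_comp_apply, ← Functor.map_comp_apply, h₂.w, Functor.map_comp_apply,
          Functor.map_comp_apply, hz2]
    apply hp.2 s p'' r'' h₂
    exact Subtype.ext (Prod.ext hs1 hz2)

end Devissage

end H6Art
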