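import Groth.Agent.Lib.helper6.ArtVersal
import Groth.Prelude.Def_ArtFun5

/-! Formal elements versus families over a complete local ring (helper6). -/

set_option autoImplicit false
universe u v
open CategoryTheory

namespace H6Art

open ArtFun ArtFun.Art

variable {Λ : Type u} {k : Type u} [CommRing Λ] [Field k] [Algebra Λ k]

lemma family_ext {R : Type u} [CommRing R] [Algebra Λ R] {resR : R →ₐ[Λ] k} {F : Art Λ k ⥤ Type v}
    {ξ ξ' : Family R resR F} (h : ∀ A φ, ξ.app A φ = ξ'.app A φ) : ξ = ξ' := by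
  cases ξ; cases ξ'; congr; funext A φ; exact h A φ

/-- The maximal ideal of an object of `Art Λ k` is nilpotent. -/
lemma exists_pow_maximalIdeal_eq_bot (A : Art Λ k) : ∃ n : ℕ, IsLocalRing.maximalIdeal A ^ (n + 1) = ⊥ := by
  have h1 : IsNilpotent (Ideal.jacobson (⊥ : Ideal A)) := IsArtinianRing.isNilpotent_jacobson_bot
  rw [IsLocalRing.jacobson_eq_maximalIdeal ⊥ bot_ne_top] at h1
  obtain ⟨n, hn⟩ := h1
  refine ⟨n, ?_⟩
  rw [pow_succ, hn]
  simp

/-- A chosen nilpotency index. -/
noncomputable def nilIndex (A : Art Λ k) : ℕ := (exists_pow_maximalIdeal_eq_bot A).choose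

lemma nilIndex_spec (A : Art Λ k) : IsLocalRing.maximalIdeal A ^ (nilIndex A + 1) = ⊥ :=
  (exists_pow_maximalIdeal_eq_bot A).choose_spec

lemma pow_maximalIdeal_eq_bot_of_le (A : Art Λ k) {n N : ℕ} (h : n ≤ N)
    (hn : IsLocalRing.maximalIdeal A ^ (n + 1) = ⊥) : IsLocalRing.maximalIdeal A ^ (N + 1) = ⊥ := by
  rw [← le_bot_iff, ← hn]
  exact Ideal.pow_le_pow_right (Nat.succ_le_succ h)

variable (R : CRing Λ k)

/-- Transition maps between truncations. -/
noncomputable def truncMapLE {n N : ℕ} (h : n ≤ N) : R.trunc N ⟶ R.trunc n :=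
  ⟨Ideal.Quotient.factorₐ Λ (Ideal.pow_le_pow_right (Nat.succ_le_succ h)), by
    apply AlgHom.ext
    intro x
    obtain ⟨a, rfl⟩ := Ideal.Quotient.mk_surjective x
    rfl⟩

lemma truncMapLE_mk {n N : ℕ} (h : n ≤ N) (a : R.carrier) :
    truncMapLE R h (Ideal.Quotient.mk (R.mpow N) a) = Ideal.Quotient.mk (R.mpow n) a := rfl

lemma hom_ext_trunc {n : ℕ} {A : Art Λ k} {f g : R.trunc n ⟶ A}
    (h : ∀ a : R.carrier, f (Ideal.Quotient.mk (R.mpow n) a) = g (Ideal.Quotient.mk (R.mpow n) a)) :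
    f = g := by
  apply Art.hom_ext
  apply AlgHom.ext
  intro x
  obtain ⟨a, rfl⟩ := Ideal.Quotient.mk_surjective x
  exact h a

lemma truncMapLE_refl (n : ℕ) : truncMapLE R (le_refl n) = 𝟙 (R.trunc n) :=
  hom_ext_trunc R fun _ => rfl

lemma truncMapLE_succ {n N : ℕ} (h : n ≤ N) :
    truncMapLE R (Nat.le_succ_of_le h) = R.truncMap N ≫ truncMapLE R h :=
  hom_ext_trunc R fun _ => rfl

lemma truncMapLE_truncHom {n N : ℕ} (h : n ≤ N) :
    HomSet.map (truncMapLE R h) (R.truncHom N) = R.truncHom n :=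
  Subtype.ext (AlgHom.ext fun _ => rfl)

variable {R}
variable {F : Art Λ k ⥤ Type v}

lemma formalElt_map_truncMapLE (u : FormalElt F R) {n N : ℕ} (h : n ≤ N) :
    F.map (truncMapLE R h) (u.elt N) = u.elt n := by
  induction N, h using Nat.le_induction with
  | base => rw [truncMapLE_refl, Functor.map_id_apply]
  | succ N h ih =>
    rw [truncMapLE_succ R h, Functor.map_comp_apply, u.compat, ih]

lemma homSet_map_maximalIdeal {A : Art Λ k} (φ : HomSet R.carrier R.res A) {r : R.carrier}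
    (hr : r ∈ IsLocalRing.maximalIdeal R.carrier) : φ.1 r ∈ IsLocalRing.maximalIdeal A := by
  rw [Art.mem_maximalIdeal_iff]
  have e1 : A.res (φ.1 r) = R.res r := congrArg (fun g : R.carrier →ₐ[Λ] k => g r) φ.2
  rw [e1]
  exact (CRing.mem_maximalIdeal_iff R r).1 hr

lemma mpow_le_ker {A : Art Λ k} (φ : HomSet R.carrier R.res A) (n : ℕ)
    (hn : IsLocalRing.maximalIdeal A ^ (n + 1) = ⊥) : ∀ a ∈ R.mpow n, φ.1 a = 0 := by
  intro a ha
  have h1 : Ideal.map φ.1 (R.mpow n) ≤ IsLocalRing.maximalIdeal A ^ (n + 1) := by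
    rw [CRing.mpow, Ideal.map_pow]
    apply Ideal.pow_right_mono
    rw [Ideal.map_le_iff_le_comap]
    intro r hr
    exact homSet_map_maximalIdeal φ hr
  have h2 : φ.1 a ∈ Ideal.map φ.1 (R.mpow n) := Ideal.mem_map_of_mem _ ha
  have h3 := h1 h2
  rw [hn] at h3
  exact h3

/-- Factorisation of a point of `h_R(A)` through a truncation. -/
noncomputable def factorHom {A : Art Λ k} (φ : HomSet R.carrier R.res A) (n : ℕ)
    (hn : IsLocalRing.maximalIdeal A ^ (n + 1) = ⊥) : R.trunc n ⟶ A :=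
  ⟨Ideal.Quotient.liftₐ (R.mpow n) φ.1 (mpow_le_ker φ n hn), by
    apply AlgHom.ext
    intro x
    obtain ⟨a, rfl⟩ := Ideal.Quotient.mk_surjective x
    exact congrArg (fun g : R.carrier →ₐ[Λ] k => g a) φ.2⟩

lemma factorHom_mk {A : Art Λ k} (φ : HomSet R.carrier R.res A) (n : ℕ)
    (hn : IsLocalRing.maximalIdeal A ^ (n + 1) = ⊥) (a : R.carrier) :
    factorHom φ n hn (Ideal.Quotient.mk (R.mpow n) a) = φ.1 a := rfl

lemma factorHom_truncHom {A : Art Λ k} (φ : HomSet R.carrier R.res A) (n : ℕ)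
    (hn : IsLocalRing.maximalIdeal A ^ (n + 1) = ⊥) :
    HomSet.map (factorHom φ n hn) (R.truncHom n) = φ :=
  Subtype.ext (AlgHom.ext fun _ => rfl)

lemma eq_factorHom {A : Art Λ k} (φ : HomSet R.carrier R.res A) (n : ℕ)
    (hn : IsLocalRing.maximalIdeal A ^ (n + 1) = ⊥) (ψ : R.trunc n ⟶ A)
    (hψ : HomSet.map ψ (R.truncHom n) = φ) : ψ = factorHom φ n hn := by
  apply hom_ext_trunc
  intro a
  rw [factorHom_mk]
  exact congrArg (fun g : HomSet R.carrier R.res A => g.1 a) hψ

lemma factorHom_le {A : Art Λ k} (φ : HomSet R.carrier R.res A) {n N : ℕ} (h : n ≤ N)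
    (hn : IsLocalRing.maximalIdeal A ^ (n + 1) = ⊥) :
    factorHom φ N (pow_maximalIdeal_eq_bot_of_le A h hn) = truncMapLE R h ≫ factorHom φ n hn :=
  hom_ext_trunc R fun _ => rfl

lemma factorHom_comp {A B : Art Λ k} (f : A ⟶ B) (φ : HomSet R.carrier R.res A) (n : ℕ)
    (hA : IsLocalRing.maximalIdeal A ^ (n + 1) = ⊥) (hB : IsLocalRing.maximalIdeal B ^ (n + 1) = ⊥) :
    factorHom (HomSet.map f φ) n hB = factorHom φ n hA ≫ f :=
  hom_ext_trunc R fun _ => rfl

/-- The value of the family attached to a formal element, computed at any admissible level. -/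
lemma formalElt_level_indep (u : FormalElt F R) {A : Art Λ k} (φ : HomSet R.carrier R.res A)
    (n n' : ℕ) (hn : IsLocalRing.maximalIdeal A ^ (n + 1) = ⊥)
    (hn' : IsLocalRing.maximalIdeal A ^ (n' + 1) = ⊥) :
    F.map (factorHom φ n hn) (u.elt n) = F.map (factorHom φ n' hn') (u.elt n') := by
  have key : ∀ (m M : ℕ) (h : m ≤ M) (hm : IsLocalRing.maximalIdeal A ^ (m + 1) = ⊥),
      F.map (factorHom φ M (pow_maximalIdeal_eq_bot_of_le A h hm)) (u.elt M) =
        F.map (factorHom φ m hm) (u.elt m) := by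
    intro m M h hm
    rw [factorHom_le φ h hm, Functor.map_comp_apply, formalElt_map_truncMapLE]
  rw [← key n (max n n') (le_max_left _ _) hn, ← key n' (max n n') (le_max_right _ _) hn']

/-- The family attached to a formal element. -/
noncomputable def formalEltToFamily (u : FormalElt F R) : Family R.carrier R.res F where
  app A φ := F.map (factorHom φ (nilIndex A) (nilIndex_spec A)) (u.elt (nilIndex A))
  natural := by
    intro A B f φ
    set N := max (nilIndex A) (nilIndex B) with hN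
    have hA : IsLocalRing.maximalIdeal A ^ (N + 1) = ⊥ :=
      pow_maximalIdeal_eq_bot_of_le A (le_max_left _ _) (nilIndex_spec A)
    have hB : IsLocalRing.maximalIdeal B ^ (N + 1) = ⊥ :=
      pow_maximalIdeal_eq_bot_of_le B (le_max_right _ _) (nilIndex_spec B)
    rw [formalElt_level_indep u (HomSet.map f φ) (nilIndex B) N (nilIndex_spec B) hB,
      formalElt_level_indep u φ (nilIndex A) N (nilIndex_spec A) hA, factorHom_comp f φ N hA hB,
      Functor.map_comp_apply]

lemma formalEltToFamily_app (u : FormalElt F R) {A : Art Λ k} (φ : HomSet R.carrier R.res A) (n : ℕ)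
    (hn : IsLocalRing.maximalIdeal A ^ (n + 1) = ⊥) :
    (formalEltToFamily u).app A φ = F.map (factorHom φ n hn) (u.elt n) :=
  formalElt_level_indep u φ _ _ _ _

lemma toFormalElt_formalEltToFamily (u : FormalElt F R) : (formalEltToFamily u).toFormalElt = u := by
  apply FormalElt.ext'
  intro n
  change (formalEltToFamily u).app (R.trunc n) (R.truncHom n) = u.elt n
  set N := max (nilIndex (R.trunc n)) n with hN
  have hN' : IsLocalRing.maximalIdeal (R.trunc n) ^ (N + 1) = ⊥ :=
    pow_maximalIdeal_eq_bot_of_le _ (le_max_left _ _) (nilIndex_spec _)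
  rw [formalEltToFamily_app u (R.truncHom n) N hN',
    ← eq_factorHom (R.truncHom n) N hN' (truncMapLE R (le_max_right _ _)) (truncMapLE_truncHom R _),
    formalElt_map_truncMapLE]

lemma family_app_eq (ξ : Family R.carrier R.res F) {A : Art Λ k} (φ : HomSet R.carrier R.res A) (n : ℕ)
    (hn : IsLocalRing.maximalIdeal A ^ (n + 1) = ⊥) :
    ξ.app A φ = F.map (factorHom φ n hn) (ξ.toFormalElt.elt n) := by
  change ξ.app A φ = F.map (factorHom φ n hn) (ξ.app _ (R.truncHom n))
  rw [← ξ.natural, factorHom_truncHom]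

theorem toFormalElt_injective :
    Function.Injective (fun ξ : Family R.carrier R.res F => ξ.toFormalElt) := by
  intro ξ ξ' h
  have h' : ξ.toFormalElt = ξ'.toFormalElt := h
  apply family_ext
  intro A φ
  rw [family_app_eq ξ φ _ (nilIndex_spec A), family_app_eq ξ' φ _ (nilIndex_spec A), h']

theorem toFormalElt_bijective :
    Function.Bijective (fun ξ : Family R.carrier R.res F => ξ.toFormalElt) :=
  ⟨toFormalElt_injective, fun u => ⟨formalEltToFamily u, toFormalElt_formalEltToFamily u⟩⟩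

end H6Art
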