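import Groth.Agent.Lib.helper6.ArtFinite
import Groth.Agent.Lib.helper6.ArtFormal
import Mathlib.RingTheory.Henselian
import Mathlib.FieldTheory.Separable

/-! Fibre products in `Art Λ k` along arbitrary morphisms when `k` is separable over the image of
`Λ` (helper6). The residue map of the set-theoretic fibre product is surjective by Hensel's lemma. -/

set_option autoImplicit false
universe u v
open CategoryTheory

namespace H6Art

open ArtFun ArtFun.Art Polynomial

variable {Λ : Type u} {k : Type u} [CommRing Λ] [Field k] [Algebra Λ k]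

lemma isAdicComplete_of_pow_eq_bot {R : Type*} [CommRing R] (I : Ideal R) (N : ℕ)
    (hN : I ^ N = ⊥) : IsAdicComplete I R := by
  have hbot : (I ^ N • ⊤ : Submodule R R) = ⊥ := by
    rw [hN]
    simp
  refine { toIsHausdorff := ⟨?_⟩, toIsPrecomplete := ⟨?_⟩ }
  · intro x hx
    have h := hx N
    rw [hbot, SModEq.bot] at h
    exact h
  · intro f hf
    refine ⟨f N, fun n => ?_⟩
    rcases le_total n N with h | h
    · exact hf h
    · have h2 := hf h
      rw [hbot, SModEq.bot] at h2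
      rw [h2]

lemma exists_root (B : Art Λ k) (g : Λ[X]) (hg : g.Monic) (c : k) (hc : aeval c g = 0)
    (hc' : aeval c (derivative g) ≠ 0) : ∃ b : B, aeval b g = 0 ∧ B.res b = c := by
  obtain ⟨N, hN⟩ := exists_pow_maximalIdeal_eq_bot B
  haveI : IsAdicComplete (IsLocalRing.maximalIdeal B) B := isAdicComplete_of_pow_eq_bot _ _ hN
  obtain ⟨a₀, ha₀⟩ := B.res_surjective c
  have h1 : (g.map (algebraMap Λ B)).eval a₀ ∈ IsLocalRing.maximalIdeal B := by
    rw [eval_map_algebraMap, Art.mem_maximalIdeal_iff, ← aeval_algHom_apply, ha₀, hc]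
  have h2 : IsUnit ((g.map (algebraMap Λ B)).derivative.eval a₀) := by
    rw [derivative_map, eval_map_algebraMap, isUnit_iff_res_ne_zero, ← aeval_algHom_apply, ha₀]
    exact hc'
  obtain ⟨a, ha, haa⟩ := HenselianRing.is_henselian (I := IsLocalRing.maximalIdeal B) _
    (hg.map _) a₀ h1 (h2.map _)
  refine ⟨a, ?_, ?_⟩
  · rw [← eval_map_algebraMap]
    exact ha
  · rw [Art.mem_maximalIdeal_iff, map_sub, sub_eq_zero] at haa
    rw [haa, ha₀]

lemma root_unique (B : Art Λ k) (g : Λ[X]) (b b' : B) (hb : aeval b g = 0) (hb' : aeval b' g = 0)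
    (hres : B.res b = B.res b') (hder : aeval (B.res b) (derivative g) ≠ 0) : b = b' := by
  obtain ⟨e, he⟩ := (g.map (algebraMap Λ B)).binomExpansion b (b' - b)
  rw [add_sub_cancel, eval_map_algebraMap, eval_map_algebraMap, hb, hb', derivative_map,
    eval_map_algebraMap] at he
  have hu : IsUnit (aeval b (derivative g) + e * (b' - b)) := by
    rw [isUnit_iff_res_ne_zero, map_add, map_mul, map_sub, ← hres, sub_self, mul_zero, add_zero,
      ← aeval_algHom_apply]
    exact hder
  have h0 : (aeval b (derivative g) + e * (b' - b)) * (b' - b) = 0 := by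
    linear_combination -he
  have h3 := (hu.mul_right_eq_zero).1 h0
  exact (sub_eq_zero.1 h3).symm

section Sep

variable [IsNoetherianRing Λ] [Module.Finite Λ k]
  [Algebra.IsSeparable (↥(algebraMap Λ k).range) k]

omit [IsNoetherianRing Λ] [Module.Finite Λ k] in
lemma exists_sep_poly (c : k) :
    ∃ g : Λ[X], g.Monic ∧ aeval c g = 0 ∧ aeval c (derivative g) ≠ 0 := by
  have hsep : (minpoly (↥(algebraMap Λ k).range) c).Separable :=
    Algebra.IsSeparable.isSeparable (↥(algebraMap Λ k).range) c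
  have hint : IsIntegral (↥(algebraMap Λ k).range) c :=
    Algebra.IsSeparable.isIntegral (↥(algebraMap Λ k).range) c
  have hmon := minpoly.monic hint
  have hl : minpoly (↥(algebraMap Λ k).range) c ∈ lifts (algebraMap Λ k).rangeRestrict := by
    rw [mem_lifts]
    exact map_surjective _ (RingHom.rangeRestrict_surjective _) _
  obtain ⟨g, hg1, -, hg2⟩ := lifts_and_natDegree_eq_and_monic hl hmon
  have hcomp : (algebraMap (↥(algebraMap Λ k).range) k).comp (algebraMap Λ k).rangeRestrict
      = algebraMap Λ k := RingHom.ext fun _ => rfl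
  have hmap : g.map (algebraMap Λ k)
      = (minpoly (↥(algebraMap Λ k).range) c).map (algebraMap (↥(algebraMap Λ k).range) k) := by
    rw [← hg1, map_map, hcomp]
  refine ⟨g, hg2, ?_, ?_⟩
  · rw [← eval_map_algebraMap, hmap, eval_map_algebraMap, minpoly.aeval]
  · rw [← eval_map_algebraMap, ← derivative_map, hmap, derivative_map, eval_map_algebraMap]
    exact hsep.aeval_derivative_ne_zero (minpoly.aeval _ c)

variable {A A₁ A₂ : Art Λ k} (f₁ : A₁ ⟶ A) (f₂ : A₂ ⟶ A)

omit [IsNoetherianRing Λ] [Module.Finite Λ k] in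
lemma res_pullback_surjective :
    Function.Surjective (A₁.res.comp (AlgHom.pullbackFst f₁.toAlgHom f₂.toAlgHom)) := by
  intro c
  obtain ⟨g, hg, hc, hc'⟩ := exists_sep_poly (Λ := Λ) c
  obtain ⟨θ₁, h1, r1⟩ := exists_root A₁ g hg c hc hc'
  obtain ⟨θ₂, h2, r2⟩ := exists_root A₂ g hg c hc hc'
  have heq : f₁ θ₁ = f₂ θ₂ := by
    apply root_unique A g
    · change aeval (f₁.toAlgHom θ₁) g = 0
      rw [aeval_algHom_apply, h1, map_zero]
    · change aeval (f₂.toAlgHom θ₂) g = 0
      rw [aeval_algHom_apply, h2, map_zero]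
    · rw [Art.res_app, Art.res_app, r1, r2]
    · rw [Art.res_app, r1]
      exact hc'
  exact ⟨⟨(θ₁, θ₂), heq⟩, r1⟩

/-- The fibre product `A₁ ×_A A₂` as an object, given surjectivity of its residue map. -/
noncomputable def fibreProdS
    (hres : Function.Surjective (A₁.res.comp (AlgHom.pullbackFst f₁.toAlgHom f₂.toAlgHom))) :
    Art Λ k :=
  haveI _hfin₁ : Module.Finite Λ A₁ := module_finite A₁
  haveI _hfin₂ : Module.Finite Λ A₂ := module_finite A₂
  haveI : Module.Finite Λ (AlgHom.pullback f₁.toAlgHom f₂.toAlgHom) :=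
    Module.Finite.of_injective (AlgHom.pullback f₁.toAlgHom f₂.toAlgHom).val.toLinearMap
      Subtype.val_injective
  haveI : IsNoetherianRing (AlgHom.pullback f₁.toAlgHom f₂.toAlgHom) :=
    IsNoetherianRing.of_finite Λ _
  have h13 := ((Ring.krullDimLE_zero_and_isLocalRing_tfae
    (AlgHom.pullback f₁.toAlgHom f₂.toAlgHom)).out 0 2 rfl rfl).mpr (pullback_nilpotent_iff f₁ f₂)
  haveI : IsLocalRing (AlgHom.pullback f₁.toAlgHom f₂.toAlgHom) := h13.2
  haveI : Ring.KrullDimLE 0 (AlgHom.pullback f₁.toAlgHom f₂.toAlgHom) := h13.1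
  haveI : IsArtinianRing (AlgHom.pullback f₁.toAlgHom f₂.toAlgHom) :=
    isArtinianRing_iff_krullDimLE_zero.2 inferInstance
  { carrier := AlgHom.pullback f₁.toAlgHom f₂.toAlgHom
    res := A₁.res.comp (AlgHom.pullbackFst f₁.toAlgHom f₂.toAlgHom)
    res_surjective := hres }

variable (hres : Function.Surjective (A₁.res.comp (AlgHom.pullbackFst f₁.toAlgHom f₂.toAlgHom)))

/-- First projection. -/
noncomputable def fibreProdSFst : fibreProdS f₁ f₂ hres ⟶ A₁ :=
  Art.homMk (AlgHom.pullbackFst f₁.toAlgHom f₂.toAlgHom) rfl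

/-- Second projection. -/
noncomputable def fibreProdSSnd : fibreProdS f₁ f₂ hres ⟶ A₂ :=
  Art.homMk (AlgHom.pullbackSnd f₁.toAlgHom f₂.toAlgHom) (AlgHom.ext fun x => by
    obtain ⟨⟨a₁, a₂⟩, hx⟩ := x
    have hx' : f₁ a₁ = f₂ a₂ := hx
    change A₂.res a₂ = A₁.res a₁
    rw [← Art.res_app f₁, ← Art.res_app f₂, hx'])

theorem isFibreProd_fibreProdS :
    IsFibreProd (fibreProdSFst f₁ f₂ hres) (fibreProdSSnd f₁ f₂ hres) f₁ f₂ where
  w := by
    apply Art.hom_ext
    apply AlgHom.ext
    intro x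
    exact x.2
  inj := by
    intro b₁ b₂ h1 h2
    apply Subtype.ext
    exact Prod.ext h1 h2
  surj := by
    intro a' a'' h
    exact ⟨⟨(a', a''), h⟩, rfl, rfl⟩

theorem exists_isFibreProd_of_isSeparable :
    ∃ (B : Art Λ k) (p₁ : B ⟶ A₁) (p₂ : B ⟶ A₂), IsFibreProd p₁ p₂ f₁ f₂ :=
  ⟨_, _, _, isFibreProd_fibreProdS f₁ f₂ (res_pullback_surjective f₁ f₂)⟩

end Sep

end H6Art
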