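import Groth.Agent.Lib.helper6.ArtBasic

/-! Objects of `ArtFun.Art Λ k` are finite `Λ`-modules when `k` is; fibre products (helper6). -/

set_option autoImplicit false
universe u v
open CategoryTheory

namespace H6Art

open ArtFun ArtFun.Art

variable {Λ : Type u} {k : Type u} [CommRing Λ] [Field k] [Algebra Λ k]

lemma finite_of_smallExt [Module.Finite Λ k] {A B : Art Λ k} (p : B ⟶ A) (hp : IsSemismallExt p)
    (hprinc : (RingHom.ker p.toAlgHom).IsPrincipal)
    (hA : Module.Finite Λ A) : Module.Finite Λ B := by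
  obtain ⟨hsurj, hkill⟩ := hp
  obtain ⟨⟨t, ht⟩⟩ := hprinc
  have ht' : RingHom.ker p.toAlgHom = Ideal.span {t} := ht
  have htmem : t ∈ RingHom.ker p.toAlgHom := by rw [ht']; exact Ideal.subset_span rfl
  let N : Submodule Λ B := LinearMap.ker p.toAlgHom.toLinearMap
  let φ : B →ₗ[Λ] B := LinearMap.mulRight Λ t
  let g : B →ₗ[Λ] k := B.res.toLinearMap
  have hg : Function.Surjective g := B.res_surjective
  have hgφ : LinearMap.ker g ≤ LinearMap.ker φ := by
    intro b hb
    have hb' : b ∈ IsLocalRing.maximalIdeal B := by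
      rw [Art.mem_maximalIdeal_iff]; exact hb
    have : b * t ∈ IsLocalRing.maximalIdeal B * RingHom.ker p.toAlgHom := Ideal.mul_mem_mul hb' htmem
    rw [hkill] at this
    exact this
  let ψ : k →ₗ[Λ] B := (Submodule.liftQ (LinearMap.ker g) φ hgφ) ∘ₗ
    (g.quotKerEquivOfSurjective hg).symm.toLinearMap
  have hψ : ∀ b : B, ψ (g b) = b * t := by
    intro b
    have : (g.quotKerEquivOfSurjective hg).symm (g b) = Submodule.Quotient.mk b := by
      rw [LinearEquiv.symm_apply_eq]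
      rfl
    change Submodule.liftQ (LinearMap.ker g) φ hgφ ((g.quotKerEquivOfSurjective hg).symm (g b)) = _
    rw [this]
    rfl
  have hN : N = Submodule.map ψ ⊤ := by
    ext x
    constructor
    · intro hx
      have hx' : x ∈ RingHom.ker p.toAlgHom := hx
      rw [ht'] at hx'
      obtain ⟨b, rfl⟩ := Ideal.mem_span_singleton'.1 hx'
      exact ⟨g b, Submodule.mem_top, hψ b⟩
    · rintro ⟨c, -, rfl⟩
      obtain ⟨b, rfl⟩ := hg c
      rw [hψ]
      change b * t ∈ RingHom.ker p.toAlgHom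
      exact Ideal.mul_mem_left _ _ htmem
  haveI : Module.Finite Λ N := by
    rw [Module.Finite.iff_fg, hN]
    exact Submodule.FG.map ψ Module.Finite.fg_top
  haveI : Module.Finite Λ (B ⧸ N) :=
    Module.Finite.of_surjective
      (p.toAlgHom.toLinearMap.quotKerEquivOfSurjective hsurj).symm.toLinearMap
      (p.toAlgHom.toLinearMap.quotKerEquivOfSurjective hsurj).symm.surjective
  exact Module.Finite.of_submodule_quotient N

/-- Every object of `Art Λ k` is a finite `Λ`-module if `k` is. -/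
theorem module_finite [Module.Finite Λ k] (A : Art Λ k) : Module.Finite Λ A := by
  have key := surjective_induction_smallExt (Λ := Λ) (k := k)
    (fun A B _ => Module.Finite Λ A → Module.Finite Λ B) ?_ ?_ ?_ (toBase A) A.res_surjective
  · exact key (inferInstanceAs (Module.Finite Λ k))
  · intro A B e he hA
    refine Module.Finite.of_surjective (inv e).toAlgHom.toLinearMap ?_
    intro b
    refine ⟨e b, ?_⟩
    change (e ≫ inv e) b = b
    rw [IsIso.hom_inv_id]
    rfl
  · intro A B p hp hA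
    exact finite_of_smallExt p hp.isSemismallExt hp.2.2.1 hA
  · intro A B C p q hp hq hA
    exact hp (hq hA)

lemma isUnit_iff_res_ne_zero (A : Art Λ k) (a : A) : IsUnit a ↔ A.res a ≠ 0 := by
  rw [← not_iff_not, not_not, ← Art.mem_maximalIdeal_iff, IsLocalRing.mem_maximalIdeal]
  rfl

lemma isNilpotent_iff_not_isUnit (A : Art Λ k) (a : A) : IsNilpotent a ↔ ¬ IsUnit a :=
  ((Ring.krullDimLE_zero_and_isLocalRing_tfae A).out 0 2 rfl rfl).mp ⟨inferInstance, inferInstance⟩ a

section FibreProd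

variable {A A₁ A₂ : Art Λ k} (f₁ : A₁ ⟶ A) (f₂ : A₂ ⟶ A)

lemma pullback_nilpotent_iff (x : AlgHom.pullback f₁.toAlgHom f₂.toAlgHom) :
    IsNilpotent x ↔ ¬ IsUnit x := by
  obtain ⟨⟨a₁, a₂⟩, hx⟩ := x
  have hx' : f₁ a₁ = f₂ a₂ := hx
  have hres : A₁.res a₁ = A₂.res a₂ := by
    rw [← Art.res_app f₁, ← Art.res_app f₂, hx']
  rw [AlgHom.isUnit_pullback_mk_iff]
  change IsNilpotent _ ↔ ¬ (IsUnit a₁ ∧ IsUnit a₂)
  constructor
  · rintro ⟨n, hn⟩ ⟨h1, _⟩
    have h2 : a₁ ^ n = 0 := by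
      have := congrArg (fun z : AlgHom.pullback f₁.toAlgHom f₂.toAlgHom => z.1.1) hn
      simpa using this
    have h3 : IsUnit (a₁ ^ n) := h1.pow n
    rw [h2] at h3
    exact not_isUnit_zero h3
  · intro h
    have h1 : ¬ IsUnit a₁ := by
      intro h1
      apply h
      refine ⟨h1, ?_⟩
      rw [isUnit_iff_res_ne_zero] at h1 ⊢
      rwa [← hres]
    have h2 : ¬ IsUnit a₂ := by
      rw [isUnit_iff_res_ne_zero] at h1 ⊢
      rwa [← hres]
    obtain ⟨n₁, hn₁⟩ := (isNilpotent_iff_not_isUnit A₁ a₁).2 h1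
    obtain ⟨n₂, hn₂⟩ := (isNilpotent_iff_not_isUnit A₂ a₂).2 h2
    refine ⟨n₁ + n₂, ?_⟩
    apply Subtype.ext
    apply Prod.ext
    · change a₁ ^ (n₁ + n₂) = 0
      rw [pow_add, hn₁, zero_mul]
    · change a₂ ^ (n₁ + n₂) = 0
      rw [pow_add, hn₂, mul_zero]

variable [IsNoetherianRing Λ] [Module.Finite Λ k]

/-- The fibre product `A₁ ×_A A₂` as an object when `f₂` is surjective. -/
noncomputable def fibreProd (hf₂ : Function.Surjective f₂) : Art Λ k :=
  haveI _hfin₁ : Module.Finite Λ A₁ := module_finite A₁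
  haveI _hfin₂ : Module.Finite Λ A₂ := module_finite A₂
  haveI : Module.Finite Λ (AlgHom.pullback f₁.toAlgHom f₂.toAlgHom) :=
    Module.Finite.of_injective (AlgHom.pullback f₁.toAlgHom f₂.toAlgHom).val.toLinearMap
      Subtype.val_injective
  haveI : IsNoetherianRing (AlgHom.pullback f₁.toAlgHom f₂.toAlgHom) :=
    IsNoetherianRing.of_finite Λ _
  have h13 := ((Ring.krullDimLE_zero_and_isLocalRing_tfae
    (AlgHom.pullback f₁.toAlgHom f₂.toAlgHom)).out 0 2 rfl rfl).mpr (pullback_nilpotent_iff f₁ f₂)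
  haveI : IsLocalRing (AlgHom.pullback f₁.toAlgHom f₂.toAlgHom) := h13.2
  haveI : Ring.KrullDimLE 0 (AlgHom.pullback f₁.toAlgHom f₂.toAlgHom) := h13.1
  haveI : IsArtinianRing (AlgHom.pullback f₁.toAlgHom f₂.toAlgHom) :=
    isArtinianRing_iff_krullDimLE_zero.2 inferInstance
  { carrier := AlgHom.pullback f₁.toAlgHom f₂.toAlgHom
    res := A₁.res.comp (AlgHom.pullbackFst f₁.toAlgHom f₂.toAlgHom)
    res_surjective := A₁.res_surjective.comp
      (AlgHom.surjective_pullbackFst_of_surjective f₁.toAlgHom f₂.toAlgHom hf₂) }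

/-- First projection. -/
noncomputable def fibreProdFst (hf₂ : Function.Surjective f₂) : fibreProd f₁ f₂ hf₂ ⟶ A₁ :=
  Art.homMk (AlgHom.pullbackFst f₁.toAlgHom f₂.toAlgHom) rfl

/-- Second projection. -/
noncomputable def fibreProdSnd (hf₂ : Function.Surjective f₂) : fibreProd f₁ f₂ hf₂ ⟶ A₂ :=
  Art.homMk (AlgHom.pullbackSnd f₁.toAlgHom f₂.toAlgHom) (AlgHom.ext fun x => by
    obtain ⟨⟨a₁, a₂⟩, hx⟩ := x
    have hx' : f₁ a₁ = f₂ a₂ := hx
    change A₂.res a₂ = A₁.res a₁
    rw [← Art.res_app f₁, ← Art.res_app f₂, hx'])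

theorem isFibreProd_fibreProd (hf₂ : Function.Surjective f₂) :
    IsFibreProd (fibreProdFst f₁ f₂ hf₂) (fibreProdSnd f₁ f₂ hf₂) f₁ f₂ where
  w := by
    apply Art.hom_ext
    apply AlgHom.ext
    intro x
    exact x.2
  inj := by
    intro b₁ b₂ h1 h2
    apply Subtype.ext
    exact Prod.ext h1 h2
  surj := by
    intro a' a'' h
    exact ⟨⟨(a', a''), h⟩, rfl, rfl⟩

end FibreProd

end H6Art
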