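import Groth.Agent.Lib.helper6.ArtFormal

/-! Algebraisation of formal elements through a versal family (helper6). -/

set_option autoImplicit false
universe u v
open CategoryTheory

namespace H6Art

open ArtFun ArtFun.Art AdicCompletion

section Lift

variable {Λ A S : Type*} [CommRing Λ] [CommRing A] [CommRing S] [Algebra Λ A] [Algebra Λ S]
  (I : Ideal S) [IsAdicComplete I S]

/-- A compatible family of algebra maps into the quotients of a complete ring lifts. -/
noncomputable def liftComplete (f : (n : ℕ) → A →ₐ[Λ] S ⧸ I ^ n)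
    (hf : ∀ {m n : ℕ} (hle : m ≤ n),
      (Ideal.Quotient.factorₐ Λ (Ideal.pow_le_pow_right hle)).comp (f n) = f m) : A →ₐ[Λ] S :=
  ((ofAlgEquiv I).symm.toAlgHom.restrictScalars Λ).comp (liftAlgHom I f hf)

lemma mk_liftComplete (f : (n : ℕ) → A →ₐ[Λ] S ⧸ I ^ n)
    (hf : ∀ {m n : ℕ} (hle : m ≤ n),
      (Ideal.Quotient.factorₐ Λ (Ideal.pow_le_pow_right hle)).comp (f n) = f m) (n : ℕ) (a : A) :
    Ideal.Quotient.mk (I ^ n) (liftComplete I f hf a) = f n a := by
  unfold liftComplete
  simp [mk_ofAlgEquiv_symm]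

end Lift

variable {Λ : Type u} {k : Type u} [CommRing Λ] [Field k] [Algebra Λ k]
variable {F : Art Λ k ⥤ Type v}

lemma truncMap_surjective (S : CRing Λ k) (n : ℕ) : Function.Surjective (S.truncMap n) := by
  intro x
  obtain ⟨a, rfl⟩ := Ideal.Quotient.mk_surjective x
  exact ⟨Ideal.Quotient.mk _ a, rfl⟩

/-- A formal element over `S` of a functor with a versal family over `R` comes from a map `R → S`. -/
theorem exists_along_toFormalElt_eq (R : CRing Λ k) (ξ : Family R.carrier R.res F) (hξ : IsVersal ξ)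
    (S : CRing Λ k) (η : FormalElt F S)
    (h0 : ∃ φ₀ : HomSet R.carrier R.res (S.trunc 0), ξ.app _ φ₀ = η.elt 0) :
    ∃ (g : R.carrier →ₐ[Λ] S.carrier) (hg : S.res.comp g = R.res),
      (ξ.along g hg).toFormalElt = η := by
  obtain ⟨φ₀, hφ₀⟩ := h0
  have hstep : ∀ (n : ℕ) (φ : HomSet R.carrier R.res (S.trunc n)), ξ.app _ φ = η.elt n →
      ∃ ψ : HomSet R.carrier R.res (S.trunc (n + 1)),
        ξ.app _ ψ = η.elt (n + 1) ∧ HomSet.map (S.truncMap n) ψ = φ := by
    intro n φ hφ
    obtain ⟨ψ, h1, h2⟩ := hξ (S.truncMap n) (truncMap_surjective S n) φ (η.elt (n + 1))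
      (by rw [η.compat, hφ])
    exact ⟨ψ, h2, h1⟩
  let seq : ∀ n : ℕ, {φ : HomSet R.carrier R.res (S.trunc n) // ξ.app _ φ = η.elt n} := fun n =>
    Nat.rec (motive := fun n => {φ : HomSet R.carrier R.res (S.trunc n) // ξ.app _ φ = η.elt n})
      ⟨φ₀, hφ₀⟩ (fun n p => ⟨(hstep n p.1 p.2).choose, (hstep n p.1 p.2).choose_spec.1⟩) n
  have hseq : ∀ n, HomSet.map (S.truncMap n) (seq (n + 1)).1 = (seq n).1 := fun n =>
    (hstep n (seq n).1 (seq n).2).choose_spec.2
  have hseqLE : ∀ {m n : ℕ} (h : m ≤ n), HomSet.map (truncMapLE S h) (seq n).1 = (seq m).1 := by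
    intro m n h
    induction n, h using Nat.le_induction with
    | base =>
      rw [truncMapLE_refl]
      exact Subtype.ext (AlgHom.ext fun _ => rfl)
    | succ n h ih =>
      rw [truncMapLE_succ S h, ← ih, ← hseq n]
      exact Subtype.ext (AlgHom.ext fun _ => rfl)
  -- the compatible system of maps `R → S/m^n`
  let f : (n : ℕ) → R.carrier →ₐ[Λ] S.carrier ⧸ IsLocalRing.maximalIdeal S.carrier ^ n := fun n =>
    (Ideal.Quotient.factorₐ Λ (Ideal.pow_le_pow_right (Nat.le_succ n))).comp (seq n).1.1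
  have hf : ∀ {m n : ℕ} (hle : m ≤ n),
      (Ideal.Quotient.factorₐ Λ (Ideal.pow_le_pow_right hle)).comp (f n) = f m := by
    intro m n hle
    apply AlgHom.ext
    intro r
    have h1 : (seq m).1.1 r = truncMapLE S hle ((seq n).1.1 r) :=
      (congrArg (fun g : HomSet R.carrier R.res (S.trunc m) => g.1 r) (hseqLE hle)).symm
    change Ideal.Quotient.factorₐ Λ (Ideal.pow_le_pow_right hle)
        (Ideal.Quotient.factorₐ Λ (Ideal.pow_le_pow_right (Nat.le_succ n)) ((seq n).1.1 r)) =
      Ideal.Quotient.factorₐ Λ (Ideal.pow_le_pow_right (Nat.le_succ m)) ((seq m).1.1 r)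
    rw [h1]
    obtain ⟨s, hs⟩ := Ideal.Quotient.mk_surjective ((seq n).1.1 r)
    rw [← hs]
    rfl
  haveI : IsAdicComplete (IsLocalRing.maximalIdeal S.carrier) S.carrier := S.isAdicComplete
  let g : R.carrier →ₐ[Λ] S.carrier := liftComplete (IsLocalRing.maximalIdeal S.carrier) f hf
  have hgmk : ∀ (n : ℕ) (r : R.carrier),
      Ideal.Quotient.mk (IsLocalRing.maximalIdeal S.carrier ^ n) (g r) = f n r :=
    fun n r => mk_liftComplete _ f hf n r
  have hkey : ∀ n : ℕ, (S.truncHom n).1.comp g = (seq n).1.1 := by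
    intro n
    apply AlgHom.ext
    intro r
    have h1 : (seq n).1.1 r = S.truncMap n ((seq (n + 1)).1.1 r) :=
      (congrArg (fun g : HomSet R.carrier R.res (S.trunc n) => g.1 r) (hseq n)).symm
    change Ideal.Quotient.mk (S.mpow n) (g r) = (seq n).1.1 r
    rw [h1]
    have h2 := hgmk (n + 1) r
    change Ideal.Quotient.mk (IsLocalRing.maximalIdeal S.carrier ^ (n + 1)) (g r) =
      Ideal.Quotient.factorₐ Λ (Ideal.pow_le_pow_right (Nat.le_succ (n + 1))) ((seq (n + 1)).1.1 r) at h2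
    refine h2.trans ?_
    obtain ⟨s, hs⟩ := Ideal.Quotient.mk_surjective ((seq (n + 1)).1.1 r)
    rw [← hs]
    rfl
  have hg : S.res.comp g = R.res := by
    apply AlgHom.ext
    intro r
    have h1 : (S.trunc 0).res ((seq 0).1.1 r) = R.res r :=
      congrArg (fun g : R.carrier →ₐ[Λ] k => g r) (seq 0).1.2
    rw [← h1, ← hkey 0]
    rfl
  refine ⟨g, hg, ?_⟩
  apply FormalElt.ext'
  intro n
  change ξ.app (S.trunc n) ⟨(S.truncHom n).1.comp g, _⟩ = η.elt n
  rw [← (seq n).2]
  congr 1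
  exact Subtype.ext (hkey n)

lemma isVersal_of_isUniversal {R : Type u} [CommRing R] [Algebra Λ R] {resR : R →ₐ[Λ] k}
    (ξ : Family R resR F) (hξ : IsUniversal ξ) : IsVersal ξ := by
  intro B A μ _ φ y hy
  obtain ⟨ψ, rfl⟩ := (hξ B).2 y
  refine ⟨ψ, ?_, rfl⟩
  apply (hξ A).1
  rw [ξ.natural, hy]

/-- Two maps out of the base of a universal family inducing the same formal element agree. -/
theorem eq_of_isUniversal_of_toFormalElt_along_eq (R : CRing Λ k) (ξ : Family R.carrier R.res F)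
    (hξ : IsUniversal ξ) (S : CRing Λ k) (g₁ g₂ : R.carrier →ₐ[Λ] S.carrier)
    (hg₁ : S.res.comp g₁ = R.res) (hg₂ : S.res.comp g₂ = R.res)
    (h : (ξ.along g₁ hg₁).toFormalElt = (ξ.along g₂ hg₂).toFormalElt) : g₁ = g₂ := by
  have hn : ∀ n : ℕ, (S.truncHom n).1.comp g₁ = (S.truncHom n).1.comp g₂ := by
    intro n
    have h1 := congrArg (fun u => u.elt n) h
    have h2 : ξ.app (S.trunc n) ⟨(S.truncHom n).1.comp g₁, by
          rw [← AlgHom.comp_assoc, (S.truncHom n).2, hg₁]⟩ =
        ξ.app (S.trunc n) ⟨(S.truncHom n).1.comp g₂, by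
          rw [← AlgHom.comp_assoc, (S.truncHom n).2, hg₂]⟩ := h1
    exact congrArg Subtype.val ((hξ (S.trunc n)).1 h2)
  apply AlgHom.ext
  intro r
  rw [← sub_eq_zero]
  have hmem : g₁ r - g₂ r ∈ ⨅ i : ℕ, IsLocalRing.maximalIdeal S.carrier ^ i := by
    rw [Ideal.mem_iInf]
    intro i
    have h3 := congrArg (fun φ : R.carrier →ₐ[Λ] (S.trunc i) => φ r) (hn i)
    have h4 : Ideal.Quotient.mk (S.mpow i) (g₁ r) = Ideal.Quotient.mk (S.mpow i) (g₂ r) := h3
    rw [Ideal.Quotient.eq] at h4
    exact Ideal.pow_le_pow_right (Nat.le_succ i) h4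
  rw [Ideal.iInf_pow_eq_bot_of_isLocalRing _ (IsLocalRing.maximalIdeal.isMaximal _).ne_top] at hmem
  exact hmem

/-- Any two pro-representing pairs are uniquely isomorphic. -/
theorem existsUnique_algEquiv_of_proRep (P Q : ProRep F) :
    ∃! e : P.ring.carrier ≃ₐ[Λ] Q.ring.carrier,
      ∃ he : Q.ring.res.comp e.toAlgHom = P.ring.res, P.family.along e.toAlgHom he = Q.family := by
  have hsP : ∀ A, Function.Surjective (P.family.app A) := fun A => (P.universal A).2
  have hsQ : ∀ A, Function.Surjective (Q.family.app A) := fun A => (Q.universal A).2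
  obtain ⟨g, hg, hgη⟩ := exists_along_toFormalElt_eq P.ring P.family
    (isVersal_of_isUniversal _ P.universal) Q.ring Q.family.toFormalElt (hsP _ _)
  obtain ⟨g', hg', hgη'⟩ := exists_along_toFormalElt_eq Q.ring Q.family
    (isVersal_of_isUniversal _ Q.universal) P.ring P.family.toFormalElt (hsQ _ _)
  have h1 : P.family.along g hg = Q.family := toFormalElt_injective hgη
  have h2 : Q.family.along g' hg' = P.family := toFormalElt_injective hgη'
  have hcomp1 : g'.comp g = AlgHom.id Λ P.ring.carrier := by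
    apply eq_of_isUniversal_of_toFormalElt_along_eq P.ring P.family P.universal P.ring _ _
      (by rw [← AlgHom.comp_assoc, hg', hg]) (AlgHom.comp_id _)
    congr 1
    apply family_ext
    intro A φ
    have e1 : (P.family.along (g'.comp g) (by rw [← AlgHom.comp_assoc, hg', hg])).app A φ =
        ((P.family.along g hg).along g' hg').app A φ := rfl
    rw [e1, h1, h2]
    rfl
  have hcomp2 : g.comp g' = AlgHom.id Λ Q.ring.carrier := by
    apply eq_of_isUniversal_of_toFormalElt_along_eq Q.ring Q.family Q.universal Q.ring _ _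
      (by rw [← AlgHom.comp_assoc, hg, hg']) (AlgHom.comp_id _)
    congr 1
    apply family_ext
    intro A φ
    have e1 : (Q.family.along (g.comp g') (by rw [← AlgHom.comp_assoc, hg, hg'])).app A φ =
        ((Q.family.along g' hg').along g hg).app A φ := rfl
    rw [e1, h2, h1]
    rfl
  refine ⟨AlgEquiv.ofAlgHom g g' hcomp2 hcomp1, ⟨hg, h1⟩, ?_⟩
  rintro e' ⟨he', h1'⟩
  apply AlgEquiv.ext
  intro r
  have : e'.toAlgHom = g := by
    apply eq_of_isUniversal_of_toFormalElt_along_eq P.ring P.family P.universal Q.ring _ _ he' hg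
    rw [h1', h1]
  exact congrArg (fun f : P.ring.carrier →ₐ[Λ] Q.ring.carrier => f r) this

end H6Art
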