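import Groth.Agent.Lib.helper6.ArtFormal2

/-! Algebraisation through a versal family, starting from a prescribed level (helper6). -/

set_option autoImplicit false
universe u v
open CategoryTheory

namespace H6Art

open ArtFun ArtFun.Art AdicCompletion

variable {Λ : Type u} {k : Type u} [CommRing Λ] [Field k] [Algebra Λ k]
variable {F : Art Λ k ⥤ Type v}

lemma homSet_map_truncMapLE_succ {R : Type u} [CommRing R] [Algebra Λ R] {resR : R →ₐ[Λ] k}
    (S : CRing Λ k) {m n : ℕ} (h : m ≤ n) (φ : HomSet R resR (S.trunc (n + 1))) :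
    HomSet.map (truncMapLE S (Nat.le_succ_of_le h)) φ =
      HomSet.map (truncMapLE S h) (HomSet.map (S.truncMap n) φ) := by
  rw [truncMapLE_succ S h]
  exact Subtype.ext (AlgHom.ext fun _ => rfl)

/-- A formal element over `S` of a functor with a versal family over `R` comes from a map `R → S`
which extends a prescribed map at level `N`. -/
theorem exists_along_from_level (R : CRing Λ k) (ξ : Family R.carrier R.res F) (hξ : IsVersal ξ)
    (S : CRing Λ k) (η : FormalElt F S) (N : ℕ) (φN : HomSet R.carrier R.res (S.trunc N))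
    (hφN : ξ.app _ φN = η.elt N) :
    ∃ (g : R.carrier →ₐ[Λ] S.carrier) (hg : S.res.comp g = R.res),
      (ξ.along g hg).toFormalElt = η ∧ (S.truncHom N).1.comp g = φN.1 := by
  have hstep : ∀ (n : ℕ) (φ : HomSet R.carrier R.res (S.trunc n)), ξ.app _ φ = η.elt n →
      ∃ ψ : HomSet R.carrier R.res (S.trunc (n + 1)),
        ξ.app _ ψ = η.elt (n + 1) ∧ HomSet.map (S.truncMap n) ψ = φ := by
    intro n φ hφ
    obtain ⟨ψ, h1, h2⟩ := hξ (S.truncMap n) (truncMap_surjective S n) φ (η.elt (n + 1))
      (by rw [η.compat, hφ])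
    exact ⟨ψ, h2, h1⟩
  let seq : ∀ n : ℕ, {φ : HomSet R.carrier R.res (S.trunc (N + n)) //
      ξ.app _ φ = η.elt (N + n)} := fun n =>
    Nat.rec (motive := fun n => {φ : HomSet R.carrier R.res (S.trunc (N + n)) //
        ξ.app _ φ = η.elt (N + n)})
      ⟨φN, hφN⟩ (fun n p => ⟨(hstep (N + n) p.1 p.2).choose,
        (hstep (N + n) p.1 p.2).choose_spec.1⟩) n
  have hseq : ∀ n, HomSet.map (S.truncMap (N + n)) (seq (n + 1)).1 = (seq n).1 := fun n =>
    (hstep (N + n) (seq n).1 (seq n).2).choose_spec.2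
  have hseqLE : ∀ {m n : ℕ} (h : m ≤ n),
      HomSet.map (truncMapLE S (Nat.add_le_add_left h N)) (seq n).1 = (seq m).1 := by
    intro m n h
    induction n, h using Nat.le_induction with
    | base =>
      rw [truncMapLE_refl]
      exact Subtype.ext (AlgHom.ext fun _ => rfl)
    | succ n h ih =>
      refine (homSet_map_truncMapLE_succ S (Nat.add_le_add_left h N) (seq (n + 1)).1).trans ?_
      rw [hseq n, ih]
  -- the compatible system of maps `R → S/m^n`
  let f : (m : ℕ) → R.carrier →ₐ[Λ] S.carrier ⧸ IsLocalRing.maximalIdeal S.carrier ^ m := fun m =>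
    (Ideal.Quotient.factorₐ Λ (Ideal.pow_le_pow_right (show m ≤ N + m + 1 by omega))).comp
      (seq m).1.1
  have hf : ∀ {m n : ℕ} (hle : m ≤ n),
      (Ideal.Quotient.factorₐ Λ (Ideal.pow_le_pow_right hle)).comp (f n) = f m := by
    intro m n hle
    apply AlgHom.ext
    intro r
    have h1 : (seq m).1.1 r = truncMapLE S (Nat.add_le_add_left hle N) ((seq n).1.1 r) :=
      (congrArg (fun g : HomSet R.carrier R.res (S.trunc (N + m)) => g.1 r) (hseqLE hle)).symm
    change Ideal.Quotient.factorₐ Λ (Ideal.pow_le_pow_right hle)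
        (Ideal.Quotient.factorₐ Λ (Ideal.pow_le_pow_right (show n ≤ N + n + 1 by omega))
          ((seq n).1.1 r)) =
      Ideal.Quotient.factorₐ Λ (Ideal.pow_le_pow_right (show m ≤ N + m + 1 by omega))
        ((seq m).1.1 r)
    rw [h1]
    obtain ⟨s, hs⟩ := Ideal.Quotient.mk_surjective ((seq n).1.1 r)
    rw [← hs]
    rfl
  haveI : IsAdicComplete (IsLocalRing.maximalIdeal S.carrier) S.carrier := S.isAdicComplete
  let g : R.carrier →ₐ[Λ] S.carrier := liftComplete (IsLocalRing.maximalIdeal S.carrier) f hf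
  have hgmk : ∀ (n : ℕ) (r : R.carrier),
      Ideal.Quotient.mk (IsLocalRing.maximalIdeal S.carrier ^ n) (g r) = f n r :=
    fun n r => mk_liftComplete _ f hf n r
  have hkey : ∀ n : ℕ, (S.truncHom (N + n)).1.comp g = (seq n).1.1 := by
    intro n
    apply AlgHom.ext
    intro r
    have h1 : (seq n).1.1 r = truncMapLE S
        (Nat.add_le_add_left (show n ≤ N + n + 1 by omega) N) ((seq (N + n + 1)).1.1 r) :=
      (congrArg (fun g : HomSet R.carrier R.res (S.trunc (N + n)) => g.1 r)
        (hseqLE (show n ≤ N + n + 1 by omega))).symm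
    change Ideal.Quotient.mk (S.mpow (N + n)) (g r) = (seq n).1.1 r
    rw [h1]
    have h2 := hgmk (N + n + 1) r
    change Ideal.Quotient.mk (IsLocalRing.maximalIdeal S.carrier ^ (N + n + 1)) (g r) =
      Ideal.Quotient.factorₐ Λ (Ideal.pow_le_pow_right
        (show N + n + 1 ≤ N + (N + n + 1) + 1 by omega)) ((seq (N + n + 1)).1.1 r) at h2
    refine h2.trans ?_
    obtain ⟨s, hs⟩ := Ideal.Quotient.mk_surjective ((seq (N + n + 1)).1.1 r)
    rw [← hs]
    rfl
  have hg : S.res.comp g = R.res := by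
    apply AlgHom.ext
    intro r
    have h1 : (S.trunc N).res ((seq 0).1.1 r) = R.res r :=
      congrArg (fun g : R.carrier →ₐ[Λ] k => g r) (seq 0).1.2
    rw [← h1, ← hkey 0]
    rfl
  refine ⟨g, hg, ?_, hkey 0⟩
  apply FormalElt.ext'
  intro n
  change ξ.app (S.trunc n) ⟨(S.truncHom n).1.comp g, _⟩ = η.elt n
  rw [← formalElt_map_truncMapLE η (show n ≤ N + n by omega), ← (seq n).2, ← ξ.natural]
  congr 1
  apply Subtype.ext
  change (S.truncHom n).1.comp g =
    (truncMapLE S (show n ≤ N + n by omega)).toAlgHom.comp (seq n).1.1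
  rw [← hkey n]
  apply AlgHom.ext
  intro r
  rfl

end H6Art
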