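import Groth.Agent.Lib.helper6.ArtBasic

/-! Tangent vectors of objects of `ArtFun.Art Λ k`: maps to the dual numbers (helper6). -/

set_option autoImplicit false
universe u v
open CategoryTheory

namespace H6Art

open ArtFun ArtFun.Art

section General

variable {Λ : Type u} {k : Type u} [CommRing Λ] [Field k] [Algebra Λ k]

/-- A `Λ`-linear map `D : C → k` satisfying the Leibniz rule with respect to the augmentation
defines a morphism `C ⟶ k[ε]`, `c ↦ res c + D c · ε`. -/
noncomputable def tangentHom (C : Art Λ k) (D : C →ₗ[Λ] k)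
    (hmul : ∀ c c' : C, D (c * c') = C.res c * D c' + C.res c' * D c) : C ⟶ dual Λ k :=
  have hone : D 1 = 0 := by
    have h := hmul 1 1
    rw [mul_one, map_one C.res, one_mul] at h
    exact (add_eq_left.mp h.symm)
  Art.homMk
    { toFun := fun c => ((C.res c, D c) : TrivSqZeroExt k k)
      map_one' := TrivSqZeroExt.ext (map_one C.res) hone
      map_mul' := fun c c' => TrivSqZeroExt.ext (map_mul C.res c c') (by
        change D (c * c') = C.res c • D c' + MulOpposite.op (C.res c') • D c
        rw [hmul, op_smul_eq_smul, smul_eq_mul, smul_eq_mul])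
      map_zero' := TrivSqZeroExt.ext (map_zero C.res) (map_zero D)
      map_add' := fun c c' => TrivSqZeroExt.ext (map_add C.res c c') (map_add D c c')
      commutes' := fun r => TrivSqZeroExt.ext (by
          change C.res (algebraMap Λ C r) = (algebraMap Λ (TrivSqZeroExt k k) r).fst
          rw [AlgHom.commutes, TrivSqZeroExt.algebraMap_eq_inl', TrivSqZeroExt.fst_inl]) (by
          change D (algebraMap Λ C r) = (algebraMap Λ (TrivSqZeroExt k k) r).snd
          rw [TrivSqZeroExt.algebraMap_eq_inl', TrivSqZeroExt.snd_inl, Algebra.algebraMap_eq_smul_one,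
            map_smul, hone, smul_zero]) }
    (AlgHom.ext fun _ => rfl)

lemma tangentHom_snd (C : Art Λ k) (D : C →ₗ[Λ] k)
    (hmul : ∀ c c' : C, D (c * c') = C.res c * D c' + C.res c' * D c) (c : C) :
    TrivSqZeroExt.snd (tangentHom C D hmul c) = D c := rfl

end General

section OverField

variable {k : Type u} [Field k]

/-- Over `Λ = k`: an element of the maximal ideal not in its square is detected by a tangent
vector. -/
theorem exists_tangentHom_snd_ne_zero (C : Art k k) (z : C) (hz : z ∈ IsLocalRing.maximalIdeal C)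
    (hz2 : z ∉ IsLocalRing.maximalIdeal C ^ 2) :
    ∃ τ : C ⟶ dual k k, TrivSqZeroExt.snd (τ z) ≠ 0 := by
  let W : Submodule k C := Submodule.span k {(1 : C)} ⊔
    (IsLocalRing.maximalIdeal C ^ 2).restrictScalars k
  have hres_alg : ∀ a : k, C.res (algebraMap k C a) = a := fun a => by
    rw [AlgHom.commutes]; rfl
  have hzW : z ∉ W := by
    intro hW
    obtain ⟨x, hx, y, hy, hxy⟩ := Submodule.mem_sup.1 hW
    obtain ⟨a, rfl⟩ := Submodule.mem_span_singleton.1 hx
    have hy' : y ∈ IsLocalRing.maximalIdeal C ^ 2 := hy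
    have hym : y ∈ IsLocalRing.maximalIdeal C := Ideal.pow_le_self two_ne_zero hy'
    have h1 : C.res z = 0 := (Art.mem_maximalIdeal_iff C z).1 hz
    have h2 : C.res y = 0 := (Art.mem_maximalIdeal_iff C y).1 hym
    rw [← hxy, map_add, h2, add_zero, Algebra.smul_def, mul_one, hres_alg] at h1
    rw [h1, zero_smul, zero_add] at hxy
    exact hz2 (hxy ▸ hy')
  obtain ⟨ℓ, hℓz, hℓW⟩ := Submodule.exists_dual_map_eq_bot_of_notMem hzW inferInstance
  have hℓ0 : ∀ w ∈ W, ℓ w = 0 := by
    intro w hw
    have : ℓ w ∈ W.map ℓ := Submodule.mem_map_of_mem hw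
    rw [hℓW] at this
    exact this
  have hℓ1 : ℓ 1 = 0 := hℓ0 1 (Submodule.mem_sup_left (Submodule.subset_span rfl))
  have hℓm2 : ∀ n n' : C, n ∈ IsLocalRing.maximalIdeal C → n' ∈ IsLocalRing.maximalIdeal C →
      ℓ (n * n') = 0 := by
    intro n n' hn hn'
    apply hℓ0
    apply Submodule.mem_sup_right
    change n * n' ∈ IsLocalRing.maximalIdeal C ^ 2
    rw [pow_two]
    exact Ideal.mul_mem_mul hn hn'
  have hdecomp : ∀ c : C, c - algebraMap k C (C.res c) ∈ IsLocalRing.maximalIdeal C := by
    intro c
    rw [Art.mem_maximalIdeal_iff, map_sub, hres_alg, sub_self]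
  have hℓsub : ∀ c : C, ℓ (c - algebraMap k C (C.res c)) = ℓ c := by
    intro c
    rw [map_sub, Algebra.algebraMap_eq_smul_one, map_smul, hℓ1, smul_zero, sub_zero]
  have hmul : ∀ c c' : C, ℓ (c * c') = C.res c * ℓ c' + C.res c' * ℓ c := by
    intro c c'
    set a := C.res c with ha
    set a' := C.res c' with ha'
    set n := c - algebraMap k C a with hn
    set n' := c' - algebraMap k C a' with hn'
    have hc : c = algebraMap k C a + n := by rw [hn]; ring
    have hc' : c' = algebraMap k C a' + n' := by rw [hn']; ring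
    have e : c * c' = (a * a') • (1 : C) + a • n' + a' • n + n * n' := by
      rw [hc, hc', Algebra.smul_def, Algebra.smul_def, Algebra.smul_def, map_mul]
      ring
    rw [e, map_add, map_add, map_add, map_smul, map_smul, map_smul, hℓ1,
      hℓm2 n n' (hdecomp c) (hdecomp c'), hn, hn', hℓsub, hℓsub]
    simp only [smul_eq_mul, mul_zero, zero_add, add_zero]
  exact ⟨tangentHom C ℓ hmul, hℓz⟩

end OverField

end H6Art
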