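import Groth.Agent.Lib.helper6.ArtEssential
import Groth.Agent.Lib.helper6.ArtTangent
import Groth.Agent.S12751
import Mathlib.RingTheory.Kaehler.Basic
import Mathlib.LinearAlgebra.Dual.Lemmas

/-! Essential surjections in `Art Λ k` through Kähler differentials (helper6). -/

set_option autoImplicit false
universe u v
open CategoryTheory

namespace H6Art

open ArtFun ArtFun.Art IsLocalRing
open scoped TensorProduct

variable {Λ : Type u} {k : Type u} [CommRing Λ] [Field k] [Algebra Λ k]

/-- `k` as an algebra over an object through its augmentation. -/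
@[reducible] noncomputable def resAlgebra (X : Art Λ k) : Algebra X k := X.res.toRingHom.toAlgebra

attribute [local instance] resAlgebra

lemma resTower (X : Art Λ k) : IsScalarTower Λ X k :=
  IsScalarTower.of_algebraMap_eq (fun l => (X.res.commutes l).symm)

attribute [local instance] resTower

lemma ext_D {X : Art Λ k} {L L' : Ω[X⁄Λ] →ₗ[X] k}
    (h : ∀ x, L (KaehlerDifferential.D Λ X x) = L' (KaehlerDifferential.D Λ X x)) : L = L' := by
  apply Derivation.liftKaehlerDifferential_unique
  ext x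
  exact h x

lemma finrank_T (X : Art Λ k) :
    Module.finrank k (k ⊗[X] Ω[X⁄Λ]) = Module.finrank k (Ω[X⁄Λ] →ₗ[X] k) := by
  rw [← Subspace.dual_finrank_eq]
  exact (LinearMap.liftBaseChangeEquiv k).symm.finrank_eq

lemma finite_H [IsNoetherianRing Λ] [Module.Finite Λ k] (X : Art Λ k) :
    Module.Finite k (Ω[X⁄Λ] →ₗ[X] k) := by
  haveI : Module.Finite Λ X := module_finite X
  haveI : Module.Finite X Ω[X⁄Λ] := inferInstance
  haveI : Module.Finite k (k ⊗[X] Ω[X⁄Λ]) := inferInstance
  exact Module.Finite.equiv (LinearMap.liftBaseChangeEquiv (R := X) (M := Ω[X⁄Λ]) (N := k) k).symm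

variable {A B : Art Λ k}

/-- Pull a derivation back along a morphism. -/
noncomputable def pullDer (f : B ⟶ A) (D' : Derivation Λ A k) : Derivation Λ B k where
  toFun b := D' (f b)
  map_add' b b' := by rw [map_add, map_add]
  map_smul' l b := by
    change D' (f.toAlgHom (l • b)) = l • D' (f b)
    rw [map_smul f.toAlgHom, D'.map_smul]
  map_one_eq_zero' := by
    change D' (f 1) = 0
    rw [map_one, D'.map_one_eq_zero]
  leibniz' b b' := by
    change D' (f (b * b')) = b • D' (f b') + b' • D' (f b)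
    rw [map_mul, D'.leibniz]
    change A.res (f b) * _ + A.res (f b') * _ = B.res b * _ + B.res b' * _
    rw [Art.res_app, Art.res_app]

/-- Restriction of functionals on differentials along a morphism. -/
noncomputable def rhoFun (f : B ⟶ A) (h : Ω[A⁄Λ] →ₗ[A] k) : Ω[B⁄Λ] →ₗ[B] k :=
  (pullDer f (h.compDer (KaehlerDifferential.D Λ A))).liftKaehlerDifferential

lemma rhoFun_D (f : B ⟶ A) (h : Ω[A⁄Λ] →ₗ[A] k) (b : B) :
    rhoFun f h (KaehlerDifferential.D Λ B b) = h (KaehlerDifferential.D Λ A (f b)) :=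
  Derivation.liftKaehlerDifferential_comp_D _ b

/-- `rhoFun` as a `k`-linear map. -/
noncomputable def rho (f : B ⟶ A) : (Ω[A⁄Λ] →ₗ[A] k) →ₗ[k] (Ω[B⁄Λ] →ₗ[B] k) where
  toFun := rhoFun f
  map_add' h h' := ext_D (fun b => by
    rw [rhoFun_D, LinearMap.add_apply, LinearMap.add_apply, rhoFun_D, rhoFun_D])
  map_smul' c h := ext_D (fun b => by
    rw [rhoFun_D, RingHom.id_apply, LinearMap.smul_apply, LinearMap.smul_apply, rhoFun_D])

lemma rho_D (f : B ⟶ A) (h : Ω[A⁄Λ] →ₗ[A] k) (b : B) :
    rho f h (KaehlerDifferential.D Λ B b) = h (KaehlerDifferential.D Λ A (f b)) :=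
  rhoFun_D f h b

lemma rho_injective (f : B ⟶ A) (hf : Function.Surjective f) : Function.Injective (rho f) := by
  intro h h' hh
  apply ext_D
  intro a
  obtain ⟨b, rfl⟩ := hf a
  rw [← rho_D, ← rho_D, hh]

lemma exists_descend (f : B ⟶ A) (hf : Function.Surjective f) (D : Derivation Λ B k)
    (hD : ∀ i : B, f i = 0 → D i = 0) :
    ∃ D' : Derivation Λ A k, ∀ b, D' (f b) = D b := by
  classical
  let σ : A → B := Function.surjInv hf
  have hσ : ∀ a, f (σ a) = a := Function.surjInv_eq hf
  have key : ∀ b b' : B, f b = f b' → D b = D b' := by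
    intro b b' h
    have := hD (b - b') (by rw [map_sub, h, sub_self])
    rwa [map_sub, sub_eq_zero] at this
  refine ⟨{ toFun := fun a => D (σ a), map_add' := ?_, map_smul' := ?_, map_one_eq_zero' := ?_,
            leibniz' := ?_ }, ?_⟩
  · intro a a'
    rw [← map_add]
    apply key
    rw [hσ, map_add, hσ, hσ]
  · intro l a
    change D (σ (l • a)) = l • D (σ a)
    rw [← D.map_smul]
    apply key
    rw [hσ]
    change l • a = f.toAlgHom (l • σ a)
    rw [map_smul f.toAlgHom]
    change l • a = l • f (σ a)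
    rw [hσ]
  · change D (σ 1) = 0
    rw [← D.map_one_eq_zero]
    apply key
    rw [hσ, map_one]
  · intro a a'
    change D (σ (a * a')) = a • D (σ a') + a' • D (σ a)
    have : D (σ (a * a')) = D (σ a * σ a') := key _ _ (by rw [hσ, map_mul, hσ, hσ])
    rw [this, D.leibniz]
    change B.res (σ a) * _ + B.res (σ a') * _ = A.res a * _ + A.res a' * _
    rw [← Art.res_app f (σ a), ← Art.res_app f (σ a'), hσ, hσ]
  · intro b
    exact key _ _ (hσ _)

lemma der_ker_of_essential [IsNoetherianRing Λ] [Module.Finite Λ k] (f : B ⟶ A)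
    (hf : Function.Surjective f)
    (hess : ∀ (C : Art Λ k) (g : C ⟶ B), Function.Surjective (g ≫ f) → Function.Surjective g)
    (D : Derivation Λ B k) (i : B) (hi : f i = 0) : D i = 0 := by
  by_contra hne
  have hmul : ∀ c c' : B, D (c * c') = B.res c * D c' + B.res c' * D c :=
    fun c c' => D.leibniz c c'
  let τ : B ⟶ dual Λ k := tangentHom B (D : B →ₗ[Λ] k) hmul
  have hτ_snd : ∀ x, TrivSqZeroExt.snd (τ x) = D x := fun x => rfl
  have hτ_fst : ∀ x, TrivSqZeroExt.fst (τ x) = B.res x := fun x => rfl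
  have hresi : B.res i = 0 := by rw [← Art.res_app f, hi, map_zero]
  have hDadj : ∀ (x β : B), D (x + β * i) = D x + B.res β * D i := by
    intro x β
    rw [map_add, hmul, hresi, zero_mul, add_zero]
  have hτ : Function.Surjective τ := by
    intro y
    obtain ⟨x₀, hx₀⟩ := B.res_surjective (TrivSqZeroExt.fst y)
    obtain ⟨β, hβ⟩ := B.res_surjective ((TrivSqZeroExt.snd y - D x₀) / D i)
    refine ⟨x₀ + β * i, TrivSqZeroExt.ext ?_ ?_⟩
    · rw [hτ_fst, map_add, map_mul, hresi, mul_zero, add_zero, hx₀]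
    · rw [hτ_snd, hDadj, hβ, div_mul_cancel₀ _ hne]
      ring
  obtain ⟨P, p₁, p₂, hP⟩ : ∃ (P : Art Λ k) (p₁ : P ⟶ base Λ k) (p₂ : P ⟶ B),
      IsFibreProd p₁ p₂ (baseToDual : base Λ k ⟶ dual Λ k) τ :=
    ⟨_, _, _, isFibreProd_fibreProd baseToDual τ hτ⟩
  have hsnd0 : ∀ c : (base Λ k),
      TrivSqZeroExt.snd ((baseToDual : base Λ k ⟶ dual Λ k) c) = 0 := fun c => rfl
  have hfst0 : ∀ c : (base Λ k),
      TrivSqZeroExt.fst ((baseToDual : base Λ k ⟶ dual Λ k) c) = c := fun c => rfl
  have hns : ¬ Function.Surjective p₂ := by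
    intro hs
    obtain ⟨z, hz⟩ := hs i
    have h1 := hP.w_apply z
    rw [hz] at h1
    have h2 := congrArg TrivSqZeroExt.snd h1
    rw [hsnd0, hτ_snd] at h2
    exact hne h2.symm
  apply hns
  apply hess P p₂
  intro a
  obtain ⟨x, rfl⟩ := hf a
  obtain ⟨β, hβ⟩ := B.res_surjective (- D x / D i)
  have hD0 : D (x + β * i) = 0 := by
    rw [hDadj, hβ, div_mul_cancel₀ _ hne]
    ring
  obtain ⟨z, hz1, hz2⟩ := hP.surj (B.res (x + β * i) : k) (x + β * i) (by
    apply TrivSqZeroExt.ext
    · rw [hfst0, hτ_fst]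
    · rw [hsnd0, hτ_snd, hD0])
  refine ⟨z, ?_⟩
  rw [Art.comp_apply, hz2, map_add, map_mul, hi, mul_zero, add_zero]

theorem essential_iff_kaehler [IsNoetherianRing Λ] [Module.Finite Λ k] (f : B ⟶ A) :
    letI : Algebra B A := f.toAlgHom.toRingHom.toAlgebra
    letI : Algebra A k := A.res.toRingHom.toAlgebra
    letI : Algebra B k := B.res.toRingHom.toAlgebra
    (Function.Surjective f ∧ ∀ (C : ArtFun.Art Λ k) (g : C ⟶ B),
        Function.Surjective (g ≫ f) → Function.Surjective g) ↔
      (Subsingleton (k ⊗[A] Ω[A⁄B]) ∧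
        Module.finrank k (k ⊗[B] Ω[B⁄Λ]) = Module.finrank k (k ⊗[A] Ω[A⁄Λ])) := by
  letI iBA : Algebra B A := f.toAlgHom.toRingHom.toAlgebra
  show (Function.Surjective f ∧ ∀ (C : ArtFun.Art Λ k) (g : C ⟶ B),
        Function.Surjective (g ≫ f) → Function.Surjective g) ↔
      (Subsingleton (k ⊗[A] Ω[A⁄B]) ∧
        Module.finrank k (k ⊗[B] Ω[B⁄Λ]) = Module.finrank k (k ⊗[A] Ω[A⁄Λ]))
  have h51 : Function.Surjective f ↔ Subsingleton (k ⊗[A] Ω[A⁄B]) :=
    Groth.Agent.S12751.result f
  rw [finrank_T B, finrank_T A]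
  haveI := finite_H A
  haveI := finite_H B
  constructor
  · rintro ⟨hf, hess⟩
    refine ⟨h51.1 hf, ?_⟩
    have hinj := rho_injective f hf
    have hsurj : Function.Surjective (rho f) := by
      intro hB
      obtain ⟨D', hD'⟩ := exists_descend f hf (hB.compDer (KaehlerDifferential.D Λ B))
        (fun i hi => der_ker_of_essential f hf hess _ i hi)
      refine ⟨D'.liftKaehlerDifferential, ?_⟩
      apply ext_D
      intro b
      rw [rho_D, Derivation.liftKaehlerDifferential_comp_D, hD']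
      rfl
    exact (LinearEquiv.ofBijective (rho f) ⟨hinj, hsurj⟩).finrank_eq.symm
  · rintro ⟨hsub, hfin⟩
    have hf := h51.2 hsub
    refine ⟨hf, ?_⟩
    have hinj := rho_injective f hf
    have hsurj : Function.Surjective (rho f) :=
      (LinearMap.injective_iff_surjective_of_finrank_eq_finrank hfin.symm).1 hinj
    intro C g hg
    by_contra hns
    obtain ⟨N, hN⟩ := exists_pow_maximalIdeal_eq_bot C
    haveI : IsAdicComplete (maximalIdeal C) C := isAdicComplete_of_pow_eq_bot _ _ hN
    obtain ⟨D, ⟨x, hx⟩, hD⟩ := H6Loc.exists_derivation_of_not_surjective (Λ := Λ) (k := k)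
      (R := C) (S := B) C.res C.res_surjective (fun a => Art.mem_maximalIdeal_iff C a)
      B.res_surjective g.toAlgHom (fun r => Art.res_app g r) hns
    obtain ⟨hA, hhA⟩ := hsurj D.liftKaehlerDifferential
    have hDA : ∀ b, D b = hA (KaehlerDifferential.D Λ A (f b)) := fun b => by
      rw [← rho_D, hhA, Derivation.liftKaehlerDifferential_comp_D]
    obtain ⟨c, hc⟩ := hg (f x)
    apply hx
    have hc' : f (g c) = f x := hc
    rw [hDA x, ← hc', ← hDA]
    exact hD c

end H6Art
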