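import Groth.Agent.Lib.helper6.ArtTorsor

/-! Smoothness and versality can be tested on small extensions (helper6). -/

set_option autoImplicit false
universe u v
open CategoryTheory

namespace H6Art

open ArtFun ArtFun.Art

variable {Λ : Type u} {k : Type u} [CommRing Λ] [Field k] [Algebra Λ k]

theorem isSmooth_of_smallExt {F G : Art Λ k ⥤ Type v} (η : F ⟶ G)
    (h : ∀ ⦃B A : Art Λ k⦄ (μ : B ⟶ A), IsSmallExt μ → Function.Surjective (relCmp η μ)) :
    IsSmooth η := by
  intro B A μ hμ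
  refine surjective_induction_smallExt
    (fun A B μ => Function.Surjective (relCmp η μ)) ?_ ?_ ?_ μ hμ
  · intro A B e he y
    obtain ⟨⟨x, g⟩, hxg⟩ := y
    have hxg' : η.app A x = G.map e g := hxg
    refine ⟨F.map (inv e) x, Subtype.ext (Prod.ext ?_ ?_)⟩
    · change F.map e (F.map (inv e) x) = x
      rw [← Functor.map_comp_apply, IsIso.inv_hom_id, Functor.map_id_apply]
    · change η.app B (F.map (inv e) x) = g
      rw [NatTrans.naturality_apply η (inv e) x, hxg', ← Functor.map_comp_apply,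
        IsIso.hom_inv_id, Functor.map_id_apply]
  · intro A B p hp
    exact h p hp
  · intro A B C p q hp hq y
    obtain ⟨⟨x, g⟩, hxg⟩ := y
    have hxg' : η.app A x = G.map (p ≫ q) g := hxg
    obtain ⟨w1, hw1⟩ := hq ⟨(x, G.map p g), by
      change η.app A x = G.map q (G.map p g)
      rw [hxg', Functor.map_comp_apply]⟩
    have h11 : F.map q w1 = x := congrArg (fun t => t.1.1) hw1
    have h12 : η.app B w1 = G.map p g := congrArg (fun t => t.1.2) hw1
    obtain ⟨w2, hw2⟩ := hp ⟨(w1, g), h12⟩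
    have h21 : F.map p w2 = w1 := congrArg (fun t => t.1.1) hw2
    have h22 : η.app C w2 = g := congrArg (fun t => t.1.2) hw2
    refine ⟨w2, Subtype.ext (Prod.ext ?_ h22)⟩
    change F.map (p ≫ q) w2 = x
    rw [Functor.map_comp_apply, h21, h11]

theorem isVersal_of_smallExt {R : Type u} [CommRing R] [Algebra Λ R] {resR : R →ₐ[Λ] k}
    {F : Art Λ k ⥤ Type v} (ξ : Family R resR F)
    (h : ∀ ⦃B A : Art Λ k⦄ (μ : B ⟶ A), IsSmallExt μ →
      ∀ (φ : HomSet R resR A) (y : F.obj B), F.map μ y = ξ.app A φ →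
        ∃ ψ : HomSet R resR B, HomSet.map μ ψ = φ ∧ ξ.app B ψ = y) :
    IsVersal ξ := by
  intro B A μ hμ
  refine surjective_induction_smallExt
    (fun A B μ => ∀ (φ : HomSet R resR A) (y : F.obj B), F.map μ y = ξ.app A φ →
        ∃ ψ : HomSet R resR B, HomSet.map μ ψ = φ ∧ ξ.app B ψ = y) ?_ ?_ ?_ μ hμ
  · intro A B e he φ y hy
    refine ⟨HomSet.map (inv e) φ, ?_, ?_⟩
    · apply Subtype.ext
      apply AlgHom.ext
      intro r
      change (inv e ≫ e) (φ.1 r) = φ.1 r
      rw [IsIso.inv_hom_id]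
      rfl
    · rw [ξ.natural, ← hy, ← Functor.map_comp_apply, IsIso.hom_inv_id, Functor.map_id_apply]
  · intro A B p hp
    exact h p hp
  · intro A B C p q hp hq φ y hy
    obtain ⟨ψ1, h11, h12⟩ := hq φ (F.map p y) (by rw [← Functor.map_comp_apply, hy])
    obtain ⟨ψ2, h21, h22⟩ := hp ψ1 y h12.symm
    refine ⟨ψ2, ?_, h22⟩
    rw [← h11, ← h21]
    exact Subtype.ext (AlgHom.ext fun _ => rfl)

end H6Art
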