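import Groth.Agent.Lib.helper6.ArtTangent
import Groth.Agent.Lib.helper6.ArtFibre

/-! The tangent-space torsor structure on the fibres of a small extension (helper6). -/

set_option autoImplicit false
universe u v
open CategoryTheory

namespace H6Art

open ArtFun ArtFun.Art

variable {Λ : Type u} {k : Type u} [CommRing Λ] [Field k] [Algebra Λ k]

section Coord

variable {B : Art Λ k} {t : B} (ht : t ≠ 0)
  (hmt : ∀ c ∈ IsLocalRing.maximalIdeal B, c * t = 0)

include ht in
omit hmt in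
lemma res_eq_of_mul_eq {b b' : B} (h : b * t = b' * t) : B.res b = B.res b' := by
  by_contra hne
  have hu : IsUnit (b - b') := by
    rw [isUnit_iff_res_ne_zero, map_sub]
    exact sub_ne_zero.2 hne
  obtain ⟨v, hv⟩ := hu.exists_left_inv
  apply ht
  have h0 : (b - b') * t = 0 := by rw [sub_mul, h, sub_self]
  calc t = v * ((b - b') * t) := by rw [← mul_assoc, hv, one_mul]
    _ = 0 := by rw [h0, mul_zero]

include hmt in
lemma mul_eq_of_res_eq {b b' : B} (h : B.res b = B.res b') : b * t = b' * t := by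
  have hm : b - b' ∈ IsLocalRing.maximalIdeal B := by
    rw [Art.mem_maximalIdeal_iff, map_sub, h, sub_self]
  have := hmt _ hm
  rw [sub_mul, sub_eq_zero] at this
  exact this

end Coord

section Delta

variable {B A P : Art Λ k} {μ : B ⟶ A} {p₁ p₂ : P ⟶ B}

/-- For a fibre product `P = B ×_A B` over a small extension, the difference map `P ⟶ k[ε]`. -/
theorem exists_delta (hμ : IsSmallExt μ) (h : IsFibreProd p₁ p₂ μ μ) :
    ∃ δ : P ⟶ dual Λ k, IsFibreProd p₁ δ (toBase B) (toBase (dual Λ k)) ∧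
      ∀ Δ : B ⟶ P, Δ ≫ p₁ = 𝟙 B → Δ ≫ p₂ = 𝟙 B → Δ ≫ δ = toBase B ≫ baseToDual := by
  obtain ⟨hsurj, hne, ⟨⟨t, ht⟩⟩, hkill⟩ := hμ
  have ht' : RingHom.ker μ.toAlgHom = Ideal.span {t} := ht
  have htmem : t ∈ RingHom.ker μ.toAlgHom := by rw [ht']; exact Ideal.subset_span rfl
  have htne : t ≠ 0 := by
    intro h0
    apply hne
    rw [ht', h0]
    exact Ideal.span_singleton_eq_bot.2 rfl
  have hmt : ∀ c ∈ IsLocalRing.maximalIdeal B, c * t = 0 := by
    intro c hc
    have : c * t ∈ IsLocalRing.maximalIdeal B * RingHom.ker μ.toAlgHom := Ideal.mul_mem_mul hc htmem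
    rw [hkill] at this
    exact this
  have hdiff : ∀ x : P, ∃ b : B, b * t = p₂ x - p₁ x := by
    intro x
    have hx : p₂ x - p₁ x ∈ RingHom.ker μ.toAlgHom := by
      rw [RingHom.mem_ker, map_sub, sub_eq_zero]
      exact (h.w_apply x).symm
    rw [ht'] at hx
    exact Ideal.mem_span_singleton'.1 hx
  choose bof hbof using hdiff
  have hD : ∀ (x : P) (b : B), b * t = p₂ x - p₁ x → B.res (bof x) = B.res b := fun x b hb =>
    res_eq_of_mul_eq htne ((hbof x).trans hb.symm)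
  let D : P →ₗ[Λ] k :=
    { toFun := fun x => B.res (bof x)
      map_add' := fun x y => by
        rw [← map_add]
        apply hD
        have e1 : p₂ (x + y) = p₂ x + p₂ y := map_add p₂.toAlgHom x y
        have e2 : p₁ (x + y) = p₁ x + p₁ y := map_add p₁.toAlgHom x y
        rw [add_mul, hbof, hbof, e1, e2]
        ring
      map_smul' := fun r x => by
        change B.res (bof (r • x)) = r • B.res (bof x)
        rw [← map_smul]
        apply hD
        have e1 : p₂ (r • x) = r • p₂ x := map_smul p₂.toAlgHom r x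
        have e2 : p₁ (r • x) = r • p₁ x := map_smul p₁.toAlgHom r x
        rw [smul_mul_assoc, hbof, e1, e2, smul_sub] }
  have hDdef : ∀ x, D x = B.res (bof x) := fun _ => rfl
  have hmul : ∀ x y : P, D (x * y) = P.res x * D y + P.res y * D x := by
    intro x y
    rw [hDdef, hDdef, hDdef]
    have e1 : P.res x = B.res (p₂ x) := (Art.res_app p₂ x).symm
    have e2 : P.res y = B.res (p₁ y) := (Art.res_app p₁ y).symm
    rw [e1, e2, ← map_mul, ← map_mul, ← map_add]
    apply hD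
    have e3 : p₂ (x * y) = p₂ x * p₂ y := map_mul p₂.toAlgHom x y
    have e4 : p₁ (x * y) = p₁ x * p₁ y := map_mul p₁.toAlgHom x y
    have e5 : (p₂ x * bof y + p₁ y * bof x) * t = p₂ x * (bof y * t) + p₁ y * (bof x * t) := by
      ring
    rw [e3, e4, e5, hbof, hbof]
    ring
  refine ⟨tangentHom P D hmul, ⟨?_, ?_, ?_⟩, ?_⟩
  · rw [Art.eq_toBase (p₁ ≫ _), Art.eq_toBase (tangentHom P D hmul ≫ _)]
  · intro x y h1 h2
    apply h.inj x y h1
    have h3 : D x = D y := congrArg TrivSqZeroExt.snd h2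
    rw [hDdef, hDdef] at h3
    have h4 := mul_eq_of_res_eq hmt h3
    rw [hbof, hbof, h1] at h4
    exact sub_left_injective h4
  · intro b d hbd
    have hbd' : B.res b = TrivSqZeroExt.fst d := hbd
    obtain ⟨b', hb'⟩ := B.res_surjective (TrivSqZeroExt.snd d)
    obtain ⟨x, hx1, hx2⟩ := h.surj b (b + b' * t) (by
      have e : μ (b + b' * t) = μ b + μ (b' * t) := map_add μ.toAlgHom _ _
      have e' : μ (b' * t) = 0 := Ideal.mul_mem_left _ _ htmem
      rw [e, e', add_zero])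
    refine ⟨x, hx1, ?_⟩
    apply TrivSqZeroExt.ext
    · change P.res x = TrivSqZeroExt.fst d
      rw [← hbd', ← hx1, Art.res_app]
    · change D x = TrivSqZeroExt.snd d
      rw [hDdef, ← hb']
      apply hD
      rw [hx1, hx2]
      ring
  · intro Δ h1 h2
    apply Art.hom_ext
    apply AlgHom.ext
    intro b
    have e1 : p₁ (Δ b) = b := by
      change (Δ ≫ p₁) b = b
      rw [h1]; rfl
    have e2 : p₂ (Δ b) = b := by
      change (Δ ≫ p₂) b = b
      rw [h2]; rfl
    apply TrivSqZeroExt.ext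
    · change P.res (Δ b) = B.res b
      exact Art.res_app Δ b
    · change D (Δ b) = 0
      rw [hDdef, ← map_zero B.res]
      apply hD
      rw [e1, e2, zero_mul, sub_self]

end Delta

universe v₁ v₂

/-- A natural family of maps between two functors of Artin rings with values in possibly different
universes. -/
structure GNat (F₁ : Art Λ k ⥤ Type v₁) (F₂ : Art Λ k ⥤ Type v₂) where
  /-- components -/
  app : ∀ A : Art Λ k, F₁.obj A → F₂.obj A
  natural : ∀ {A B : Art Λ k} (f : A ⟶ B) (x : F₁.obj A), app B (F₁.map f x) = F₂.map f (app A x)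

/-- A natural transformation as a `GNat`. -/
def GNat.ofNatTrans {F G : Art Λ k ⥤ Type v} (η : F ⟶ G) : GNat F G where
  app A x := η.app A x
  natural f x := NatTrans.naturality_apply η f x

/-- A family as a `GNat`. -/
def GNat.ofFamily {R : Type u} [CommRing R] [Algebra Λ R] {resR : R →ₐ[Λ] k} {F : Art Λ k ⥤ Type v}
    (ξ : Family R resR F) : GNat (hR R resR) F where
  app A φ := ξ.app A φ
  natural f φ := ξ.natural f φ

section Core

variable [IsNoetherianRing Λ] [Module.Finite Λ k]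
variable {F₁ : Art Λ k ⥤ Type v₁} {F₂ : Art Λ k ⥤ Type v₂}

/-- The key lifting step along a small extension: a partial lift can be corrected by a tangent
vector. -/
theorem GNat.exists_lift_of_tangent_surjective (η : GNat F₁ F₂)
    (h01 : Subsingleton (F₁.obj (base Λ k)))
    (hE1 : ∀ ⦃P B : Art Λ k⦄ (p' : P ⟶ B) (p'' : P ⟶ dual Λ k)
      (h : IsFibreProd p' p'' (toBase B) (toBase (dual Λ k))), Function.Surjective (cmp F₁ h))
    (hS2 : S1 F₂)
    (hE2 : ∀ ⦃P B : Art Λ k⦄ (p' : P ⟶ B) (p'' : P ⟶ dual Λ k)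
      (h : IsFibreProd p' p'' (toBase B) (toBase (dual Λ k))), Function.Injective (cmp F₂ h))
    (hd : Function.Surjective (η.app (dual Λ k)))
    {B A : Art Λ k} (μ : B ⟶ A) (hμ : IsSmallExt μ) (w₀ : F₁.obj B) (g : F₂.obj B)
    (hg : F₂.map μ (η.app B w₀) = F₂.map μ g) :
    ∃ w : F₁.obj B, F₁.map μ w = F₁.map μ w₀ ∧ η.app B w = g := by
  set P := fibreProd μ μ hμ.1 with hP
  set p₁ : P ⟶ B := fibreProdFst μ μ hμ.1 with hp₁
  set p₂ : P ⟶ B := fibreProdSnd μ μ hμ.1 with hp₂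
  have h : IsFibreProd p₁ p₂ μ μ := isFibreProd_fibreProd μ μ hμ.1
  obtain ⟨δ, hδ, -⟩ := exists_delta hμ h
  obtain ⟨zG, hzG⟩ := hS2 p₁ p₂ μ μ h hμ.1 ⟨(η.app B w₀, g), hg⟩
  have hzG1 : F₂.map p₁ zG = η.app B w₀ := congrArg (fun t => t.1.1) hzG
  have hzG2 : F₂.map p₂ zG = g := congrArg (fun t => t.1.2) hzG
  obtain ⟨vF, hvF⟩ := hd (F₂.map δ zG)
  obtain ⟨zF, hzF⟩ := hE1 p₁ δ hδ ⟨(w₀, vF), h01.elim _ _⟩
  have hzF1 : F₁.map p₁ zF = w₀ := congrArg (fun t => t.1.1) hzF
  have hzF2 : F₁.map δ zF = vF := congrArg (fun t => t.1.2) hzF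
  refine ⟨F₁.map p₂ zF, ?_, ?_⟩
  · rw [← hzF1, ← Functor.map_comp_apply, ← Functor.map_comp_apply, h.w]
  · have hz : η.app P zF = zG := by
      apply hE2 p₁ δ hδ
      apply Subtype.ext
      apply Prod.ext
      · change F₂.map p₁ (η.app P zF) = F₂.map p₁ zG
        rw [← η.natural, hzF1, hzG1]
      · change F₂.map δ (η.app P zF) = F₂.map δ zG
        rw [← η.natural, hzF2, hvF]
    rw [η.natural, hz, hzG2]

/-- Two elements over the same element of `F₁(A)` with the same image under `η` agree, when the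
differential of `η` is injective. -/
theorem GNat.eq_of_smallExt (η : GNat F₁ F₂)
    (hS1 : S1 F₁)
    (hE1 : ∀ ⦃P B : Art Λ k⦄ (p' : P ⟶ B) (p'' : P ⟶ dual Λ k)
      (h : IsFibreProd p' p'' (toBase B) (toBase (dual Λ k))), Function.Injective (cmp F₁ h))
    (hI2 : ∀ ⦃B A A' A'' : Art Λ k⦄ (p' : B ⟶ A') (p'' : B ⟶ A'') (f' : A' ⟶ A) (f'' : A'' ⟶ A)
      (h : IsFibreProd p' p'' f' f''), Function.Surjective f'' → Function.Injective (cmp F₂ h))
    (hd : Function.Injective (η.app (dual Λ k)))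
    {B A : Art Λ k} (μ : B ⟶ A) (hμ : IsSmallExt μ) (y₁ y₂ : F₁.obj B)
    (hμy : F₁.map μ y₁ = F₁.map μ y₂) (hy : η.app B y₁ = η.app B y₂) : y₁ = y₂ := by
  set P := fibreProd μ μ hμ.1 with hP
  set p₁ : P ⟶ B := fibreProdFst μ μ hμ.1 with hp₁
  set p₂ : P ⟶ B := fibreProdSnd μ μ hμ.1 with hp₂
  have h : IsFibreProd p₁ p₂ μ μ := isFibreProd_fibreProd μ μ hμ.1
  obtain ⟨δ, hδ, hΔ⟩ := exists_delta hμ h
  obtain ⟨Δ, hΔ1, hΔ2⟩ := IsFibreProd.exists_lift h (𝟙 B) (𝟙 B) rfl
  have hΔδ := hΔ Δ hΔ1 hΔ2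
  obtain ⟨z, hz⟩ := hS1 p₁ p₂ μ μ h hμ.1 ⟨(y₁, y₂), hμy⟩
  have hz1 : F₁.map p₁ z = y₁ := congrArg (fun t => t.1.1) hz
  have hz2 : F₁.map p₂ z = y₂ := congrArg (fun t => t.1.2) hz
  -- the image of `z` in `F₂(P)` is the diagonal element
  have hηz : η.app P z = F₂.map Δ (η.app B y₁) := by
    apply hI2 p₁ p₂ μ μ h hμ.1
    apply Subtype.ext
    apply Prod.ext
    · change F₂.map p₁ (η.app P z) = F₂.map p₁ (F₂.map Δ (η.app B y₁))
      rw [← η.natural, hz1, ← Functor.map_comp_apply, hΔ1, Functor.map_id_apply]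
    · change F₂.map p₂ (η.app P z) = F₂.map p₂ (F₂.map Δ (η.app B y₁))
      rw [← η.natural, hz2, ← Functor.map_comp_apply, hΔ2, Functor.map_id_apply, hy]
  -- hence the difference vector vanishes
  have hv : F₁.map δ z = F₁.map δ (F₁.map Δ y₁) := by
    apply hd
    rw [η.natural, η.natural, hηz, η.natural]
  have hzΔ : z = F₁.map Δ y₁ := by
    apply hE1 p₁ δ hδ
    apply Subtype.ext
    apply Prod.ext
    · change F₁.map p₁ z = F₁.map p₁ (F₁.map Δ y₁)
      rw [hz1, ← Functor.map_comp_apply, hΔ1, Functor.map_id_apply]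
    · exact hv
  rw [← hz2, hzΔ, ← Functor.map_comp_apply, hΔ2, Functor.map_id_apply]

/-- Injectivity propagates along a small extension when the differential is injective. -/
theorem GNat.injective_of_smallExt (η : GNat F₁ F₂)
    (hS1 : S1 F₁)
    (hE1 : ∀ ⦃P B : Art Λ k⦄ (p' : P ⟶ B) (p'' : P ⟶ dual Λ k)
      (h : IsFibreProd p' p'' (toBase B) (toBase (dual Λ k))), Function.Injective (cmp F₁ h))
    (hI2 : ∀ ⦃B A A' A'' : Art Λ k⦄ (p' : B ⟶ A') (p'' : B ⟶ A'') (f' : A' ⟶ A) (f'' : A'' ⟶ A)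
      (h : IsFibreProd p' p'' f' f''), Function.Surjective f'' → Function.Injective (cmp F₂ h))
    (hd : Function.Injective (η.app (dual Λ k)))
    {B A : Art Λ k} (μ : B ⟶ A) (hμ : IsSmallExt μ) (hA : Function.Injective (η.app A)) :
    Function.Injective (η.app B) := by
  intro y₁ y₂ hy
  refine GNat.eq_of_smallExt η hS1 hE1 hI2 hd μ hμ y₁ y₂ ?_ hy
  apply hA
  rw [η.natural, η.natural, hy]

end Core

end H6Art
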