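import Groth.Agent.Lib.helper6.ArtFibre

/-! Consequences of versality for functors of Artin rings (helper6). -/

set_option autoImplicit false
universe u v
open CategoryTheory

namespace H6Art

open ArtFun ArtFun.Art

variable {Λ : Type u} {k : Type u} [CommRing Λ] [Field k] [Algebra Λ k]
variable {R : Type u} [CommRing R] [Algebra Λ R] {resR : R →ₐ[Λ] k} {F : Art Λ k ⥤ Type v}

/-- The unique point of `h_R(k)`. -/
def homSetBase (R : Type u) [CommRing R] [Algebra Λ R] (resR : R →ₐ[Λ] k) :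
    HomSet R resR (base Λ k) := ⟨resR, AlgHom.ext fun _ => rfl⟩

lemma homSet_base_eq (φ : HomSet R resR (base Λ k)) : φ = homSetBase R resR := by
  apply Subtype.ext
  apply AlgHom.ext
  intro r
  have := congrArg (fun g : R →ₐ[Λ] k => g r) φ.2
  exact this

/-- A versal family over a functor with `F(k)` a point is objectwise surjective. -/
theorem surjective_app_of_isVersal_of_h0 (ξ : Family R resR F) (hξ : IsVersal ξ) (h0 : H0 F)
    (A : Art Λ k) : Function.Surjective (ξ.app A) := by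
  intro y
  obtain ⟨ψ, -, hψ⟩ := hξ (toBase A) A.res_surjective (homSetBase R resR) y (h0.2.elim _ _)
  exact ⟨ψ, hψ⟩

/-- An objectwise surjective family forces `H0`. -/
theorem h0_of_surjective (ξ : Family R resR F) (hsurj : ∀ A : Art Λ k, Function.Surjective (ξ.app A)) :
    H0 F := by
  refine ⟨⟨ξ.app _ (homSetBase R resR)⟩, ⟨fun a b => ?_⟩⟩
  obtain ⟨φ, rfl⟩ := hsurj _ a
  obtain ⟨ψ, rfl⟩ := hsurj _ b
  rw [homSet_base_eq φ, homSet_base_eq ψ]

/-- An objectwise surjective versal family forces `S1`. -/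
theorem s1_of_isVersal_of_surjective (ξ : Family R resR F) (hξ : IsVersal ξ)
    (hsurj : ∀ A : Art Λ k, Function.Surjective (ξ.app A)) : S1 F := by
  intro B A A' A'' p' p'' f' f'' h hf''
  rintro ⟨⟨x', x''⟩, hx⟩
  have hx' : F.map f' x' = F.map f'' x'' := hx
  obtain ⟨φ', rfl⟩ := hsurj A' x'
  obtain ⟨ψ, hψ1, hψ2⟩ := hξ f'' hf'' (HomSet.map f' φ') x'' (by rw [ξ.natural, hx'])
  obtain ⟨χ, hχ1, hχ2⟩ := IsFibreProd.exists_homSet_lift h φ' ψ hψ1.symm
  refine ⟨ξ.app B χ, Subtype.ext (Prod.ext ?_ ?_)⟩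
  · change F.map p' (ξ.app B χ) = ξ.app A' φ'
    rw [← ξ.natural, hχ1]
  · change F.map p'' (ξ.app B χ) = x''
    rw [← ξ.natural, hχ2, hψ2]

/-- An objectwise surjective miniversal family forces `Heps`. -/
theorem heps_of_isMiniversal_of_surjective (ξ : Family R resR F) (hξ : IsMiniversal ξ)
    (hsurj : ∀ A : Art Λ k, Function.Surjective (ξ.app A)) : Heps F := by
  intro B A' p' p'' h
  refine ⟨?_, s1_of_isVersal_of_surjective ξ hξ.1 hsurj p' p'' _ _ h (dual Λ k).res_surjective⟩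
  intro z₁ z₂ hz
  have hz1 : F.map p' z₁ = F.map p' z₂ := congrArg (fun t => t.1.1) hz
  have hz2 : F.map p'' z₁ = F.map p'' z₂ := congrArg (fun t => t.1.2) hz
  obtain ⟨χ₁, rfl⟩ := hsurj B z₁
  have hp' : Function.Surjective p' := by
    intro a'
    obtain ⟨d, hd⟩ := (dual Λ k).res_surjective (A'.res a')
    obtain ⟨b, hb, -⟩ := h.surj a' d hd.symm
    exact ⟨b, hb⟩
  obtain ⟨χ₂, hχ21, rfl⟩ := hξ.1 p' hp' (HomSet.map p' χ₁) z₂ (by rw [ξ.natural, hz1])
  have h2 : HomSet.map p'' χ₁ = HomSet.map p'' χ₂ := by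
    apply hξ.2.1
    rw [ξ.natural, ξ.natural, hz2]
  have : χ₁ = χ₂ := by
    apply Subtype.ext
    apply AlgHom.ext
    intro r
    apply h.inj
    · exact (congrArg (fun g : HomSet R resR A' => g.1 r) hχ21).symm
    · exact congrArg (fun g : HomSet R resR (dual Λ k) => g.1 r) h2
  rw [this]

end H6Art
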