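import Mathlib

/-!
Base change of central simple algebras along a field extension: `L ⊗[K] A` is simple when `A` is
central simple, and descent of nontriviality / centrality / simplicity / finiteness.
-/

namespace H6CSA

open TensorProduct Module

universe u v w

variable {K : Type u} [Field K] {L : Type w} [Field L] [Algebra K L] {A : Type v} [Ring A]
  [Algebra K A]

/-- Contraction of `L ⊗[K] A` against a `K`-linear functional on `L`. -/
noncomputable def Θ (lam : L →ₗ[K] K) : L ⊗[K] A →ₗ[K] A :=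
  TensorProduct.lift ((LinearMap.lsmul K A).comp lam)

lemma Θ_tmul (lam : L →ₗ[K] K) (l : L) (a : A) : Θ lam (l ⊗ₜ[K] a) = lam l • a := by
  simp [Θ]

lemma Θ_mul_left (lam : L →ₗ[K] K) (l : L) (c : A) (z : L ⊗[K] A) :
    Θ lam ((l ⊗ₜ[K] c) * z) = c * Θ (lam.comp (LinearMap.mulLeft K l)) z := by
  induction z using TensorProduct.induction_on with
  | zero => simp
  | tmul l' a =>
    rw [Algebra.TensorProduct.tmul_mul_tmul, Θ_tmul, Θ_tmul]
    simp [mul_smul_comm]
  | add x y hx hy => rw [mul_add, map_add, map_add, hx, hy, mul_add]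

lemma Θ_mul_right (lam : L →ₗ[K] K) (l : L) (c : A) (z : L ⊗[K] A) :
    Θ lam (z * (l ⊗ₜ[K] c)) = Θ (lam.comp (LinearMap.mulLeft K l)) z * c := by
  induction z using TensorProduct.induction_on with
  | zero => simp
  | tmul l' a =>
    rw [Algebra.TensorProduct.tmul_mul_tmul, Θ_tmul, Θ_tmul]
    simp [smul_mul_assoc, mul_comm l' l]
  | add x y hx hy => rw [add_mul, map_add, map_add, hx, hy, add_mul]

lemma exists_lam_one : ∃ lam : L →ₗ[K] K, lam 1 = 1 := by
  obtain ⟨g, hg⟩ := LinearMap.exists_leftInverse_of_injective (Algebra.linearMap K L)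
    (LinearMap.ker_eq_bot.mpr (algebraMap K L).injective)
  refine ⟨g, ?_⟩
  have := LinearMap.congr_fun hg 1
  simpa using this

lemma Θ_coord_sum {ι : Type*} [DecidableEq ι] (b : Basis ι K L) (S : Finset ι) (a : ι → A)
    (i : ι) :
    Θ (b.coord i) (∑ j ∈ S, b j ⊗ₜ[K] a j) = if i ∈ S then a i else 0 := by
  rw [map_sum]
  simp only [Θ_tmul, Basis.coord_apply, Basis.repr_self, Finsupp.single_apply, ite_smul, one_smul,
    zero_smul]
  rw [Finset.sum_ite_eq']

lemma exists_rep {ι : Type*} (b : Basis ι K L) (z : L ⊗[K] A) :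
    ∃ (S : Finset ι) (a : ι → A), z = ∑ i ∈ S, b i ⊗ₜ[K] a i := by
  obtain ⟨c, hc⟩ := TensorProduct.eq_repr_basis_left b z
  exact ⟨c.support, fun i => c i, hc.symm⟩

lemma one_tmul_mul_sum {ι : Type*} (b : ι → L) (S : Finset ι) (a : ι → A) (c : A) :
    ((1 : L) ⊗ₜ[K] c) * ∑ i ∈ S, b i ⊗ₜ[K] a i = ∑ i ∈ S, b i ⊗ₜ[K] (c * a i) := by
  rw [Finset.mul_sum]
  exact Finset.sum_congr rfl fun i _ => by rw [Algebra.TensorProduct.tmul_mul_tmul, one_mul]

lemma sum_mul_one_tmul {ι : Type*} (b : ι → L) (S : Finset ι) (a : ι → A) (c : A) :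
    (∑ i ∈ S, b i ⊗ₜ[K] a i) * ((1 : L) ⊗ₜ[K] c) = ∑ i ∈ S, b i ⊗ₜ[K] (a i * c) := by
  rw [Finset.sum_mul]
  exact Finset.sum_congr rfl fun i _ => by rw [Algebra.TensorProduct.tmul_mul_tmul, mul_one]

theorem simple_tensor [IsSimpleRing A] [Algebra.IsCentral K A] : IsSimpleRing (L ⊗[K] A) := by
  classical
  obtain ⟨lam1, hlam1⟩ := exists_lam_one (K := K) (L := L)
  haveI : Nontrivial (L ⊗[K] A) := by
    refine ⟨⟨1, 0, fun h => ?_⟩⟩
    have h2 : Θ lam1 (1 : L ⊗[K] A) = (1 : A) := by
      rw [Algebra.TensorProduct.one_def, Θ_tmul, hlam1, one_smul]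
    rw [h, map_zero] at h2
    exact zero_ne_one h2
  let b := Basis.ofVectorSpace K L
  have key : ∀ (I : TwoSidedIdeal (L ⊗[K] A)) (n : ℕ) (S : Finset (Basis.ofVectorSpaceIndex K L))
      (a : Basis.ofVectorSpaceIndex K L → A), S.card = n →
      (∑ i ∈ S, b i ⊗ₜ[K] a i) ∈ I → (∑ i ∈ S, b i ⊗ₜ[K] a i) ≠ 0 → (1 : L ⊗[K] A) ∈ I := by
    intro I n
    induction n using Nat.strong_induction_on with
    | h n ih =>
      intro S a hcard hmem hne
      obtain ⟨i₀, hi₀S, hai₀⟩ : ∃ i₀ ∈ S, a i₀ ≠ 0 := by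
        by_contra hcon
        push Not at hcon
        apply hne
        apply Finset.sum_eq_zero
        intro i hi
        rw [hcon i hi, tmul_zero]
      obtain ⟨J, hJ⟩ : ∃ J : TwoSidedIdeal A, ∀ x, x ∈ J ↔
          ∃ a' : Basis.ofVectorSpaceIndex K L → A, a' i₀ = x ∧
            (∑ i ∈ S, b i ⊗ₜ[K] a' i) ∈ I := by
        refine ⟨TwoSidedIdeal.mk' {x | ∃ a' : Basis.ofVectorSpaceIndex K L → A, a' i₀ = x ∧
            (∑ i ∈ S, b i ⊗ₜ[K] a' i) ∈ I} ?_ ?_ ?_ ?_ ?_,
          fun x => TwoSidedIdeal.mem_mk' _ _ _ _ _ _ x⟩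
        · exact ⟨fun _ => 0, rfl, by simp [I.zero_mem]⟩
        · rintro x y ⟨a1, h1, m1⟩ ⟨a2, h2, m2⟩
          refine ⟨fun i => a1 i + a2 i, by simp [h1, h2], ?_⟩
          simp only [tmul_add, Finset.sum_add_distrib]
          exact I.add_mem m1 m2
        · rintro x ⟨a1, h1, m1⟩
          refine ⟨fun i => - a1 i, by simp [h1], ?_⟩
          simp only [tmul_neg, Finset.sum_neg_distrib]
          exact I.neg_mem m1
        · rintro x y ⟨a1, h1, m1⟩
          refine ⟨fun i => x * a1 i, by simp [h1], ?_⟩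
          rw [← one_tmul_mul_sum]
          exact I.mul_mem_left _ _ m1
        · rintro x y ⟨a1, h1, m1⟩
          refine ⟨fun i => a1 i * y, by simp [h1], ?_⟩
          rw [← sum_mul_one_tmul]
          exact I.mul_mem_right _ _ m1
      have haJ : a i₀ ∈ J := (hJ _).mpr ⟨a, rfl, hmem⟩
      have h1J : (1 : A) ∈ J := IsSimpleRing.one_mem_of_ne_zero_mem J hai₀ haJ
      obtain ⟨a', ha'1, hz'⟩ := (hJ _).mp h1J
      have hw : ∀ c : A, (∑ i ∈ S.erase i₀, b i ⊗ₜ[K] (c * a' i - a' i * c)) ∈ I := by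
        intro c
        have h2 : ∑ i ∈ S, b i ⊗ₜ[K] (c * a' i - a' i * c)
            = ∑ i ∈ S.erase i₀, b i ⊗ₜ[K] (c * a' i - a' i * c) := by
          rw [← Finset.add_sum_erase S _ hi₀S, ha'1, mul_one, one_mul, sub_self, tmul_zero,
            zero_add]
        have h3 : ∑ i ∈ S, b i ⊗ₜ[K] (c * a' i - a' i * c)
            = ((1 : L) ⊗ₜ[K] c) * (∑ i ∈ S, b i ⊗ₜ[K] a' i)
              - (∑ i ∈ S, b i ⊗ₜ[K] a' i) * ((1 : L) ⊗ₜ[K] c) := by
          rw [one_tmul_mul_sum, sum_mul_one_tmul, ← Finset.sum_sub_distrib]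
          exact Finset.sum_congr rfl fun i _ => tmul_sub _ _ _
        rw [← h2, h3]
        exact I.sub_mem (I.mul_mem_left _ _ hz') (I.mul_mem_right _ _ hz')
      by_cases hall : ∀ c : A, (∑ i ∈ S.erase i₀, b i ⊗ₜ[K] (c * a' i - a' i * c)) = 0
      · have hcen : ∀ i ∈ S, ∃ κ : K, a' i = algebraMap K A κ := by
          intro i hi
          by_cases hii : i = i₀
          · exact ⟨1, by rw [hii, ha'1, map_one]⟩
          · have hmemc : a' i ∈ Subalgebra.center K A := by
              rw [Subalgebra.mem_center_iff]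
              intro c
              have h := congrArg (Θ (b.coord i)) (hall c)
              rw [Θ_coord_sum, map_zero, if_pos (Finset.mem_erase.mpr ⟨hii, hi⟩)] at h
              exact sub_eq_zero.mp h
            have hbot : a' i ∈ (⊥ : Subalgebra K A) :=
              (Algebra.IsCentral.out : Subalgebra.center K A ≤ ⊥) hmemc
            obtain ⟨κ, hκ⟩ := Algebra.mem_bot.mp hbot
            exact ⟨κ, hκ.symm⟩
        choose! κ hκ using hcen
        have hz'eq : ∑ i ∈ S, b i ⊗ₜ[K] a' i = (∑ i ∈ S, κ i • b i) ⊗ₜ[K] (1 : A) := by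
          rw [TensorProduct.sum_tmul]
          refine Finset.sum_congr rfl fun i hi => ?_
          rw [hκ i hi, Algebra.algebraMap_eq_smul_one]
          exact (TensorProduct.smul_tmul _ _ _).symm
        have hl : (∑ i ∈ S, κ i • b i) ≠ 0 := by
          intro hl0
          have h := Θ_coord_sum b S a' i₀
          rw [hz'eq, hl0, zero_tmul, map_zero, if_pos hi₀S, ha'1] at h
          exact zero_ne_one h
        have hmem1 : ((∑ i ∈ S, κ i • b i)⁻¹ ⊗ₜ[K] (1 : A)) *
            ((∑ i ∈ S, κ i • b i) ⊗ₜ[K] (1 : A)) ∈ I := by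
          rw [← hz'eq]
          exact I.mul_mem_left _ _ hz'
        rwa [Algebra.TensorProduct.tmul_mul_tmul, inv_mul_cancel₀ hl, mul_one,
          ← Algebra.TensorProduct.one_def] at hmem1
      · push Not at hall
        obtain ⟨c, hc⟩ := hall
        exact ih (S.erase i₀).card (by rw [← hcard]; exact Finset.card_erase_lt_of_mem hi₀S)
          (S.erase i₀) (fun i => c * a' i - a' i * c) rfl (hw c) hc
  refine IsSimpleRing.of_eq_bot_or_eq_top fun I => ?_
  by_cases hI : I = ⊥
  · exact Or.inl hI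
  · right
    obtain ⟨z, hzI, hz0⟩ : ∃ z ∈ I, z ≠ 0 := by
      by_contra hcon
      push Not at hcon
      apply hI
      rw [eq_bot_iff, TwoSidedIdeal.le_iff]
      intro z hz
      exact (TwoSidedIdeal.mem_bot _).mpr (hcon z hz)
    obtain ⟨S, a, rfl⟩ := exists_rep b z
    have := key I _ S a rfl hzI hz0
    exact (TwoSidedIdeal.one_mem_iff I).mp this

theorem central_tensor [Algebra.IsCentral K A] : Algebra.IsCentral L (L ⊗[K] A) := by
  classical
  refine ⟨fun z hz => ?_⟩
  rw [Subalgebra.mem_center_iff] at hz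
  let b := Basis.ofVectorSpace K L
  obtain ⟨S, a, rfl⟩ := exists_rep b z
  have hcen : ∀ i ∈ S, ∃ κ : K, a i = algebraMap K A κ := by
    intro i hi
    have hmemc : a i ∈ Subalgebra.center K A := by
      rw [Subalgebra.mem_center_iff]
      intro c
      have h0 : ∑ j ∈ S, b j ⊗ₜ[K] (c * a j - a j * c) = 0 := by
        have h3 : ∑ j ∈ S, b j ⊗ₜ[K] (c * a j - a j * c)
            = ((1 : L) ⊗ₜ[K] c) * (∑ i ∈ S, b i ⊗ₜ[K] a i)
              - (∑ i ∈ S, b i ⊗ₜ[K] a i) * ((1 : L) ⊗ₜ[K] c) := by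
          rw [one_tmul_mul_sum, sum_mul_one_tmul, ← Finset.sum_sub_distrib]
          exact Finset.sum_congr rfl fun i _ => tmul_sub _ _ _
        rw [h3, hz ((1 : L) ⊗ₜ[K] c), sub_self]
      have h := congrArg (Θ (b.coord i)) h0
      rw [Θ_coord_sum, map_zero, if_pos hi] at h
      exact sub_eq_zero.mp h
    have hbot : a i ∈ (⊥ : Subalgebra K A) :=
      (Algebra.IsCentral.out : Subalgebra.center K A ≤ ⊥) hmemc
    obtain ⟨κ, hκ⟩ := Algebra.mem_bot.mp hbot
    exact ⟨κ, hκ.symm⟩
  choose! κ hκ using hcen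
  have hzeq : ∑ i ∈ S, b i ⊗ₜ[K] a i = (∑ i ∈ S, κ i • b i) ⊗ₜ[K] (1 : A) := by
    rw [TensorProduct.sum_tmul]
    refine Finset.sum_congr rfl fun i hi => ?_
    rw [hκ i hi, Algebra.algebraMap_eq_smul_one]
    exact (TensorProduct.smul_tmul _ _ _).symm
  rw [hzeq, Algebra.mem_bot]
  exact ⟨∑ i ∈ S, κ i • b i, by rw [Algebra.TensorProduct.algebraMap_apply]; rfl⟩

lemma baseChange_antimul (s : A →ₗ[K] A) (hsmul : ∀ x y : A, s (x * y) = s y * s x)
    (x y : L ⊗[K] A) :
    LinearMap.baseChange L s (x * y)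
      = LinearMap.baseChange L s y * LinearMap.baseChange L s x := by
  induction x using TensorProduct.induction_on with
  | zero => simp
  | tmul l a =>
    induction y using TensorProduct.induction_on with
    | zero => simp
    | tmul l' a' =>
      rw [Algebra.TensorProduct.tmul_mul_tmul, LinearMap.baseChange_tmul,
        LinearMap.baseChange_tmul, LinearMap.baseChange_tmul,
        Algebra.TensorProduct.tmul_mul_tmul, hsmul, mul_comm l l']
    | add y1 y2 h1 h2 => rw [mul_add, map_add, map_add, h1, h2, add_mul]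
  | add x1 x2 h1 h2 => rw [add_mul, map_add, map_add, h1, h2, mul_add]

lemma baseChange_invol (s : A →ₗ[K] A) (hss : ∀ x : A, s (s x) = x) (x : L ⊗[K] A) :
    LinearMap.baseChange L s (LinearMap.baseChange L s x) = x := by
  induction x using TensorProduct.induction_on with
  | zero => simp
  | tmul l a => rw [LinearMap.baseChange_tmul, LinearMap.baseChange_tmul, hss]
  | add x1 x2 h1 h2 => rw [map_add, map_add, h1, h2]

lemma baseChange_one (s : A →ₗ[K] A) (hs1 : s 1 = 1) :
    LinearMap.baseChange L s (1 : L ⊗[K] A) = 1 := by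
  rw [Algebra.TensorProduct.one_def, LinearMap.baseChange_tmul, hs1]

/-- An `L`-linear involutive anti-automorphism of a matrix algebra over a field is the adjoint
involution of a symmetric or skew-symmetric invertible matrix. -/
theorem matrix_antiauto {F : Type*} [Field F] {m : ℕ}
    (σ : Matrix (Fin m) (Fin m) F →ₗ[F] Matrix (Fin m) (Fin m) F)
    (h1 : σ 1 = 1) (hmul : ∀ X Y, σ (X * Y) = σ Y * σ X) (hinv : ∀ X, σ (σ X) = X) :
    ∃ S : Matrix (Fin m) (Fin m) F, IsUnit S ∧ (S.transpose = S ∨ S.transpose = -S) ∧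
      ∀ X, σ X = S⁻¹ * X.transpose * S := by
  classical
  let φlin : Matrix (Fin m) (Fin m) F →ₗ[F] Matrix (Fin m) (Fin m) F :=
    (Matrix.transposeLinearEquiv (Fin m) (Fin m) F F).toLinearMap ∘ₗ σ
  have hφlin : ∀ X, φlin X = (σ X).transpose := fun X => rfl
  let φ : Matrix (Fin m) (Fin m) F →ₐ[F] Matrix (Fin m) (Fin m) F :=
    AlgHom.ofLinearMap φlin (by rw [hφlin, h1, Matrix.transpose_one])
      (fun X Y => by rw [hφlin, hφlin, hφlin, hmul, Matrix.transpose_mul])
  have hφ : ∀ X, φ X = (σ X).transpose := fun X => rfl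
  have hbij : Function.Bijective φ := by
    constructor
    · intro X Y hXY
      rw [hφ, hφ] at hXY
      have := Matrix.transpose_injective hXY
      have h2 := congrArg σ this
      rwa [hinv, hinv] at h2
    · intro Y
      refine ⟨σ Y.transpose, ?_⟩
      rw [hφ, hinv, Matrix.transpose_transpose]
  let φe : Matrix (Fin m) (Fin m) F ≃ₐ[F] Matrix (Fin m) (Fin m) F := AlgEquiv.ofBijective φ hbij
  have hφe : ∀ X, φe X = (σ X).transpose := fun X => rfl
  let τ : Matrix (Fin m) (Fin m) F ≃ₐ[F] Module.End F (Fin m → F) := Matrix.toLinAlgEquiv'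
  obtain ⟨T, hT⟩ := AlgEquiv.eq_linearEquivConjAlgEquiv (τ.symm.trans (φe.trans τ))
  let Tm : Module.End F (Fin m → F) := T.toLinearMap
  let Tm' : Module.End F (Fin m → F) := T.symm.toLinearMap
  have hTT : Tm * Tm' = 1 := LinearMap.ext fun v => T.apply_symm_apply v
  have hTT' : Tm' * Tm = 1 := LinearMap.ext fun v => T.symm_apply_apply v
  obtain ⟨P, hP⟩ : ∃ P, P = τ.symm Tm := ⟨_, rfl⟩
  obtain ⟨Q, hQ⟩ : ∃ Q, Q = τ.symm Tm' := ⟨_, rfl⟩
  have hPQ : P * Q = 1 := by rw [hP, hQ, ← map_mul, hTT, map_one]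
  have hQP : Q * P = 1 := by rw [hP, hQ, ← map_mul, hTT', map_one]
  have hφX : ∀ X, (σ X).transpose = P * X * Q := by
    intro X
    have h2 : τ (φe X) = Tm * τ X * Tm' := by
      have h := AlgEquiv.congr_fun hT (τ X)
      rw [AlgEquiv.trans_apply, AlgEquiv.trans_apply, τ.symm_apply_apply,
        LinearEquiv.conjAlgEquiv_apply] at h
      rw [h]
      rfl
    have h3 := congrArg τ.symm h2
    rw [τ.symm_apply_apply, map_mul, map_mul, τ.symm_apply_apply, ← hP, ← hQ] at h3
    rw [← hφe]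
    exact h3
  have hσ : ∀ X, σ X = Q.transpose * X.transpose * P.transpose := by
    intro X
    have h := congrArg Matrix.transpose (hφX X)
    rw [Matrix.transpose_transpose, Matrix.transpose_mul, Matrix.transpose_mul, ← mul_assoc] at h
    exact h
  have hU : ∀ X, Q.transpose * (P * X * Q) * P.transpose = X := by
    intro X
    have h := hinv X
    rw [hσ (σ X), hφX X] at h
    exact h
  have hPtQt : P.transpose * Q.transpose = 1 := by
    rw [← Matrix.transpose_mul, hQP, Matrix.transpose_one]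
  have hQtPt : Q.transpose * P.transpose = 1 := by
    rw [← Matrix.transpose_mul, hPQ, Matrix.transpose_one]
  have hcomm : ∀ X, X * (Q.transpose * P) = (Q.transpose * P) * X := by
    intro X
    calc X * (Q.transpose * P)
        = (Q.transpose * (P * X * Q) * P.transpose) * (Q.transpose * P) := by rw [hU X]
      _ = Q.transpose * P * X * (Q * (P.transpose * Q.transpose) * P) := by
          simp only [mul_assoc]
      _ = Q.transpose * P * X := by rw [hPtQt, mul_one, hQP, mul_one]
  have hcen : Q.transpose * P ∈ Subalgebra.center F (Matrix (Fin m) (Fin m) F) := by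
    rw [Subalgebra.mem_center_iff]
    exact hcomm
  have hbot : Q.transpose * P ∈ (⊥ : Subalgebra F (Matrix (Fin m) (Fin m) F)) :=
    (Algebra.IsCentral.out : Subalgebra.center F (Matrix (Fin m) (Fin m) F) ≤ ⊥) hcen
  obtain ⟨c, hc0⟩ := Algebra.mem_bot.mp hbot
  have hc : Q.transpose * P = c • (1 : Matrix (Fin m) (Fin m) F) := by
    rw [← hc0, Algebra.algebraMap_eq_smul_one]
  have hPc : P = c • P.transpose := by
    calc P = (P.transpose * Q.transpose) * P := by rw [hPtQt, one_mul]
      _ = P.transpose * (Q.transpose * P) := mul_assoc _ _ _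
      _ = c • P.transpose := by rw [hc, mul_smul_comm, mul_one]
  have hcc : Nonempty (Fin m) → c * c = 1 := by
    rintro ⟨i⟩
    have h1 : P.transpose = c • P := by
      conv_lhs => rw [hPc]
      rw [Matrix.transpose_smul, Matrix.transpose_transpose]
    have h2 : P = (c * c) • P := by
      conv_lhs => rw [hPc, h1]
      rw [smul_smul]
    have h3 : (1 : Matrix (Fin m) (Fin m) F) = (c * c) • 1 := by
      calc (1 : Matrix (Fin m) (Fin m) F) = P * Q := hPQ.symm
        _ = ((c * c) • P) * Q := by rw [← h2]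
        _ = (c * c) • 1 := by rw [smul_mul_assoc, hPQ]
    have h4 := congrFun (congrFun h3 i) i
    simp at h4
    exact h4.symm
  refine ⟨P.transpose, ⟨⟨P.transpose, Q.transpose, hPtQt, hQtPt⟩, rfl⟩, ?_, ?_⟩
  · by_cases hm : Nonempty (Fin m)
    · rcases mul_self_eq_one_iff.mp (hcc hm) with h | h
      · left
        rw [Matrix.transpose_transpose]
        conv_lhs => rw [hPc]
        rw [h, one_smul]
      · right
        rw [Matrix.transpose_transpose]
        conv_lhs => rw [hPc]
        rw [h, neg_smul, one_smul]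
    · left
      haveI : IsEmpty (Fin m) := not_nonempty_iff.mp hm
      exact Subsingleton.elim _ _
  · intro X
    rw [Matrix.inv_eq_left_inv hQtPt]
    exact hσ X

lemma nontrivial_of_tensor [Nontrivial (L ⊗[K] A)] : Nontrivial A := by
  by_contra h
  rw [not_nontrivial_iff_subsingleton] at h
  have h1 : (1 : L ⊗[K] A) = 0 := by
    rw [Algebra.TensorProduct.one_def, Subsingleton.elim (1 : A) 0, tmul_zero]
  exact one_ne_zero h1

lemma central_of_tensor [Algebra.IsCentral L (L ⊗[K] A)] : Algebra.IsCentral K A := by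
  obtain ⟨lam1, hlam1⟩ := exists_lam_one (K := K) (L := L)
  refine ⟨fun x hx => ?_⟩
  rw [Subalgebra.mem_center_iff] at hx
  have hcen : (1 : L) ⊗ₜ[K] x ∈ Subalgebra.center L (L ⊗[K] A) := by
    rw [Subalgebra.mem_center_iff]
    intro z
    induction z using TensorProduct.induction_on with
    | zero => simp
    | tmul l a =>
      rw [Algebra.TensorProduct.tmul_mul_tmul, Algebra.TensorProduct.tmul_mul_tmul, hx a, mul_one,
        one_mul]
    | add y z hy hz => rw [add_mul, mul_add, hy, hz]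
  have hbot : (1 : L) ⊗ₜ[K] x ∈ (⊥ : Subalgebra L (L ⊗[K] A)) :=
    (Algebra.IsCentral.out : Subalgebra.center L (L ⊗[K] A) ≤ ⊥) hcen
  obtain ⟨l, hl⟩ := Algebra.mem_bot.mp hbot
  rw [Algebra.TensorProduct.algebraMap_apply] at hl
  have h := congrArg (Θ lam1) hl
  rw [Θ_tmul, Θ_tmul, hlam1, one_smul] at h
  rw [Algebra.mem_bot]
  exact ⟨lam1 l, by rw [Algebra.algebraMap_eq_smul_one]; exact h⟩

lemma simple_of_tensor [IsSimpleRing (L ⊗[K] A)] : IsSimpleRing A := by
  haveI : Nontrivial A := nontrivial_of_tensor (K := K) (L := L)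
  obtain ⟨lam1, hlam1⟩ := exists_lam_one (K := K) (L := L)
  refine IsSimpleRing.of_eq_bot_or_eq_top fun J => ?_
  by_cases hJ : J = ⊥
  · exact Or.inl hJ
  right
  obtain ⟨x, hxJ, hx0⟩ : ∃ x ∈ J, x ≠ 0 := by
    by_contra hcon
    push Not at hcon
    apply hJ
    rw [eq_bot_iff, TwoSidedIdeal.le_iff]
    intro z hz
    exact (TwoSidedIdeal.mem_bot _).mpr (hcon z hz)
  obtain ⟨Jt, hJt⟩ : ∃ Jt : TwoSidedIdeal (L ⊗[K] A),
      ∀ z, z ∈ Jt ↔ ∀ lam : L →ₗ[K] K, Θ lam z ∈ J := by
    refine ⟨TwoSidedIdeal.mk' {z | ∀ lam : L →ₗ[K] K, Θ lam z ∈ J} ?_ ?_ ?_ ?_ ?_,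
      fun z => TwoSidedIdeal.mem_mk' _ _ _ _ _ _ z⟩
    · intro lam
      rw [map_zero]
      exact J.zero_mem
    · intro y z hy hz lam
      rw [map_add]
      exact J.add_mem (hy lam) (hz lam)
    · intro y hy lam
      rw [map_neg]
      exact J.neg_mem (hy lam)
    · intro y z hz
      induction y using TensorProduct.induction_on with
      | zero =>
        intro lam
        rw [zero_mul, map_zero]
        exact J.zero_mem
      | tmul l c =>
        intro lam
        rw [Θ_mul_left]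
        exact J.mul_mem_left _ _ (hz _)
      | add y1 y2 h1 h2 =>
        intro lam
        rw [add_mul, map_add]
        exact J.add_mem (h1 lam) (h2 lam)
    · intro y z hy
      induction z using TensorProduct.induction_on with
      | zero =>
        intro lam
        rw [mul_zero, map_zero]
        exact J.zero_mem
      | tmul l c =>
        intro lam
        rw [Θ_mul_right]
        exact J.mul_mem_right _ _ (hy _)
      | add z1 z2 h1 h2 =>
        intro lam
        rw [mul_add, map_add]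
        exact J.add_mem (h1 lam) (h2 lam)
  have h1x : (1 : L) ⊗ₜ[K] x ∈ Jt := by
    rw [hJt]
    intro lam
    rw [Θ_tmul, Algebra.smul_def]
    exact J.mul_mem_left _ _ hxJ
  have h1x0 : (1 : L) ⊗ₜ[K] x ≠ 0 := by
    intro h
    have := congrArg (Θ lam1) h
    rw [Θ_tmul, hlam1, one_smul, map_zero] at this
    exact hx0 this
  have hone : (1 : L ⊗[K] A) ∈ Jt := IsSimpleRing.one_mem_of_ne_zero_mem Jt h1x0 h1x
  rw [hJt] at hone
  have := hone lam1
  rw [Algebra.TensorProduct.one_def, Θ_tmul, hlam1, one_smul] at this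
  exact (TwoSidedIdeal.one_mem_iff J).mp this

lemma finite_of_tensor [Module.Finite L (L ⊗[K] A)] : Module.Finite K A := by
  have h1 := Module.rank_lt_aleph0 (R := L) (M := L ⊗[K] A)
  rw [Module.rank_baseChange, Cardinal.lift_lt_aleph0] at h1
  exact Module.rank_lt_aleph0_iff.mp h1

lemma central_of_algEquiv {F : Type*} [Field F] {D D' : Type*} [Ring D] [Ring D'] [Algebra F D]
    [Algebra F D'] (e : D ≃ₐ[F] D') [Algebra.IsCentral F D] : Algebra.IsCentral F D' := by
  refine ⟨fun x hx => ?_⟩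
  rw [Subalgebra.mem_center_iff] at hx
  have hcen : e.symm x ∈ Subalgebra.center F D := by
    rw [Subalgebra.mem_center_iff]
    intro d
    have := hx (e d)
    apply e.injective
    rw [map_mul, map_mul, e.apply_symm_apply]
    exact this
  have hbot : e.symm x ∈ (⊥ : Subalgebra F D) :=
    (Algebra.IsCentral.out : Subalgebra.center F D ≤ ⊥) hcen
  obtain ⟨l, hl⟩ := Algebra.mem_bot.mp hbot
  rw [Algebra.mem_bot]
  refine ⟨l, ?_⟩
  have := congrArg e hl
  rw [e.commutes, e.apply_symm_apply] at this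
  exact this

end H6CSA
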