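import Mathlib
import Groth.Agent.Lib.helper6.CSATensor

/-!
Modules over simple Artinian algebras are classified by dimension; general Skolem–Noether.
-/

namespace H6SN2

open TensorProduct

universe u v w

theorem KL {k : Type*} [Field k] {R : Type*} [Ring R] [Algebra k R] [IsSimpleRing R]
    [IsArtinianRing R]
    {M : Type*} {N : Type*} [AddCommGroup M] [AddCommGroup N] [Module R M] [Module R N]
    [Module k M] [Module k N] [IsScalarTower k R M] [IsScalarTower k R N]
    [Module.Finite k M] [Module.Finite k N]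
    (h : Module.finrank k M = Module.finrank k N) : Nonempty (M ≃ₗ[R] N) := by
  haveI : Module.Finite R M := Module.Finite.of_restrictScalars_finite k R M
  haveI : Module.Finite R N := Module.Finite.of_restrictScalars_finite k R N
  by_cases hsub : Subsingleton (M × N)
  · haveI : Subsingleton M :=
      ⟨fun a b => by have := hsub.elim (a, 0) (b, 0); exact (Prod.mk.inj this).1⟩
    haveI : Subsingleton N :=
      ⟨fun a b => by have := hsub.elim (0, a) (0, b); exact (Prod.mk.inj this).2⟩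
    exact ⟨LinearEquiv.ofSubsingleton M N⟩
  · haveI : Nontrivial (M × N) := not_subsingleton_iff_nontrivial.mp hsub
    have iso := IsSimpleRing.isIsotypic R (M × N)
    obtain ⟨S, hS⟩ := IsAtomic.exists_atom (Submodule R (M × N))
    rw [← isSimpleModule_iff_isAtom] at hS
    haveI := hS
    have hP : IsIsotypicOfType R (M × N) S := iso S
    have hM : IsIsotypicOfType R M S :=
      hP.of_injective (LinearMap.inl R M N) LinearMap.inl_injective
    have hN : IsIsotypicOfType R N S :=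
      hP.of_injective (LinearMap.inr R M N) LinearMap.inr_injective
    obtain ⟨n, ⟨eM⟩⟩ := hM.linearEquiv_fun
    obtain ⟨m, ⟨eN⟩⟩ := hN.linearEquiv_fun
    haveI : Module.Finite k S :=
      Module.Finite.of_injective (S.subtype.restrictScalars k) S.subtype_injective
    haveI : Nontrivial S := IsSimpleModule.nontrivial R S
    have hd : 0 < Module.finrank k S := Module.finrank_pos
    have h1 : Module.finrank k M = n * Module.finrank k S := by
      rw [(eM.restrictScalars k).finrank_eq, Module.finrank_pi_fintype]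
      simp
    have h2 : Module.finrank k N = m * Module.finrank k S := by
      rw [(eN.restrictScalars k).finrank_eq, Module.finrank_pi_fintype]
      simp
    have hnm : n = m := by
      rw [h1, h2] at h
      exact Nat.eq_of_mul_eq_mul_right hd h
    subst hnm
    exact ⟨eM.trans eN.symm⟩

section Tw

variable {k : Type u} [Field k] {A : Type v} [Ring A] [Algebra k A] {B : Type w} [Ring B]
  [Algebra k B]

/-- `A` viewed as a module over `B ⊗ Aᵐᵒᵖ` through `f`. -/
def Tw (_f : B →ₐ[k] A) : Type v := A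

def Tw.ofA (f : B →ₐ[k] A) (x : A) : Tw f := x
def Tw.toA {f : B →ₐ[k] A} (x : Tw f) : A := x

instance (f : B →ₐ[k] A) : AddCommGroup (Tw f) := inferInstanceAs (AddCommGroup A)
instance (f : B →ₐ[k] A) : Module k (Tw f) := inferInstanceAs (Module k A)
instance (f : B →ₐ[k] A) [Module.Finite k A] : Module.Finite k (Tw f) :=
  inferInstanceAs (Module.Finite k A)

noncomputable def Φ (f : B →ₐ[k] A) : B ⊗[k] Aᵐᵒᵖ →ₐ[k] Module.End k A :=
  (AlgHom.mulLeftRight k A).comp (Algebra.TensorProduct.map f (AlgHom.id k Aᵐᵒᵖ))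

noncomputable instance (f : B →ₐ[k] A) : Module (B ⊗[k] Aᵐᵒᵖ) (Tw f) :=
  Module.compHom (M := A) (Φ f).toRingHom

lemma Tw.smul_def (f : B →ₐ[k] A) (b : B) (a : A) (x : Tw f) :
    (b ⊗ₜ[k] MulOpposite.op a : B ⊗[k] Aᵐᵒᵖ) • x = Tw.ofA f (f b * Tw.toA x * a) := by
  show (Φ f (b ⊗ₜ MulOpposite.op a)) (Tw.toA x) = _
  simp [Φ, AlgHom.mulLeftRight_apply, Tw.ofA]

instance (f : B →ₐ[k] A) : @IsScalarTower k (B ⊗[k] Aᵐᵒᵖ) (Tw f) Algebra.toSMul _ _ :=
  ⟨fun c r x => by
    show Φ f (c • r) (Tw.toA x) = c • Φ f r (Tw.toA x)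
    rw [map_smul]
    rfl⟩

theorem skolem_noether [Algebra.IsCentral k A] [IsSimpleRing A] [FiniteDimensional k A]
    [IsSimpleRing B] (f g : B →ₐ[k] A) :
    ∃ x : Aˣ, ∀ b : B, f b = (x : A) * g b * ((x⁻¹ : Aˣ) : A) := by
  haveI : Module.Finite k B :=
    Module.Finite.of_injective f.toLinearMap (RingHom.injective f.toRingHom)
  haveI : IsSimpleRing (B ⊗[k] Aᵐᵒᵖ) := H6CSA2.simple_tensor' (K := k) (L := B) (A := Aᵐᵒᵖ)
  haveI : IsArtinianRing (B ⊗[k] Aᵐᵒᵖ) := IsArtinianRing.of_finite k _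
  have hKL : Nonempty (Tw g ≃ₗ[B ⊗[k] Aᵐᵒᵖ] Tw f) :=
    KL (k := k) (R := B ⊗[k] Aᵐᵒᵖ) (M := Tw g) (N := Tw f) rfl
  obtain ⟨θ⟩ := hKL
  let θ' : A → A := fun x => Tw.toA (θ (Tw.ofA g x))
  have hθ : ∀ (b : B) (a x : A), θ' (g b * x * a) = f b * θ' x * a := by
    intro b a x
    have h := θ.map_smul (b ⊗ₜ[k] MulOpposite.op a) (Tw.ofA g x)
    rw [Tw.smul_def, Tw.smul_def] at h
    exact h
  have hθ1 : ∀ a : A, θ' a = θ' 1 * a := by
    intro a
    have := hθ 1 a 1
    simpa using this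
  have hθ2 : ∀ b : B, θ' (g b) = f b * θ' 1 := by
    intro b
    have := hθ b 1 1
    simpa using this
  obtain ⟨v, hv⟩ : ∃ v : A, θ' v = 1 := by
    obtain ⟨y, hy⟩ := θ.surjective (Tw.ofA f 1)
    exact ⟨Tw.toA y, by show Tw.toA (θ y) = 1; rw [hy]; rfl⟩
  have huv : θ' 1 * v = 1 := by rw [← hθ1, hv]
  have hvu : v * θ' 1 = 1 := by
    have h1 : θ' (v * θ' 1) = θ' 1 := by
      rw [hθ1 (v * θ' 1), ← mul_assoc, huv, one_mul]
    have : Tw.ofA g (v * θ' 1) = Tw.ofA g 1 := θ.injective (by exact h1)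
    exact this
  refine ⟨⟨θ' 1, v, huv, hvu⟩, fun b => ?_⟩
  show f b = θ' 1 * g b * v
  calc f b = f b * (θ' 1 * v) := by rw [huv, mul_one]
    _ = (f b * θ' 1) * v := (mul_assoc _ _ _).symm
    _ = θ' 1 * g b * v := by rw [← hθ2, hθ1 (g b)]

end Tw

end H6SN2
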