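import Mathlib
import Groth.Agent.Lib.helper6.SkolemNoether2

/-!
Endomorphism rings of modules over simple Artinian algebras: simplicity and dimension formula.
Centralizers of simple subalgebras of central simple algebras.
-/

namespace H6SN2

open TensorProduct

universe u v w

set_option backward.isDefEq.respectTransparency false in
theorem end_simple_and_dim {k : Type*} [Field k] {R : Type*} [Ring R] [Algebra k R]
    [IsSimpleRing R] [Module.Finite k R]
    {M : Type*} [AddCommGroup M] [Module R M] [Module k M] [IsScalarTower k R M]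
    [Module.Finite k M] [Nontrivial M] :
    IsSimpleRing (Module.End R M) ∧
      Module.finrank k (Module.End R M) * Module.finrank k R = Module.finrank k M ^ 2 := by
  classical
  haveI : IsArtinianRing R := IsArtinianRing.of_finite k R
  haveI : Module.Finite R M := Module.Finite.of_restrictScalars_finite k R M
  have iso := IsSimpleRing.isIsotypic R (R × M)
  obtain ⟨S, hS⟩ := IsAtomic.exists_atom (Submodule R R)
  rw [← isSimpleModule_iff_isAtom] at hS
  haveI := hS
  let e1 := Submodule.equivMapOfInjective (LinearMap.inl R R M) LinearMap.inl_injective S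
  haveI : IsSimpleModule R (S.map (LinearMap.inl R R M)) := IsSimpleModule.congr e1.symm
  have hP1 : IsIsotypicOfType R (R × M) (S.map (LinearMap.inl R R M)) :=
    iso (S.map (LinearMap.inl R R M))
  have hP : IsIsotypicOfType R (R × M) S := hP1.of_linearEquiv_type e1.symm
  have hR : IsIsotypicOfType R R S :=
    hP.of_injective (LinearMap.inl R R M) LinearMap.inl_injective
  have hM : IsIsotypicOfType R M S :=
    hP.of_injective (LinearMap.inr R R M) LinearMap.inr_injective
  obtain ⟨r, ⟨eR⟩⟩ := hR.linearEquiv_fun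
  obtain ⟨t, ⟨eM⟩⟩ := hM.linearEquiv_fun
  haveI : Module.Finite k S :=
    Module.Finite.of_injective (S.subtype.restrictScalars k) S.subtype_injective
  haveI : Nontrivial S := IsSimpleModule.nontrivial R S
  have ht : t ≠ 0 := by
    rintro rfl
    exact not_subsingleton M eM.toEquiv.subsingleton
  haveI : NeZero t := ⟨ht⟩
  have hr : r ≠ 0 := by
    rintro rfl
    exact not_subsingleton R eR.toEquiv.subsingleton
  let ψM : Module.End R M ≃ₐ[k] Matrix (Fin t) (Fin t) (Module.End R S) :=
    (eM.conjAlgEquiv k).trans (endVecAlgEquivMatrixEnd (Fin t) k R S)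
  let ψR : Rᵐᵒᵖ ≃ₐ[k] Matrix (Fin r) (Fin r) (Module.End R S) :=
    (AlgEquiv.moduleEndSelf k).trans
      ((eR.conjAlgEquiv k).trans (endVecAlgEquivMatrixEnd (Fin r) k R S))
  refine ⟨IsSimpleRing.of_ringEquiv (R := Matrix (Fin t) (Fin t) (Module.End R S))
    ψM.symm.toRingEquiv inferInstance, ?_⟩
  have h1 : Module.finrank k M = t * Module.finrank k S := by
    rw [(eM.restrictScalars k).finrank_eq, Module.finrank_pi_fintype]
    simp
  have h2 : Module.finrank k R = r * Module.finrank k S := by
    rw [(eR.restrictScalars k).finrank_eq, Module.finrank_pi_fintype]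
    simp
  have h3 : Module.finrank k (Module.End R M) = t * t * Module.finrank k (Module.End R S) := by
    rw [ψM.toLinearEquiv.finrank_eq, Module.finrank_matrix]
    simp
  have h4 : Module.finrank k R = r * r * Module.finrank k (Module.End R S) := by
    rw [(MulOpposite.opLinearEquiv k (M := R)).finrank_eq, ψR.toLinearEquiv.finrank_eq,
      Module.finrank_matrix]
    simp
  have h5 : Module.finrank k S = r * Module.finrank k (Module.End R S) := by
    have : r * Module.finrank k S = r * (r * Module.finrank k (Module.End R S)) := by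
      rw [← h2, h4, mul_assoc]
    exact Nat.eq_of_mul_eq_mul_left (Nat.pos_of_ne_zero hr) this
  rw [h3, h4, h1, h5]
  ring

section Centralizer

variable {k : Type u} [Field k] {A : Type v} [Ring A] [Algebra k A]

@[simp] lemma Tw.toA_ofA {B : Type w} [Ring B] [Algebra k B] (f : B →ₐ[k] A) (x : A) :
    Tw.toA (Tw.ofA f x) = x := rfl

variable (B : Subalgebra k A)

set_option backward.isDefEq.respectTransparency false in
/-- Left multiplication by an element centralizing `B`, as an endomorphism of the bimodule. -/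
noncomputable def lam (c : A) (hc : ∀ g ∈ B, g * c = c * g) :
    Module.End (B ⊗[k] Aᵐᵒᵖ) (Tw B.val) where
  toFun x := Tw.ofA B.val (c * Tw.toA x)
  map_add' x y := by
    show c * (Tw.toA x + Tw.toA y) = c * Tw.toA x + c * Tw.toA y
    exact mul_add _ _ _
  map_smul' r x := by
    simp only [RingHom.id_apply]
    induction r using TensorProduct.induction_on with
    | zero =>
      have e1 : (0 : B ⊗[k] Aᵐᵒᵖ) • x = 0 := zero_smul (B ⊗[k] Aᵐᵒᵖ) x
      have e2 : (0 : B ⊗[k] Aᵐᵒᵖ) • Tw.ofA B.val (c * Tw.toA x) = 0 :=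
        zero_smul (B ⊗[k] Aᵐᵒᵖ) (Tw.ofA B.val (c * Tw.toA x))
      rw [e1, e2]
      show c * (0 : A) = 0
      exact mul_zero c
    | tmul b a =>
      obtain ⟨a', rfl⟩ := MulOpposite.op_surjective a
      rw [Tw.smul_def, Tw.smul_def]
      show c * ((b : A) * Tw.toA x * a') = (b : A) * (c * Tw.toA x) * a'
      have hcb := hc b.1 b.2
      calc c * ((b : A) * Tw.toA x * a') = (c * (b : A)) * Tw.toA x * a' := by
            simp only [mul_assoc]
        _ = ((b : A) * c) * Tw.toA x * a' := by rw [hcb]
        _ = (b : A) * (c * Tw.toA x) * a' := by simp only [mul_assoc]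
    | add r1 r2 h1 h2 =>
      rw [add_smul, add_smul, ← h1, ← h2]
      show c * (Tw.toA (r1 • x) + Tw.toA (r2 • x)) = c * Tw.toA (r1 • x) + c * Tw.toA (r2 • x)
      exact mul_add _ _ _

lemma lam_apply (c : A) (hc : ∀ g ∈ B, g * c = c * g) (x : Tw B.val) :
    lam B c hc x = Tw.ofA B.val (c * Tw.toA x) := rfl

lemma end_apply_eq (φ : Module.End (B ⊗[k] Aᵐᵒᵖ) (Tw B.val)) (x : A) :
    φ (Tw.ofA B.val x) = Tw.ofA B.val (Tw.toA (φ (Tw.ofA B.val 1)) * x) := by
  have h2 := φ.map_smul ((1 : B) ⊗ₜ[k] MulOpposite.op x) (Tw.ofA B.val 1)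
  rw [Tw.smul_def, Tw.smul_def] at h2
  simpa using h2

lemma end_apply_eq' (φ : Module.End (B ⊗[k] Aᵐᵒᵖ) (Tw B.val)) (g : A) (hg : g ∈ B) :
    φ (Tw.ofA B.val g) = Tw.ofA B.val (g * Tw.toA (φ (Tw.ofA B.val 1))) := by
  have h1 := φ.map_smul ((⟨g, hg⟩ : B) ⊗ₜ[k] MulOpposite.op (1 : A)) (Tw.ofA B.val 1)
  rw [Tw.smul_def, Tw.smul_def] at h1
  simpa using h1

/-- The centralizer of `B` is the endomorphism ring of `A` as a `B ⊗ Aᵐᵒᵖ`-module. -/
noncomputable def centRingEquiv :
    Subalgebra.centralizer k (B : Set A) ≃+* Module.End (B ⊗[k] Aᵐᵒᵖ) (Tw B.val) where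
  toFun c := lam B c.1 (fun g hg => (Subalgebra.mem_centralizer_iff k).mp c.2 g hg)
  invFun φ := ⟨Tw.toA (φ (Tw.ofA B.val 1)), by
    rw [Subalgebra.mem_centralizer_iff]
    intro g hg
    have h1 := end_apply_eq' B φ g hg
    have h2 := end_apply_eq B φ g
    exact h1.symm.trans h2⟩
  left_inv c := Subtype.ext (by
    show c.1 * (1 : A) = c.1
    exact mul_one _)
  right_inv φ := by
    apply LinearMap.ext
    intro x
    rw [lam_apply]
    exact (end_apply_eq B φ (Tw.toA x)).symm
  map_mul' c c' := by
    apply LinearMap.ext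
    intro x
    show (c.1 * c'.1) * Tw.toA x = c.1 * (c'.1 * Tw.toA x)
    exact mul_assoc _ _ _
  map_add' c c' := by
    apply LinearMap.ext
    intro x
    show (c.1 + c'.1) * Tw.toA x = c.1 * Tw.toA x + c'.1 * Tw.toA x
    exact add_mul _ _ _

noncomputable def centAlgEquiv :
    Subalgebra.centralizer k (B : Set A) ≃ₐ[k] Module.End (B ⊗[k] Aᵐᵒᵖ) (Tw B.val) :=
  AlgEquiv.ofRingEquiv (f := centRingEquiv B) (fun κ => by
    apply LinearMap.ext
    intro x
    show algebraMap k A κ * Tw.toA x = κ • Tw.toA x
    rw [Algebra.smul_def])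

variable [Algebra.IsCentral k A] [IsSimpleRing A] [FiniteDimensional k A] [IsSimpleRing B]

instance : Nontrivial (Tw B.val) := inferInstanceAs (Nontrivial A)

theorem centralizer_simple : IsSimpleRing (Subalgebra.centralizer k (B : Set A)) := by
  haveI : IsSimpleRing (B ⊗[k] Aᵐᵒᵖ) := H6CSA2.simple_tensor' (K := k) (L := B) (A := Aᵐᵒᵖ)
  have h := (end_simple_and_dim (k := k) (R := B ⊗[k] Aᵐᵒᵖ) (M := Tw B.val)).1
  exact IsSimpleRing.of_ringEquiv (centAlgEquiv B).symm.toRingEquiv h

theorem centralizer_finrank :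
    Module.finrank k A = Module.finrank k B *
      Module.finrank k (Subalgebra.centralizer k (B : Set A)) := by
  haveI : IsSimpleRing (B ⊗[k] Aᵐᵒᵖ) := H6CSA2.simple_tensor' (K := k) (L := B) (A := Aᵐᵒᵖ)
  have h := (end_simple_and_dim (k := k) (R := B ⊗[k] Aᵐᵒᵖ) (M := Tw B.val)).2
  have hop : Module.finrank k Aᵐᵒᵖ = Module.finrank k A :=
    (MulOpposite.opLinearEquiv k (M := A)).symm.finrank_eq
  have hM : Module.finrank k (Tw B.val) = Module.finrank k A := rfl
  rw [← (centAlgEquiv B).toLinearEquiv.finrank_eq, Module.finrank_tensorProduct, hop, hM, sq] at h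
  have hA : 0 < Module.finrank k A := Module.finrank_pos
  have h' : Module.finrank k A * (Module.finrank k B *
      Module.finrank k (Subalgebra.centralizer k (B : Set A))) =
      Module.finrank k A * Module.finrank k A := by
    rw [← h]
    ring
  exact (Nat.eq_of_mul_eq_mul_left hA h').symm

theorem double_centralizer :
    Subalgebra.centralizer k (Subalgebra.centralizer k (B : Set A) : Set A) = B := by
  haveI := centralizer_simple B
  have h1 := centralizer_finrank B
  have h2 := centralizer_finrank (Subalgebra.centralizer k (B : Set A))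
  have hle : B ≤ Subalgebra.centralizer k (Subalgebra.centralizer k (B : Set A) : Set A) := by
    intro b hb
    rw [Subalgebra.mem_centralizer_iff]
    intro c hc
    exact ((Subalgebra.mem_centralizer_iff k).mp hc b hb).symm
  have hC : 0 < Module.finrank k (Subalgebra.centralizer k (B : Set A)) := by
    haveI : Nontrivial (Subalgebra.centralizer k (B : Set A)) := inferInstance
    exact Module.finrank_pos
  have hfr : Module.finrank k B = Module.finrank k
      (Subalgebra.centralizer k (Subalgebra.centralizer k (B : Set A) : Set A)) := by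
    rw [h1] at h2
    have : Module.finrank k (Subalgebra.centralizer k (B : Set A)) * Module.finrank k B =
        Module.finrank k (Subalgebra.centralizer k (B : Set A)) * Module.finrank k
          (Subalgebra.centralizer k (Subalgebra.centralizer k (B : Set A) : Set A)) := by
      rw [← h2]
      ring
    exact Nat.eq_of_mul_eq_mul_left hC this
  exact (Subalgebra.eq_of_le_of_finrank_eq hle hfr).symm

end Centralizer

theorem simple_modules_iso {R : Type*} [Ring R] [IsSimpleRing R] [IsArtinianRing R]
    {M N : Type*} [AddCommGroup M] [AddCommGroup N] [Module R M] [Module R N]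
    [IsSimpleModule R M] [IsSimpleModule R N] : Nonempty (M ≃ₗ[R] N) := by
  haveI : Nontrivial M := IsSimpleModule.nontrivial R M
  haveI : Nontrivial N := IsSimpleModule.nontrivial R N
  obtain ⟨v, hv⟩ := exists_ne (0 : M)
  obtain ⟨w, hw⟩ := exists_ne (0 : N)
  have h1 : LinearMap.toSpanSingleton R M v ≠ 0 := fun h => hv (by
    have := LinearMap.congr_fun h 1
    simpa using this)
  have h2 : LinearMap.toSpanSingleton R N w ≠ 0 := fun h => hw (by
    have := LinearMap.congr_fun h 1
    simpa using this)
  obtain ⟨S₁, ⟨e₁⟩⟩ := LinearMap.linearEquiv_of_ne_zero h1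
  obtain ⟨S₂, ⟨e₂⟩⟩ := LinearMap.linearEquiv_of_ne_zero h2
  haveI : IsSimpleModule R S₁ := IsSimpleModule.congr e₁.symm
  haveI : IsSimpleModule R S₂ := IsSimpleModule.congr e₂.symm
  obtain ⟨e₃⟩ := (IsSimpleRing.isIsotypic R R) S₂ S₁
  exact ⟨e₁.trans (e₃.trans e₂.symm)⟩

lemma simple_vec {E : Type*} [DivisionRing E] {N : ℕ} [NeZero N] :
    IsSimpleModule (Matrix (Fin N) (Fin N) E) (Fin N → E) := by
  classical
  rw [isSimpleModule_iff_toSpanSingleton_surjective]
  refine ⟨inferInstance, fun v hv w => ?_⟩
  obtain ⟨j, hj⟩ : ∃ j, v j ≠ 0 := by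
    by_contra h
    push Not at h
    exact hv (funext h)
  refine ⟨Matrix.of fun i l => if l = j then w i * (v j)⁻¹ else 0, ?_⟩
  rw [LinearMap.toSpanSingleton_apply, Matrix.smul_eq_mulVec]
  funext i
  simp only [Matrix.mulVec, dotProduct, Matrix.of_apply]
  rw [Finset.sum_eq_single j]
  · rw [if_pos rfl, mul_assoc, inv_mul_cancel₀ hj, mul_one]
  · intro l _ hl
    rw [if_neg hl, zero_mul]
  · intro h
    exact absurd (Finset.mem_univ j) h

end H6SN2
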