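import Mathlib
import Groth.Agent.Lib.helper6.EndStruct
import Groth.Agent.Lib.helper6.CSASplit
import Groth.Agent.Lib.helper6.CSATensor
import Groth.Agent.S0194
import Groth.Agent.S0193

/-! Basic Brauer-group style facts: maximal subfields split; splitting fields embed in a
Brauer-equivalent algebra of the right degree. -/

namespace H6Br
open scoped TensorProduct
universe u v w

/-- A subfield of degree `r` of a central simple algebra of dimension `r^2` splits it. -/
theorem maxsubfield_splits {k : Type u} [Field k] {K : Type v} [Field K] [Algebra k K]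
    {A : Type w} [Ring A] [Algebra k A] [Algebra.IsCentral k A] [IsSimpleRing A]
    [FiniteDimensional k A] (ι : K →ₐ[k] A) (r : ℕ) (hK : Module.finrank k K = r)
    (hA : Module.finrank k A = r ^ 2) :
    Nonempty (K ⊗[k] A ≃ₐ[K] Matrix (Fin r) (Fin r) K) := by
  classical
  have hr : 0 < r := by
    rcases Nat.eq_zero_or_pos r with h | h
    · exfalso
      rw [h] at hA
      have := Module.finrank_pos (R := k) (M := A)
      omega
    · exact h
  haveI : FiniteDimensional k K := Module.finite_of_finrank_pos (by rw [hK]; exact hr)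
  let ιop : K →ₐ[k] Aᵐᵒᵖ := ι.toOpposite (fun x y => by
    show ι x * ι y = ι y * ι x
    rw [← map_mul, ← map_mul, mul_comm])
  letI modKA : Module K A := Module.compHom A ιop.toRingHom
  have smul_def : ∀ (c : K) (x : A), c • x = x * ι c := fun c x => rfl
  haveI : IsScalarTower k K A := ⟨fun a c x => by
    rw [smul_def, smul_def, map_smul, mul_smul_comm]⟩
  haveI : SMulCommClass K k A := ⟨fun c a x => by
    rw [smul_def, smul_def, smul_mul_assoc]⟩
  haveI : Module.Finite K A := Module.Finite.of_restrictScalars_finite k K A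
  have hfr : Module.finrank K A = r := by
    have h := Module.finrank_mul_finrank k K A
    rw [hK, hA, sq] at h
    exact Nat.eq_of_mul_eq_mul_left hr h
  let g : A →ₐ[k] Module.End K A :=
    { toFun := fun a =>
        { toFun := fun x => a * x
          map_add' := mul_add a
          map_smul' := fun c x => by simp only [smul_def, RingHom.id_apply, mul_assoc] }
      map_one' := by ext x; simp
      map_mul' := fun a b => by ext x; simp [mul_assoc]
      map_zero' := by ext x; simp
      map_add' := fun a b => by ext x; simp [add_mul]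
      commutes' := fun c => by
        ext x
        simp [Algebra.smul_def] }
  let Θ : K ⊗[k] A →ₐ[K] Module.End K A :=
    Algebra.TensorProduct.lift (Algebra.ofId K (Module.End K A)) g (fun c a => by
      ext x
      show (a * x) * ι c = a * (x * ι c)
      rw [mul_assoc])
  haveI : IsSimpleRing (K ⊗[k] A) := H6CSA.simple_tensor (K := k) (L := K) (A := A)
  have hinj : Function.Injective Θ := RingHom.injective Θ.toRingHom
  have hdim : Module.finrank K (K ⊗[k] A) = Module.finrank K (Module.End K A) := by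
    rw [Module.finrank_baseChange, hA, Module.finrank_linearMap, hfr, sq]
  have hsurj : Function.Surjective Θ :=
    (LinearMap.injective_iff_surjective_of_finrank_eq_finrank (f := Θ.toLinearMap) hdim).mp hinj
  let e1 : K ⊗[k] A ≃ₐ[K] Module.End K A := AlgEquiv.ofBijective Θ ⟨hinj, hsurj⟩
  let b := Module.finBasisOfFinrankEq K A hfr
  exact ⟨e1.trans (algEquivMatrix b)⟩

theorem small_of_finite {k : Type u} [Field k] (A : Type w) [Ring A] [Algebra k A] [Nontrivial A]
    (B' : Type v) [AddCommGroup B'] [Module k B'] [FiniteDimensional k B'] : Small.{w} B' := by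
  let kw : Subalgebra k A := ⊥
  have h1 : Module.finrank k kw = 1 := Subalgebra.finrank_bot
  haveI : FiniteDimensional k kw := Module.finite_of_finrank_pos (by rw [h1]; exact one_pos)
  have h2 : Module.finrank k (Fin (Module.finrank k B') → kw) = Module.finrank k B' := by
    rw [Module.finrank_pi_fintype]
    simp [h1]
  have e : B' ≃ₗ[k] (Fin (Module.finrank k B') → kw) := LinearEquiv.ofFinrankEq _ _ h2.symm
  exact Small.mk' e.toEquiv

theorem mulLeftRight_bijective {k : Type u} [Field k] {A : Type w} [Ring A] [Algebra k A]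
    [Algebra.IsCentral k A] [IsSimpleRing A] [FiniteDimensional k A] :
    Function.Bijective (AlgHom.mulLeftRight k A) := by
  haveI : IsSimpleRing (A ⊗[k] Aᵐᵒᵖ) := H6CSA2.simple_tensor' (K := k) (L := A) (A := Aᵐᵒᵖ)
  have hinj : Function.Injective (AlgHom.mulLeftRight k A) :=
    RingHom.injective (AlgHom.mulLeftRight k A).toRingHom
  have hop : Module.finrank k Aᵐᵒᵖ = Module.finrank k A :=
    (MulOpposite.opLinearEquiv k (M := A)).symm.finrank_eq
  have hdim : Module.finrank k (A ⊗[k] Aᵐᵒᵖ) = Module.finrank k (Module.End k A) := by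
    rw [Module.finrank_tensorProduct, hop, Module.finrank_linearMap]
  exact ⟨hinj, (LinearMap.injective_iff_surjective_of_finrank_eq_finrank
    (f := (AlgHom.mulLeftRight k A).toLinearMap) hdim).mp hinj⟩

/-- If `A ⊗ B'` is a matrix algebra over `k`, then `A` is Brauer equivalent to `B'ᵐᵒᵖ`. -/
theorem brauer_inverse {k : Type u} [Field k] {A : Type w} [Ring A] [Algebra k A]
    {B' : Type v} [Ring B'] [Algebra k B'] [Algebra.IsCentral k B'] [IsSimpleRing B']
    [FiniteDimensional k B'] (N : ℕ)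
    (e0 : A ⊗[k] B' ≃ₐ[k] Matrix (Fin N) (Fin N) k) :
    Nonempty (Matrix (Fin (Module.finrank k B')) (Fin (Module.finrank k B')) A ≃ₐ[k]
      Matrix (Fin N) (Fin N) B'ᵐᵒᵖ) := by
  classical
  let b := Module.finBasis k B'
  let e1 : Matrix (Fin (Module.finrank k B')) (Fin (Module.finrank k B')) A ≃ₐ[k]
      A ⊗[k] Matrix (Fin (Module.finrank k B')) (Fin (Module.finrank k B')) k :=
    matrixEquivTensor (Fin (Module.finrank k B')) k A
  let e2 : A ⊗[k] Matrix (Fin (Module.finrank k B')) (Fin (Module.finrank k B')) k ≃ₐ[k]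
      A ⊗[k] Module.End k B' :=
    Algebra.TensorProduct.congr AlgEquiv.refl (algEquivMatrix b).symm
  let e3 : A ⊗[k] Module.End k B' ≃ₐ[k] A ⊗[k] (B' ⊗[k] B'ᵐᵒᵖ) :=
    Algebra.TensorProduct.congr AlgEquiv.refl
      (AlgEquiv.ofBijective (AlgHom.mulLeftRight k B') mulLeftRight_bijective).symm
  let e4 : A ⊗[k] (B' ⊗[k] B'ᵐᵒᵖ) ≃ₐ[k] (A ⊗[k] B') ⊗[k] B'ᵐᵒᵖ :=
    (Algebra.TensorProduct.assoc k k k A B' B'ᵐᵒᵖ).symm
  let e5 : (A ⊗[k] B') ⊗[k] B'ᵐᵒᵖ ≃ₐ[k] Matrix (Fin N) (Fin N) k ⊗[k] B'ᵐᵒᵖ :=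
    Algebra.TensorProduct.congr e0 AlgEquiv.refl
  let e6 : Matrix (Fin N) (Fin N) k ⊗[k] B'ᵐᵒᵖ ≃ₐ[k] B'ᵐᵒᵖ ⊗[k] Matrix (Fin N) (Fin N) k :=
    Algebra.TensorProduct.comm k _ _
  let e7 : B'ᵐᵒᵖ ⊗[k] Matrix (Fin N) (Fin N) k ≃ₐ[k] Matrix (Fin N) (Fin N) B'ᵐᵒᵖ :=
    (matrixEquivTensor (Fin N) k B'ᵐᵒᵖ).symm
  exact ⟨e1.trans (e2.trans (e3.trans (e4.trans (e5.trans (e6.trans e7)))))⟩

theorem centralizer_central {k : Type u} [Field k] {E : Type v} [Ring E] [Algebra k E]
    [Algebra.IsCentral k E] [IsSimpleRing E] [FiniteDimensional k E] (B : Subalgebra k E)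
    [IsSimpleRing B] [Algebra.IsCentral k B] :
    Algebra.IsCentral k (Subalgebra.centralizer k (B : Set E)) := by
  refine ⟨fun z hz => ?_⟩
  rw [Subalgebra.mem_center_iff] at hz
  have hz1 : (z : E) ∈ Subalgebra.centralizer k
      ((Subalgebra.centralizer k (B : Set E) : Subalgebra k E) : Set E) := by
    rw [Subalgebra.mem_centralizer_iff k]
    intro g hg
    exact congrArg Subtype.val (hz ⟨g, hg⟩)
  rw [H6SN2.double_centralizer B] at hz1
  have hz2 : (⟨(z : E), hz1⟩ : B) ∈ Subalgebra.center k B := by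
    rw [Subalgebra.mem_center_iff]
    intro b
    apply Subtype.ext
    exact (Subalgebra.mem_centralizer_iff k).mp z.2 b b.2
  obtain ⟨c, hc⟩ := Algebra.mem_bot.mp (Algebra.IsCentral.out hz2)
  rw [Algebra.mem_bot]
  refine ⟨c, ?_⟩
  apply Subtype.ext
  have h3 := congrArg Subtype.val hc
  simpa using h3

/-- the action of matrices on column vectors, as a `k`-algebra map -/
noncomputable def matAct (k : Type u) [Field k] (K : Type v) [Field K] [Algebra k K] (n : ℕ) :
    Matrix (Fin n) (Fin n) K →ₐ[k] Module.End k (Fin n → K) where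
  toFun M := (Matrix.mulVecLin M).restrictScalars k
  map_one' := by
    apply LinearMap.ext; intro v
    simp
  map_mul' M N := by
    apply LinearMap.ext; intro v
    simp [Matrix.mulVec_mulVec]
  map_zero' := by
    apply LinearMap.ext; intro v
    simp
  map_add' M N := by
    apply LinearMap.ext; intro v
    simp [Matrix.add_mulVec]
  commutes' c := by
    apply LinearMap.ext; intro v
    rw [Algebra.algebraMap_eq_smul_one]
    simp [Matrix.smul_mulVec]

lemma matAct_apply (k : Type u) [Field k] (K : Type v) [Field K] [Algebra k K] (n : ℕ)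
    (M : Matrix (Fin n) (Fin n) K) (v : Fin n → K) : matAct k K n M v = Matrix.mulVec M v := rfl

theorem exists_embedding_of_splits {k : Type u} [Field k] {K : Type v} [Field K] [Algebra k K]
    [FiniteDimensional k K] {A : Type w} [Ring A] [Algebra k A] [Algebra.IsCentral k A]
    [IsSimpleRing A] [FiniteDimensional k A] (n : ℕ) (hn : n ≠ 0)
    (e : K ⊗[k] A ≃ₐ[K] Matrix (Fin n) (Fin n) K) :
    ∃ (B : Type v) (_ : Ring B) (_ : Algebra k B), Algebra.IsCentral k B ∧ IsSimpleRing B ∧
      FiniteDimensional k B ∧ Module.finrank k B = Module.finrank k K ^ 2 ∧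
      Nonempty (K →ₐ[k] B) ∧ ∃ s t : ℕ, s ≠ 0 ∧ t ≠ 0 ∧
        Nonempty (Matrix (Fin s) (Fin s) A ≃ₐ[k] Matrix (Fin t) (Fin t) B) := by
  classical
  haveI : NeZero n := ⟨hn⟩
  have hr0 : 0 < Module.finrank k K := Module.finrank_pos
  have hdimA : Module.finrank k A = n ^ 2 := by
    have h1 := e.toLinearEquiv.finrank_eq
    rw [Module.finrank_baseChange, Module.finrank_matrix, Fintype.card_fin,
      Module.finrank_self, mul_one] at h1
    rw [h1, sq]
  have hdimV : Module.finrank k (Fin n → K) = n * Module.finrank k K := by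
    rw [Module.finrank_pi_fintype]
    simp
  have hN0 : n * Module.finrank k K ≠ 0 := Nat.mul_ne_zero hn hr0.ne'
  haveI : NeZero (n * Module.finrank k K) := ⟨hN0⟩
  let bV := Module.finBasisOfFinrankEq k (Fin n → K) hdimV
  let eE : Module.End k (Fin n → K) ≃ₐ[k]
      Matrix (Fin (n * Module.finrank k K)) (Fin (n * Module.finrank k K)) k := algEquivMatrix bV
  haveI : IsSimpleRing (Module.End k (Fin n → K)) :=
    IsSimpleRing.of_ringEquiv eE.symm.toRingEquiv inferInstance
  have hdimE : Module.finrank k (Module.End k (Fin n → K)) = (n * Module.finrank k K) ^ 2 := by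
    rw [Module.finrank_linearMap, hdimV, sq]
  let φA : A →ₐ[k] Module.End k (Fin n → K) :=
    (matAct k K n).comp ((e.restrictScalars k).toAlgHom.comp Algebra.TensorProduct.includeRight)
  let ιK : K →ₐ[k] Module.End k (Fin n → K) := Algebra.lsmul k k (Fin n → K)
  have hcomm : ∀ (a : A) (c : K), φA a * ιK c = ιK c * φA a := by
    intro a c
    apply LinearMap.ext; intro v
    show Matrix.mulVec _ (c • v) = c • Matrix.mulVec _ v
    rw [Matrix.mulVec_smul]
  have hφinj : Function.Injective φA := RingHom.injective φA.toRingHom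
  let eA : A ≃ₐ[k] φA.range := AlgEquiv.ofInjective φA hφinj
  haveI : IsSimpleRing φA.range := IsSimpleRing.of_ringEquiv eA.toRingEquiv inferInstance
  haveI : Algebra.IsCentral k φA.range :=
    H6CSA.central_of_algEquiv (F := k) (D := A) (D' := φA.range) eA
  haveI := H6SN2.centralizer_simple φA.range
  haveI := centralizer_central φA.range
  have hfin := H6SN2.centralizer_finrank φA.range
  have hdimB : Module.finrank k (Subalgebra.centralizer k
      (φA.range : Set (Module.End k (Fin n → K)))) = Module.finrank k K ^ 2 := by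
    rw [hdimE, ← eA.toLinearEquiv.finrank_eq, hdimA] at hfin
    have h2 : n ^ 2 * Module.finrank k (Subalgebra.centralizer k
        (φA.range : Set (Module.End k (Fin n → K)))) = n ^ 2 * Module.finrank k K ^ 2 := by
      rw [← hfin]; ring
    exact Nat.eq_of_mul_eq_mul_left (by positivity) h2
  let ιB : K →ₐ[k] Subalgebra.centralizer k (φA.range : Set (Module.End k (Fin n → K))) :=
    AlgHom.codRestrict ιK _ (fun c => by
      rw [Subalgebra.mem_centralizer_iff k]
      intro g hg
      obtain ⟨a, rfl⟩ := (AlgHom.mem_range φA).mp hg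
      exact hcomm a c)
  let eT : φA.range ⊗[k] Subalgebra.centralizer k
      (φA.range : Set (Module.End k (Fin n → K))) ≃ₐ[k] Module.End k (Fin n → K) :=
    AlgEquiv.ofBijective _ (Groth.Agent.S0194.result k (Module.End k (Fin n → K)) φA.range)
  obtain ⟨C, instR, instA, ⟨θ⟩⟩ : ∃ (C : Type v) (_ : Ring C) (_ : Algebra k C),
      Nonempty (C ≃ₐ[k] ↥(Subalgebra.centralizer k
        (φA.range : Set (Module.End k (Fin n → K))))) :=
    ⟨↥(Subalgebra.centralizer k (φA.range : Set (Module.End k (Fin n → K)))),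
      Subalgebra.toRing _, Subalgebra.algebra _, ⟨AlgEquiv.refl⟩⟩
  haveI : IsSimpleRing C := IsSimpleRing.of_ringEquiv
    (R := ↥(Subalgebra.centralizer k (φA.range : Set (Module.End k (Fin n → K)))))
    θ.symm.toRingEquiv inferInstance
  haveI : Algebra.IsCentral k C := H6CSA.central_of_algEquiv (F := k)
    (D := ↥(Subalgebra.centralizer k (φA.range : Set (Module.End k (Fin n → K))))) (D' := C) θ.symm
  haveI : FiniteDimensional k C := Module.Finite.equiv θ.symm.toLinearEquiv
  have hdimC : Module.finrank k C = Module.finrank k K ^ 2 := by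
    rw [θ.toLinearEquiv.finrank_eq, hdimB]
  let ιC : K →ₐ[k] C := θ.symm.toAlgHom.comp ιB
  let ιCop : K →ₐ[k] Cᵐᵒᵖ :=
    ιC.toOpposite (fun x y => by
      show ιC x * ιC y = ιC y * ιC x
      rw [← map_mul, ← map_mul, mul_comm])
  let e0 : A ⊗[k] C ≃ₐ[k]
      Matrix (Fin (n * Module.finrank k K)) (Fin (n * Module.finrank k K)) k :=
    (Algebra.TensorProduct.congr eA θ).trans (eT.trans eE)
  obtain ⟨eBr⟩ := brauer_inverse (n * Module.finrank k K) e0
  refine ⟨Cᵐᵒᵖ, inferInstance, inferInstance, inferInstance, inferInstance, ?_, ?_, ⟨ιCop⟩,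
    _, _, ?_, hN0, ⟨eBr⟩⟩
  · exact Module.Finite.equiv (MulOpposite.opLinearEquiv k)
  · rw [← (MulOpposite.opLinearEquiv k (M := C)).finrank_eq, hdimC]
  · rw [hdimC]
    positivity

/-- Version of `exists_embedding_of_splits` with `B` in the universe of `A`. -/
theorem exists_embedding_of_splits' {k : Type u} [Field k] {K : Type v} [Field K] [Algebra k K]
    [FiniteDimensional k K] {A : Type w} [Ring A] [Algebra k A] [Algebra.IsCentral k A]
    [IsSimpleRing A] [FiniteDimensional k A] (n : ℕ) (hn : n ≠ 0)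
    (e : K ⊗[k] A ≃ₐ[K] Matrix (Fin n) (Fin n) K) :
    ∃ (B : Type w) (_ : Ring B) (_ : Algebra k B), Algebra.IsCentral k B ∧ IsSimpleRing B ∧
      FiniteDimensional k B ∧ Module.finrank k B = Module.finrank k K ^ 2 ∧
      Nonempty (K →ₐ[k] B) ∧ ∃ s t : ℕ, s ≠ 0 ∧ t ≠ 0 ∧
        Nonempty (Matrix (Fin s) (Fin s) A ≃ₐ[k] Matrix (Fin t) (Fin t) B) := by
  classical
  obtain ⟨B₀, instR, instA, hcen, hsim, hfin, hdim, ⟨ι⟩, s, t, hs, ht, ⟨eBr⟩⟩ :=
    exists_embedding_of_splits n hn e
  haveI : Small.{w} B₀ := small_of_finite (k := k) A B₀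
  let θ : Shrink.{w} B₀ ≃ₐ[k] B₀ := Shrink.algEquiv k B₀
  refine ⟨Shrink.{w} B₀, inferInstance, inferInstance, ?_, ?_, ?_, ?_, ⟨θ.symm.toAlgHom.comp ι⟩,
    s, t, hs, ht, ⟨eBr.trans (AlgEquiv.mapMatrix θ.symm)⟩⟩
  · exact H6CSA.central_of_algEquiv (F := k) (D := B₀) (D' := Shrink.{w} B₀) θ.symm
  · exact IsSimpleRing.of_ringEquiv (R := B₀) θ.symm.toRingEquiv inferInstance
  · exact Module.Finite.equiv θ.symm.toLinearEquiv
  · rw [θ.toLinearEquiv.finrank_eq, hdim]

theorem central_of_matrix_central {k : Type u} [Field k] {D : Type v} [Ring D] [Algebra k D]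
    (a : ℕ) [NeZero a] [Algebra.IsCentral k (Matrix (Fin a) (Fin a) D)] :
    Algebra.IsCentral k D := by
  refine ⟨fun z hz => ?_⟩
  rw [Subalgebra.mem_center_iff] at hz
  have h1 : Matrix.scalar (Fin a) z ∈ Subalgebra.center k (Matrix (Fin a) (Fin a) D) := by
    rw [Subalgebra.mem_center_iff]
    intro M
    ext i j
    simp [Matrix.scalar_apply, Matrix.mul_diagonal, Matrix.diagonal_mul, hz (M i j)]
  obtain ⟨c, hc⟩ := Algebra.mem_bot.mp (Algebra.IsCentral.out h1)
  rw [Algebra.mem_bot]
  refine ⟨c, ?_⟩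
  have h2 := congrFun (congrFun hc 0) 0
  simpa [Matrix.algebraMap_matrix_apply] using h2

/-- Brauer equivalent central simple algebras of the same dimension are isomorphic. -/
theorem algEquiv_of_brauer_of_finrank_eq {k : Type u} [Field k] {A : Type v} [Ring A]
    [Algebra k A] [Algebra.IsCentral k A] [IsSimpleRing A] [FiniteDimensional k A]
    {B : Type w} [Ring B] [Algebra k B] [Algebra.IsCentral k B] [IsSimpleRing B]
    [FiniteDimensional k B] (s t : ℕ) (hs : s ≠ 0) (ht : t ≠ 0)
    (e : Matrix (Fin s) (Fin s) A ≃ₐ[k] Matrix (Fin t) (Fin t) B)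
    (hdim : Module.finrank k A = Module.finrank k B) : Nonempty (A ≃ₐ[k] B) := by
  classical
  haveI : IsArtinianRing A := IsArtinianRing.of_finite k A
  haveI : IsArtinianRing B := IsArtinianRing.of_finite k B
  obtain ⟨a, ha, D, _, _, _, ⟨eA⟩⟩ := IsSimpleRing.exists_algEquiv_matrix_divisionRing_finite k A
  obtain ⟨b, hb, D', _, _, _, ⟨eB⟩⟩ := IsSimpleRing.exists_algEquiv_matrix_divisionRing_finite k B
  haveI : Algebra.IsCentral k (Matrix (Fin a) (Fin a) D) :=
    H6CSA.central_of_algEquiv (F := k) (D := A) eA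
  haveI : Algebra.IsCentral k D := central_of_matrix_central a
  haveI : Algebra.IsCentral k (Matrix (Fin b) (Fin b) D') :=
    H6CSA.central_of_algEquiv (F := k) (D := B) eB
  haveI : Algebra.IsCentral k D' := central_of_matrix_central b
  have ha0 : a ≠ 0 := NeZero.ne a
  have hb0 : b ≠ 0 := NeZero.ne b
  let f1 : Matrix (Fin s) (Fin s) A ≃ₐ[k] Matrix (Fin (s * a)) (Fin (s * a)) D :=
    (eA.mapMatrix (m := Fin s)).trans ((Matrix.compAlgEquiv (Fin s) (Fin a) D k).trans
      (Matrix.reindexAlgEquiv k D finProdFinEquiv))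
  let f2 : Matrix (Fin t) (Fin t) B ≃ₐ[k] Matrix (Fin (t * b)) (Fin (t * b)) D' :=
    (eB.mapMatrix (m := Fin t)).trans ((Matrix.compAlgEquiv (Fin t) (Fin b) D' k).trans
      (Matrix.reindexAlgEquiv k D' finProdFinEquiv))
  obtain ⟨δ⟩ := Groth.Agent.S0193.result k D D' (s * a) (t * b) (Nat.mul_ne_zero hs ha0)
    (Nat.mul_ne_zero ht hb0) (f1.symm.trans (e.trans f2))
  have hab : a = b := by
    have h1 := eA.toLinearEquiv.finrank_eq
    have h2 := eB.toLinearEquiv.finrank_eq
    rw [Module.finrank_matrix, Fintype.card_fin] at h1 h2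
    rw [← δ.toLinearEquiv.finrank_eq] at h2
    have hD : 0 < Module.finrank k D := Module.finrank_pos
    have h3 : a * a * Module.finrank k D = b * b * Module.finrank k D := by
      rw [← h1, ← h2, hdim]
    have h4 : a * a = b * b := Nat.eq_of_mul_eq_mul_right hD h3
    exact Nat.mul_self_inj.mp h4
  subst hab
  exact ⟨eA.trans ((δ.mapMatrix (m := Fin a)).trans eB.symm)⟩

theorem baseChange_matrix_equiv {k : Type u} [Field k] (K : Type v) [Field K] [Algebra k K]
    (B : Type w) [Ring B] [Algebra k B] [Algebra.IsCentral k B] [IsSimpleRing B]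
    [FiniteDimensional k B] (t : ℕ) [NeZero t] :
    Nonempty (K ⊗[k] Matrix (Fin t) (Fin t) B ≃ₐ[K] Matrix (Fin t) (Fin t) (K ⊗[k] B)) := by
  classical
  let g : Matrix (Fin t) (Fin t) B →ₐ[k] Matrix (Fin t) (Fin t) (K ⊗[k] B) :=
    (Algebra.TensorProduct.includeRight : B →ₐ[k] K ⊗[k] B).mapMatrix
  let F : K ⊗[k] Matrix (Fin t) (Fin t) B →ₐ[K] Matrix (Fin t) (Fin t) (K ⊗[k] B) :=
    Algebra.TensorProduct.lift (Algebra.ofId K _) g
      (fun c M => Algebra.commute_algebraMap_left c (g M))
  haveI : IsSimpleRing (K ⊗[k] Matrix (Fin t) (Fin t) B) :=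
    H6CSA.simple_tensor (K := k) (L := K) (A := Matrix (Fin t) (Fin t) B)
  haveI : IsSimpleRing (K ⊗[k] B) := H6CSA.simple_tensor (K := k) (L := K) (A := B)
  have hinj : Function.Injective F := RingHom.injective F.toRingHom
  have hdim : Module.finrank K (K ⊗[k] Matrix (Fin t) (Fin t) B) =
      Module.finrank K (Matrix (Fin t) (Fin t) (K ⊗[k] B)) := by
    rw [Module.finrank_baseChange, Module.finrank_matrix, Module.finrank_matrix,
      Module.finrank_baseChange]
  have hsurj : Function.Surjective F :=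
    (LinearMap.injective_iff_surjective_of_finrank_eq_finrank (f := F.toLinearMap) hdim).mp hinj
  exact ⟨AlgEquiv.ofBijective F ⟨hinj, hsurj⟩⟩

/-- Splitting by `K` is invariant under Brauer equivalence. -/
theorem splits_of_brauer {k : Type u} [Field k] {K : Type v} [Field K] [Algebra k K]
    {A : Type w} [Ring A] [Algebra k A] [Algebra.IsCentral k A] [IsSimpleRing A]
    [FiniteDimensional k A] {B : Type*} [Ring B] [Algebra k B] [Algebra.IsCentral k B]
    [IsSimpleRing B] [FiniteDimensional k B] (s t : ℕ) (hs : s ≠ 0) (ht : t ≠ 0)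
    (f : Matrix (Fin s) (Fin s) A ≃ₐ[k] Matrix (Fin t) (Fin t) B) (r : ℕ) (hr : r ≠ 0)
    (eB : K ⊗[k] B ≃ₐ[K] Matrix (Fin r) (Fin r) K) :
    ∃ c : ℕ, c ≠ 0 ∧ Nonempty (K ⊗[k] A ≃ₐ[K] Matrix (Fin c) (Fin c) K) := by
  classical
  haveI : NeZero s := ⟨hs⟩
  haveI : NeZero t := ⟨ht⟩
  haveI : NeZero r := ⟨hr⟩
  obtain ⟨i_s⟩ := baseChange_matrix_equiv (k := k) K A s
  obtain ⟨i_t⟩ := baseChange_matrix_equiv (k := k) K B t
  haveI : IsSimpleRing (K ⊗[k] A) := H6CSA.simple_tensor (K := k) (L := K) (A := A)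
  haveI : Algebra.IsCentral K (K ⊗[k] A) := H6CSA.central_tensor (K := k) (L := K) (A := A)
  haveI : IsArtinianRing (K ⊗[k] A) := IsArtinianRing.of_finite K _
  obtain ⟨c, hc, D, _, _, _, ⟨eW⟩⟩ :=
    IsSimpleRing.exists_algEquiv_matrix_divisionRing_finite K (K ⊗[k] A)
  haveI : Algebra.IsCentral K (Matrix (Fin c) (Fin c) D) :=
    H6CSA.central_of_algEquiv (F := K) (D := K ⊗[k] A) eW
  haveI : Algebra.IsCentral K D := central_of_matrix_central c
  have hc0 : c ≠ 0 := NeZero.ne c
  let g1 : Matrix (Fin (s * c)) (Fin (s * c)) D ≃ₐ[K] Matrix (Fin (t * r)) (Fin (t * r)) K :=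
    (Matrix.reindexAlgEquiv K D finProdFinEquiv).symm.trans
      ((Matrix.compAlgEquiv (Fin s) (Fin c) D K).symm.trans
        ((eW.mapMatrix (m := Fin s)).symm.trans
          (i_s.symm.trans
            ((Algebra.TensorProduct.congr AlgEquiv.refl f).trans
              (i_t.trans
                ((eB.mapMatrix (m := Fin t)).trans
                  ((Matrix.compAlgEquiv (Fin t) (Fin r) K K).trans
                    (Matrix.reindexAlgEquiv K K finProdFinEquiv))))))))
  obtain ⟨δ⟩ := Groth.Agent.S0193.result K D K (s * c) (t * r) (Nat.mul_ne_zero hs hc0)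
    (Nat.mul_ne_zero ht hr) g1
  exact ⟨c, hc0, ⟨eW.trans (δ.mapMatrix (m := Fin c))⟩⟩

end H6Br
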