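import Mathlib
import Groth.Agent.Lib.helper6.BrauerBasics
import Groth.Agent.S0196

/-! Maximal subfields, index divides degree of splitting field (universe polymorphic),
cancellation of base change for central simple algebras. -/

namespace H6Br2

open scoped TensorProduct

universe u v w

/-- A central division algebra of dimension `d^2` contains a subfield of degree `d`. -/
theorem exists_maxsubfield {k : Type u} [Field k] {D : Type v} [DivisionRing D] [Algebra k D]
    [Algebra.IsCentral k D] [FiniteDimensional k D] (d : ℕ) (hd : Module.finrank k D = d ^ 2) :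
    ∃ (L : Type v) (_ : Field L) (_ : Algebra k L), Module.finrank k L = d ∧
      Nonempty (L →ₐ[k] D) := by
  classical
  let P : ℕ → Prop := fun n => ∃ L : Subalgebra k D,
    (∀ x ∈ L, ∀ y ∈ L, x * y = y * x) ∧ n ≤ Module.finrank k L
  have hP0 : P 0 := by
    refine ⟨⊥, ?_, Nat.zero_le _⟩
    intro x hx y hy
    obtain ⟨a, rfl⟩ := Algebra.mem_bot.mp hx
    exact Algebra.commutes a y
  have hPle : ∀ n, P n → n ≤ Module.finrank k D := by
    rintro n ⟨L, -, hn⟩
    refine hn.trans ?_
    rw [← Subalgebra.finrank_toSubmodule]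
    exact Submodule.finrank_le _
  obtain ⟨L, hcomm, hN⟩ : P (Nat.findGreatest P (Module.finrank k D)) :=
    Nat.findGreatest_spec (P := P) (Nat.zero_le _) hP0
  have hmax : ∀ L' : Subalgebra k D, (∀ x ∈ L', ∀ y ∈ L', x * y = y * x) → L ≤ L' → L' = L := by
    intro L' hcomm' hle
    have h1 : Module.finrank k L ≤ Module.finrank k L' := by
      rw [← Subalgebra.finrank_toSubmodule, ← Subalgebra.finrank_toSubmodule L']
      exact Submodule.finrank_mono (Subalgebra.toSubmodule.monotone hle)
    have h2 : Module.finrank k L' ≤ Nat.findGreatest P (Module.finrank k D) := by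
      by_contra hlt
      rw [not_le] at hlt
      exact Nat.findGreatest_is_greatest hlt (hPle _ ⟨L', hcomm', le_refl _⟩)
        ⟨L', hcomm', le_refl _⟩
    symm
    exact Subalgebra.eq_of_le_of_finrank_eq hle (le_antisymm h1 (h2.trans hN))
  have hsq := Groth.Agent.S0196.result k D L hcomm hmax
  have hdeg : Module.finrank k L = d := by
    rw [hd] at hsq
    exact (Nat.pow_left_injective two_ne_zero hsq).symm
  letI instC : CommRing L :=
    { (inferInstance : Ring L) with
      mul_comm := fun x y => Subtype.ext (hcomm x.1 x.2 y.1 y.2) }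
  haveI : Algebra.IsIntegral k L := Algebra.IsIntegral.of_finite k L
  have hF : IsField L := isField_of_isIntegral_of_isField' (Field.toIsField k)
  letI instF : Field L := hF.toField
  letI instAlg : Algebra k L := Subalgebra.algebra L
  exact ⟨L, instF, instAlg, hdeg, ⟨L.val⟩⟩

/-- If `k'` splits the central division algebra `D` of dimension `d^2` then `d ∣ [k' : k]`. -/
theorem index_dvd_of_splits {k : Type u} [Field k]
    {D : Type v} [DivisionRing D] [Algebra k D] [Algebra.IsCentral k D] [FiniteDimensional k D]
    (d : ℕ) (hd : Module.finrank k D = d ^ 2)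
    {k' : Type w} [Field k'] [Algebra k k'] [FiniteDimensional k k'] (n : ℕ)
    (e : k' ⊗[k] D ≃ₐ[k'] Matrix (Fin n) (Fin n) k') :
    d ∣ Module.finrank k k' := by
  classical
  have hd0 : 0 < d := by
    rcases Nat.eq_zero_or_pos d with h | h
    · exfalso
      rw [h] at hd
      have := Module.finrank_pos (R := k) (M := D)
      omega
    · exact h
  have hnd : n = d := by
    have h1 := e.toLinearEquiv.finrank_eq
    rw [Module.finrank_baseChange, hd, Module.finrank_matrix, Fintype.card_fin,
      Module.finrank_self, mul_one] at h1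
    have h2 : d ^ 2 = n ^ 2 := by rw [h1, sq]
    exact (Nat.pow_left_injective two_ne_zero h2).symm
  subst hnd
  let φ : D →ₐ[k] Matrix (Fin n) (Fin n) k' :=
    (e.restrictScalars k).toAlgHom.comp (Algebra.TensorProduct.includeRight)
  let F : D →+* Module.End k' (Fin n → k') :=
    (Matrix.toLinAlgEquiv' (R := k') (n := Fin n)).toRingEquiv.toRingHom.comp φ.toRingHom
  letI : Module D (Fin n → k') := Module.compHom (Fin n → k') F
  have smul_def : ∀ (x : D) (v : Fin n → k'), x • v = Matrix.mulVec (φ x) v := fun x v => rfl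
  haveI : IsScalarTower k D (Fin n → k') := ⟨fun c x v => by
    rw [smul_def, smul_def, map_smul, Matrix.smul_mulVec]⟩
  have h := Module.finrank_mul_finrank k D (Fin n → k')
  have hV : Module.finrank k (Fin n → k') = n * Module.finrank k k' := by
    rw [Module.finrank_pi_fintype]
    simp
  rw [hd, hV] at h
  refine ⟨Module.finrank D (Fin n → k'), ?_⟩
  have h3 : n * (n * Module.finrank D (Fin n → k')) = n * Module.finrank k k' := by
    rw [← h]; ring
  exact (Nat.eq_of_mul_eq_mul_left hd0 h3).symm

/-- `L ⊗[K] (K ⊗[k] A) ≃ L ⊗[k] A` for a central simple algebra `A`. -/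
theorem cancel_baseChange {k : Type u} [Field k] {K : Type v} [Field K] [Algebra k K]
    {L : Type w} [Field L] [Algebra K L] [Algebra k L] [IsScalarTower k K L]
    (A : Type*) [Ring A] [Algebra k A] [Algebra.IsCentral k A] [IsSimpleRing A]
    [FiniteDimensional k A] :
    Nonempty (L ⊗[K] (K ⊗[k] A) ≃ₐ[L] L ⊗[k] A) := by
  classical
  haveI : IsSimpleRing (K ⊗[k] A) := H6CSA.simple_tensor (K := k) (L := K) (A := A)
  haveI : Algebra.IsCentral K (K ⊗[k] A) := H6CSA.central_tensor (K := k) (L := K) (A := A)
  haveI : IsSimpleRing (L ⊗[K] (K ⊗[k] A)) :=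
    H6CSA.simple_tensor (K := K) (L := L) (A := K ⊗[k] A)
  let g : K ⊗[k] A →ₐ[K] L ⊗[k] A :=
    Algebra.TensorProduct.map (Algebra.ofId K L) (AlgHom.id k A)
  let G : L ⊗[K] (K ⊗[k] A) →ₐ[L] L ⊗[k] A :=
    Algebra.TensorProduct.lift (Algebra.ofId L (L ⊗[k] A)) g
      (fun x y => Algebra.commute_algebraMap_left x (g y))
  have hdim : Module.finrank L (L ⊗[K] (K ⊗[k] A)) = Module.finrank L (L ⊗[k] A) := by
    rw [Module.finrank_baseChange, Module.finrank_baseChange, Module.finrank_baseChange]
  haveI : Nontrivial (L ⊗[k] A) := by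
    apply Module.nontrivial_of_finrank_pos (R := L)
    rw [Module.finrank_baseChange]
    exact Module.finrank_pos
  have hinj : Function.Injective G := RingHom.injective G.toRingHom
  have hsurj : Function.Surjective G :=
    (LinearMap.injective_iff_surjective_of_finrank_eq_finrank (f := G.toLinearMap) hdim).mp hinj
  exact ⟨AlgEquiv.ofBijective G ⟨hinj, hsurj⟩⟩

end H6Br2
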