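import Mathlib
import Groth.Agent.Lib.helper6.EndStruct

/-! Cyclic maximal subfields of central simple algebras (via Skolem–Noether). -/

namespace H6Cyc
open H6SN2

universe u v w
variable {k : Type u} [Field k] {A : Type v} [Ring A] [Algebra k A]
  [Algebra.IsCentral k A] [IsSimpleRing A] [FiniteDimensional k A]
  {K : Type w} [Field K] [Algebra k K]

/-- A subfield of degree `m` in a central simple algebra of dimension `m^2` is its own centralizer. -/
theorem centralizer_range_eq (ι : K →ₐ[k] A) (m : ℕ) (hm : 0 < m)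
    (hA : Module.finrank k A = m ^ 2) (hK : Module.finrank k K = m) :
    Subalgebra.centralizer k (ι.range : Set A) = ι.range := by
  have hinj : Function.Injective ι := ι.toRingHom.injective
  let e : K ≃ₐ[k] ι.range := AlgEquiv.ofInjective ι hinj
  haveI : IsSimpleRing ι.range := IsSimpleRing.of_ringEquiv e.toRingEquiv inferInstance
  have h1 := centralizer_finrank (k := k) (A := A) ι.range
  have h2 : Module.finrank k ι.range = m := by rw [← e.toLinearEquiv.finrank_eq, hK]
  rw [hA, h2, sq] at h1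
  have h3 : Module.finrank k (Subalgebra.centralizer k (ι.range : Set A)) = m :=
    (Nat.eq_of_mul_eq_mul_left hm h1).symm
  symm
  apply Subalgebra.eq_of_le_of_finrank_eq
  · intro z hz
    rw [Subalgebra.mem_centralizer_iff k]
    intro g hg
    obtain ⟨b, rfl⟩ := (AlgHom.mem_range ι).mp hg
    obtain ⟨c, rfl⟩ := (AlgHom.mem_range ι).mp hz
    rw [← map_mul, ← map_mul, mul_comm]
  · rw [h2, h3]

theorem cyclic_conj (ι : K →ₐ[k] A) [FiniteDimensional k K] [IsGalois k K] (m : ℕ)
    (hA : Module.finrank k A = m ^ 2) (hK : Module.finrank k K = m)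
    (σ : K ≃ₐ[k] K) (hσ : ∀ τ : K ≃ₐ[k] K, τ ∈ Subgroup.zpowers σ) :
    ∃ y : Aˣ, (∀ x : K, ι x * y = y * ι (σ x)) ∧
      (∀ (n : ℕ) (x : K), ι x * (y : A) ^ n = (y : A) ^ n * ι ((σ ^ n) x)) ∧
      (∃ b : k, (y : A) ^ m = algebraMap k A b) := by
  have hm : 0 < m := hK ▸ Module.finrank_pos
  have hinj : Function.Injective ι := ι.toRingHom.injective
  obtain ⟨y, hy⟩ := skolem_noether (k := k) ι (ι.comp (σ : K →ₐ[k] K))
  have hy' : ∀ x : K, ι x * y = y * ι (σ x) := by
    intro x
    have h := hy x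
    have h2 : (ι.comp (σ : K →ₐ[k] K)) x = ι (σ x) := rfl
    rw [h2] at h
    rw [h, mul_assoc, Units.inv_mul, mul_one]
  have hpow : ∀ (n : ℕ) (x : K), ι x * (y : A) ^ n = (y : A) ^ n * ι ((σ ^ n) x) := by
    intro n
    induction n with
    | zero => intro x; simp
    | succ n ih =>
      intro x
      calc ι x * (y : A) ^ (n + 1) = (ι x * (y : A) ^ n) * y := by rw [pow_succ, mul_assoc]
        _ = (y : A) ^ n * (ι ((σ ^ n) x) * y) := by rw [ih x, mul_assoc]
        _ = (y : A) ^ n * (y * ι (σ ((σ ^ n) x))) := by rw [hy']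
        _ = (y : A) ^ (n + 1) * ι ((σ ^ (n + 1)) x) := by
          rw [pow_succ (y : A) n, mul_assoc, pow_succ' σ n, AlgEquiv.mul_apply]
  refine ⟨y, hy', hpow, ?_⟩
  have hcard : Nat.card (K ≃ₐ[k] K) = m := by rw [IsGalois.card_aut_eq_finrank, hK]
  have hσm : σ ^ m = 1 := by rw [← hcard]; exact pow_card_eq_one'
  have hmem : (y : A) ^ m ∈ Subalgebra.centralizer k (ι.range : Set A) := by
    rw [Subalgebra.mem_centralizer_iff k]
    intro g hg
    obtain ⟨b, rfl⟩ := (AlgHom.mem_range ι).mp hg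
    rw [hpow m b, hσm, AlgEquiv.one_apply]
  rw [centralizer_range_eq ι m hm hA hK] at hmem
  obtain ⟨ℓ₀, hℓ₀⟩ := (AlgHom.mem_range ι).mp hmem
  have hσℓ : σ ℓ₀ = ℓ₀ := by
    apply hinj
    have h1 := hy' ℓ₀
    rw [hℓ₀, (pow_succ (y : A) m).symm.trans (pow_succ' (y : A) m), ← hℓ₀] at h1
    exact ((Units.mul_right_inj y).mp h1).symm
  have hfix : ∀ τ : K ≃ₐ[k] K, τ ℓ₀ = ℓ₀ := by
    intro τ
    have h1 : Subgroup.zpowers σ ≤ MulAction.stabilizer (K ≃ₐ[k] K) ℓ₀ := by
      rw [Subgroup.zpowers_le]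
      exact hσℓ
    exact h1 (hσ τ)
  have hbot := (IsGalois.mem_bot_iff_fixed ℓ₀).mpr hfix
  obtain ⟨b, hb⟩ := IntermediateField.mem_bot.mp hbot
  exact ⟨b, by rw [← hℓ₀, ← hb, AlgHom.commutes]⟩

theorem cyclic_generate (ι : K →ₐ[k] A) [FiniteDimensional k K] [IsGalois k K] (m : ℕ)
    (hA : Module.finrank k A = m ^ 2) (hK : Module.finrank k K = m)
    (σ : K ≃ₐ[k] K) (hσ : ∀ τ : K ≃ₐ[k] K, τ ∈ Subgroup.zpowers σ)
    (y : Aˣ) (hpow : ∀ (n : ℕ) (x : K), ι x * (y : A) ^ n = (y : A) ^ n * ι ((σ ^ n) x)) :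
    Algebra.adjoin k (Set.range ι ∪ {(y : A)}) = ⊤ := by
  classical
  have hm : 0 < m := hK ▸ Module.finrank_pos
  have hinj : Function.Injective ι := ι.toRingHom.injective
  letI modKA : Module K A := Module.compHom A ι.toRingHom
  have smul_def : ∀ (c : K) (a : A), c • a = ι c * a := fun c a => rfl
  haveI : IsScalarTower k K A := ⟨fun c x a => by
    rw [smul_def, smul_def, map_smul, smul_mul_assoc]⟩
  haveI : Module.Finite K A := Module.Finite.of_restrictScalars_finite k K A
  have hfr : Module.finrank K A = m := by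
    have h := Module.finrank_mul_finrank k K A
    rw [hK, hA, sq] at h
    exact Nat.eq_of_mul_eq_mul_left hm h
  obtain ⟨θ, hθ⟩ := Field.exists_primitive_element k K
  have hθ' : Algebra.adjoin k {θ} = ⊤ := by
    have h1 := IntermediateField.adjoin_simple_toSubalgebra_of_isAlgebraic (F := k) (α := θ)
      (Algebra.IsAlgebraic.isAlgebraic θ)
    rw [hθ, IntermediateField.top_toSubalgebra] at h1
    exact h1.symm
  have hdet : ∀ τ₁ τ₂ : K ≃ₐ[k] K, τ₁ θ = τ₂ θ → τ₁ = τ₂ := by
    intro τ₁ τ₂ h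
    have h2 : (τ₁ : K →ₐ[k] K) = (τ₂ : K →ₐ[k] K) := by
      apply AlgHom.ext_of_adjoin_eq_top hθ'
      intro x hx
      rw [Set.mem_singleton_iff] at hx
      subst hx
      exact h
    ext x
    exact DFunLike.congr_fun h2 x
  let R : Module.End K A :=
    { toFun := fun a => a * ι θ
      map_add' := fun a b => add_mul a b _
      map_smul' := fun c a => by simp only [smul_def, RingHom.id_apply, mul_assoc] }
  have hcard : Nat.card (K ≃ₐ[k] K) = m := by rw [IsGalois.card_aut_eq_finrank, hK]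
  have hord : orderOf σ = m := by
    rw [← Nat.card_zpowers, ← hcard]
    have h2 : Subgroup.zpowers σ = ⊤ := by
      rw [eq_top_iff]
      intro τ _
      exact hσ τ
    rw [h2]
    exact Subgroup.card_top
  let μ : Fin m → K := fun i => (σ ^ (i : ℕ)).symm θ
  have hμ : Function.Injective μ := by
    intro i j hij
    have h1 : (σ ^ (i : ℕ)).symm = (σ ^ (j : ℕ)).symm := hdet _ _ hij
    have h2 : σ ^ (i : ℕ) = σ ^ (j : ℕ) := by
      have h3 := congrArg AlgEquiv.symm h1
      simpa using h3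
    apply Fin.ext
    exact pow_injOn_Iio_orderOf (by rw [hord]; exact i.2) (by rw [hord]; exact j.2) h2
  let v : Fin m → A := fun i => (y : A) ^ (i : ℕ)
  have hv : ∀ i, R.HasEigenvector (μ i) (v i) := by
    intro i
    rw [Module.End.hasEigenvector_iff]
    refine ⟨?_, ?_⟩
    · rw [Module.End.mem_eigenspace_iff]
      show (y : A) ^ (i : ℕ) * ι θ = ι ((σ ^ (i : ℕ)).symm θ) * (y : A) ^ (i : ℕ)
      rw [hpow, AlgEquiv.apply_symm_apply]
    · show (y : A) ^ (i : ℕ) ≠ 0
      rw [← Units.val_pow_eq_pow_val]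
      exact Units.ne_zero _
  have hli : LinearIndependent K v := R.eigenvectors_linearIndependent' μ hμ v hv
  have hspan : Submodule.span K (Set.range v) = ⊤ :=
    hli.span_eq_top_of_card_eq_finrank' (by rw [Fintype.card_fin, hfr])
  rw [eq_top_iff]
  intro a _
  have ha : a ∈ Submodule.span K (Set.range v) := by rw [hspan]; trivial
  refine Submodule.span_induction
    (p := fun x _ => x ∈ Algebra.adjoin k (Set.range ι ∪ {(y : A)})) ?_ ?_ ?_ ?_ ha
  · rintro x ⟨i, rfl⟩
    show (y : A) ^ (i : ℕ) ∈ Algebra.adjoin k (Set.range ι ∪ {(y : A)})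
    have hy0 : (y : A) ∈ Algebra.adjoin k (Set.range ι ∪ {(y : A)}) :=
      Algebra.subset_adjoin (show (y : A) ∈ Set.range ι ∪ {(y : A)} from Or.inr rfl)
    exact Subalgebra.pow_mem _ hy0 _
  · show (0 : A) ∈ Algebra.adjoin k (Set.range ι ∪ {(y : A)})
    exact Subalgebra.zero_mem _
  · intro x z _ _ hx hz
    show x + z ∈ Algebra.adjoin k (Set.range ι ∪ {(y : A)})
    exact Subalgebra.add_mem _ hx hz
  · intro c x _ hx
    show c • x ∈ Algebra.adjoin k (Set.range ι ∪ {(y : A)})
    rw [smul_def]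
    have hc0 : ι c ∈ Algebra.adjoin k (Set.range ι ∪ {(y : A)}) :=
      Algebra.subset_adjoin (show ι c ∈ Set.range ι ∪ {(y : A)} from Or.inl ⟨c, rfl⟩)
    exact Subalgebra.mul_mem _ hc0 hx

/-- In a central division algebra of dimension `m^2`, every element has degree at most `m`. -/
theorem natDegree_minpoly_le {K : Type u} [Field K] {A : Type v} [DivisionRing A] [Algebra K A]
    [Algebra.IsCentral K A] [FiniteDimensional K A] (m : ℕ) (hA : Module.finrank K A = m ^ 2)
    (x : A) : (minpoly K x).natDegree ≤ m := by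
  classical
  let L : Subalgebra K A := Algebra.adjoin K {x}
  letI instC : CommRing L := Algebra.adjoinCommRingOfComm K (by
    intro a ha b hb
    rw [Set.mem_singleton_iff] at ha hb
    rw [ha, hb])
  haveI : Algebra.IsIntegral K L := Algebra.IsIntegral.of_finite K L
  have hF : IsField L := isField_of_isIntegral_of_isField' (Field.toIsField K)
  haveI hS : IsSimpleRing L := (isSimpleRing_iff_isField L).mpr hF
  have hle : Module.finrank K L ≤ m := by
    have h1 := H6SN2.centralizer_finrank (k := K) (A := A) L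
    have h2 : L ≤ Subalgebra.centralizer K (L : Set A) := by
      intro y hy
      rw [Subalgebra.mem_centralizer_iff K]
      intro g hg
      exact congrArg Subtype.val (mul_comm (⟨g, hg⟩ : L) ⟨y, hy⟩)
    have h3 : Module.finrank K L ≤ Module.finrank K (Subalgebra.centralizer K (L : Set A)) := by
      rw [← Subalgebra.finrank_toSubmodule,
        ← Subalgebra.finrank_toSubmodule (Subalgebra.centralizer K (L : Set A))]
      exact Submodule.finrank_mono (Subalgebra.toSubmodule.monotone h2)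
    rw [hA] at h1
    nlinarith
  let xL : L := ⟨x, Algebra.subset_adjoin rfl⟩
  have hmin : minpoly K xL = minpoly K x :=
    (minpoly.algHom_eq L.val Subtype.val_injective xL).symm
  rw [← hmin]
  exact (minpoly.natDegree_le xL).trans hle

lemma pow_rel {k : Type u} [Field k] {Q : Type v} [Ring Q] [Algebra k Q] {K : Type w} [Field K]
    [Algebra k K] (ι : K →ₐ[k] Q) (σ : K ≃ₐ[k] K) (y : Q)
    (hy : ∀ x : K, ι x * y = y * ι (σ x)) :
    ∀ (n : ℕ) (x : K), ι x * y ^ n = y ^ n * ι ((σ ^ n) x) := by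
  intro n
  induction n with
  | zero => intro x; simp
  | succ n ih =>
    intro x
    calc ι x * y ^ (n + 1) = (ι x * y ^ n) * y := by rw [pow_succ, mul_assoc]
      _ = y ^ n * (ι ((σ ^ n) x) * y) := by rw [ih x, mul_assoc]
      _ = y ^ n * (y * ι (σ ((σ ^ n) x))) := by rw [hy]
      _ = y ^ (n + 1) * ι ((σ ^ (n + 1)) x) := by
        rw [pow_succ y n, mul_assoc, pow_succ' σ n, AlgEquiv.mul_apply]

/-- Core structure of an algebra containing a cyclic Galois extension `K` and a unit `y`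
normalising it via a generator `σ`: the powers `y^i`, `i < m`, are left-`K`-independent. -/
theorem cyclic_core {k : Type u} [Field k] {Q : Type v} [Ring Q] [Algebra k Q] [Nontrivial Q]
    [FiniteDimensional k Q] {K : Type w} [Field K] [Algebra k K] [FiniteDimensional k K]
    [IsGalois k K] (ι : K →ₐ[k] Q) (m : ℕ) (hK : Module.finrank k K = m)
    (σ : K ≃ₐ[k] K) (hσ : ∀ τ : K ≃ₐ[k] K, τ ∈ Subgroup.zpowers σ) (y : Qˣ)
    (hpow : ∀ (n : ℕ) (x : K), ι x * (y : Q) ^ n = (y : Q) ^ n * ι ((σ ^ n) x)) :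
    (∀ c : Fin m → K, ∑ i, ι (c i) * (y : Q) ^ (i : ℕ) = 0 → ∀ i, c i = 0) ∧
    m * m ≤ Module.finrank k Q ∧
    (Module.finrank k Q = m * m →
      ∀ z : Q, ∃ c : Fin m → K, z = ∑ i, ι (c i) * (y : Q) ^ (i : ℕ)) ∧
    ∃ θ : K, ∀ i : Fin m, (i : ℕ) ≠ 0 → (σ ^ (i : ℕ)).symm θ ≠ θ := by
  classical
  have hm : 0 < m := hK ▸ Module.finrank_pos
  letI modKA : Module K Q := Module.compHom Q ι.toRingHom
  have smul_def : ∀ (c : K) (a : Q), c • a = ι c * a := fun c a => rfl
  haveI : IsScalarTower k K Q := ⟨fun c x a => by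
    rw [smul_def, smul_def, map_smul, smul_mul_assoc]⟩
  haveI : Module.Finite K Q := Module.Finite.of_restrictScalars_finite k K Q
  have htower := Module.finrank_mul_finrank k K Q
  rw [hK] at htower
  obtain ⟨θ, hθ⟩ := Field.exists_primitive_element k K
  have hθ' : Algebra.adjoin k {θ} = ⊤ := by
    have h1 := IntermediateField.adjoin_simple_toSubalgebra_of_isAlgebraic (F := k) (α := θ)
      (Algebra.IsAlgebraic.isAlgebraic θ)
    rw [hθ, IntermediateField.top_toSubalgebra] at h1
    exact h1.symm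
  have hdet : ∀ τ₁ τ₂ : K ≃ₐ[k] K, τ₁ θ = τ₂ θ → τ₁ = τ₂ := by
    intro τ₁ τ₂ h
    have h2 : (τ₁ : K →ₐ[k] K) = (τ₂ : K →ₐ[k] K) := by
      apply AlgHom.ext_of_adjoin_eq_top hθ'
      intro x hx
      rw [Set.mem_singleton_iff] at hx
      subst hx
      exact h
    ext x
    exact DFunLike.congr_fun h2 x
  let R : Module.End K Q :=
    { toFun := fun a => a * ι θ
      map_add' := fun a b => add_mul a b _
      map_smul' := fun c a => by simp only [smul_def, RingHom.id_apply, mul_assoc] }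
  have hcard : Nat.card (K ≃ₐ[k] K) = m := by rw [IsGalois.card_aut_eq_finrank, hK]
  have hord : orderOf σ = m := by
    rw [← Nat.card_zpowers, ← hcard]
    have h2 : Subgroup.zpowers σ = ⊤ := by
      rw [eq_top_iff]
      intro τ _
      exact hσ τ
    rw [h2]
    exact Subgroup.card_top
  let μ : Fin m → K := fun i => (σ ^ (i : ℕ)).symm θ
  have hμ : Function.Injective μ := by
    intro i j hij
    have h1 : (σ ^ (i : ℕ)).symm = (σ ^ (j : ℕ)).symm := hdet _ _ hij
    have h2 : σ ^ (i : ℕ) = σ ^ (j : ℕ) := by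
      have h3 := congrArg AlgEquiv.symm h1
      simpa using h3
    apply Fin.ext
    exact pow_injOn_Iio_orderOf (by rw [hord]; exact i.2) (by rw [hord]; exact j.2) h2
  let v : Fin m → Q := fun i => (y : Q) ^ (i : ℕ)
  have hv : ∀ i, R.HasEigenvector (μ i) (v i) := by
    intro i
    rw [Module.End.hasEigenvector_iff]
    refine ⟨?_, ?_⟩
    · rw [Module.End.mem_eigenspace_iff]
      show (y : Q) ^ (i : ℕ) * ι θ = ι ((σ ^ (i : ℕ)).symm θ) * (y : Q) ^ (i : ℕ)
      rw [hpow, AlgEquiv.apply_symm_apply]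
    · show (y : Q) ^ (i : ℕ) ≠ 0
      rw [← Units.val_pow_eq_pow_val]
      exact Units.ne_zero _
  have hli : LinearIndependent K v := R.eigenvectors_linearIndependent' μ hμ v hv
  have hcardle : m ≤ Module.finrank K Q := by
    have h5 := hli.fintype_card_le_finrank
    simpa using h5
  refine ⟨?_, ?_, ?_, θ, ?_⟩
  · intro c hc
    exact (Fintype.linearIndependent_iff.mp hli) c hc
  · rw [← htower]
    exact Nat.mul_le_mul_left m hcardle
  · intro hdim z
    have hfr : Module.finrank K Q = m := by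
      rw [← htower] at hdim
      exact Nat.eq_of_mul_eq_mul_left hm hdim
    have hspan : Submodule.span K (Set.range v) = ⊤ :=
      hli.span_eq_top_of_card_eq_finrank' (by rw [Fintype.card_fin, hfr])
    have hz : z ∈ Submodule.span K (Set.range v) := by rw [hspan]; trivial
    obtain ⟨c, hc⟩ := (Submodule.mem_span_range_iff_exists_fun K).mp hz
    exact ⟨c, hc.symm⟩
  · intro i hi h
    have h0 : μ i = μ ⟨0, hm⟩ := by
      show (σ ^ (i : ℕ)).symm θ = (σ ^ 0).symm θ
      rw [h, pow_zero]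
      rfl
    exact hi (congrArg Fin.val (hμ h0))

end H6Cyc
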