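import Mathlib
import Groth.Agent.Lib.helper6.CyclicSN

/-! Explicit matrix model of a cyclic algebra. -/

namespace H6CycMat

open Matrix

universe u v

section Vec

variable {K : Type v} [Field K]

/-- ℕ-indexed standard vectors -/
def e (m : ℕ) (j : ℕ) : Fin m → K := fun i => if i.val = j then 1 else 0

/-- the weighted cyclic shift matrix -/
def Fm (m : ℕ) (β : K) : Matrix (Fin m) (Fin m) K :=
  Matrix.of (fun i j : Fin m =>
    if j.val + 1 = i.val then (1 : K) else if i.val = 0 ∧ j.val + 1 = m then β else 0)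

lemma mulVec_e {m : ℕ} (N : Matrix (Fin m) (Fin m) K) (j : ℕ) (hj : j < m) :
    N.mulVec (e m j) = fun i => N i ⟨j, hj⟩ := by
  funext i
  simp only [Matrix.mulVec, dotProduct, e]
  rw [Finset.sum_eq_single_of_mem (⟨j, hj⟩ : Fin m) (Finset.mem_univ _)]
  · simp
  · intro l _ hl
    rw [if_neg (fun h => hl (Fin.ext h)), mul_zero]

lemma Fm_mulVec_e {m : ℕ} (β : K) (j : ℕ) (hj : j + 1 < m) :
    (Fm m β).mulVec (e m j) = e m (j + 1) := by
  rw [mulVec_e _ j (by omega)]
  funext i
  simp only [Fm, Matrix.of_apply, e]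
  by_cases h : j + 1 = i.val
  · rw [if_pos h, if_pos h.symm]
  · rw [if_neg h, if_neg (fun h' : i.val = 0 ∧ j + 1 = m => by omega),
      if_neg (fun h' : i.val = j + 1 => h h'.symm)]

lemma Fm_mulVec_e_last {m : ℕ} (β : K) (j : ℕ) (hj : j + 1 = m) :
    (Fm m β).mulVec (e m j) = β • e m 0 := by
  rw [mulVec_e _ j (by omega)]
  funext i
  simp only [Fm, Matrix.of_apply, e, Pi.smul_apply, smul_eq_mul]
  have hi := i.isLt
  rw [if_neg (by omega)]
  by_cases h : i.val = 0
  · rw [if_pos ⟨h, hj⟩, if_pos h, mul_one]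
  · rw [if_neg (fun h' => h h'.1), if_neg h, mul_zero]

lemma Fm_pow_mulVec {m : ℕ} (β : K) :
    ∀ i, i < m → ((Fm m β) ^ i).mulVec (e m 0) = e m i := by
  intro i
  induction i with
  | zero => intro _; rw [pow_zero, Matrix.one_mulVec]
  | succ i ih =>
    intro hi
    rw [pow_succ', ← Matrix.mulVec_mulVec, ih (by omega), Fm_mulVec_e β i hi]

lemma Fm_pow {m : ℕ} (hm : 0 < m) (β : K) :
    (Fm m β) ^ m = β • (1 : Matrix (Fin m) (Fin m) K) := by
  have h0 : ((Fm m β) ^ m).mulVec (e m 0) = β • e m 0 := by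
    obtain ⟨m', rfl⟩ : ∃ m', m = m' + 1 := ⟨m - 1, by omega⟩
    rw [pow_succ', ← Matrix.mulVec_mulVec, Fm_pow_mulVec β m' (by omega),
      Fm_mulVec_e_last β m' rfl]
  ext i j
  have hj := j.isLt
  have h1 : ((Fm m β) ^ m).mulVec (e m j.val) = β • e m j.val := by
    rw [← Fm_pow_mulVec β j.val hj, Matrix.mulVec_mulVec, ← pow_add, add_comm, pow_add,
      ← Matrix.mulVec_mulVec, h0, Matrix.mulVec_smul]
  have h2 := congrFun h1 i
  rw [mulVec_e _ j.val hj] at h2
  simp only [e, Pi.smul_apply, smul_eq_mul] at h2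
  rw [show (⟨j.val, hj⟩ : Fin m) = j from rfl] at h2
  rw [h2, Matrix.smul_apply, Matrix.one_apply, smul_eq_mul]
  simp only [Fin.ext_iff]

end Vec

variable {k : Type u} [Field k] {K : Type v} [Field K] [Algebra k K]

theorem cyclic_matrix_model [FiniteDimensional k K] [IsGalois k K] (m : ℕ)
    (hK : Module.finrank k K = m)
    (σ : K ≃ₐ[k] K) (hσ : ∀ τ : K ≃ₐ[k] K, τ ∈ Subgroup.zpowers σ) (b : kˣ) :
    ∃ B : Subalgebra k (Matrix (Fin m) (Fin m) K),
      (∀ M : Matrix (Fin m) (Fin m) K, M ∈ B ↔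
        Fm m (algebraMap k K (b : k)) * M.map (fun x => σ x) =
          M * Fm m (algebraMap k K (b : k))) ∧
      ∃ (ι : K →ₐ[k] B) (y : B), y ^ m = algebraMap k B (b : k) ∧
        (∀ x : K, ι x * y = y * ι (σ x)) ∧
        Algebra.adjoin k (Set.range ι ∪ {y}) = ⊤ ∧ 0 < m ∧ Module.finrank k B = m ^ 2 := by
  classical
  have hm : 0 < m := hK ▸ Module.finrank_pos
  obtain ⟨β, hβ⟩ : ∃ β, β = algebraMap k K (b : k) := ⟨_, rfl⟩
  rw [← hβ]
  have hβ0 : β ≠ 0 := by
    rw [hβ]; exact (map_ne_zero _).mpr b.ne_zero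
  obtain ⟨F, hF⟩ : ∃ F, F = Fm m β := ⟨_, rfl⟩
  rw [← hF]
  have hσm : σ ^ m = 1 := by
    rw [← hK, ← IsGalois.card_aut_eq_finrank]; exact pow_card_eq_one'
  have hFσ : F.map (fun x => σ x) = F := by
    ext i j
    simp only [hF, Fm, Matrix.map_apply, Matrix.of_apply]
    split_ifs
    · exact map_one σ
    · rw [hβ]; exact σ.commutes _
    · exact map_zero σ
  have hmapmul : ∀ M N : Matrix (Fin m) (Fin m) K,
      (M * N).map (fun x => σ x) = M.map (fun x => σ x) * N.map (fun x => σ x) := by
    intro M N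
    ext i j
    simp [Matrix.mul_apply, map_sum]
  have hmapadd : ∀ M N : Matrix (Fin m) (Fin m) K,
      (M + N).map (fun x => σ x) = M.map (fun x => σ x) + N.map (fun x => σ x) := by
    intro M N; ext i j; simp
  have hmapalg : ∀ r : k, (algebraMap k (Matrix (Fin m) (Fin m) K) r).map (fun x => σ x) =
      algebraMap k (Matrix (Fin m) (Fin m) K) r := by
    intro r
    ext i j
    rw [Matrix.map_apply, Matrix.algebraMap_matrix_apply]
    split_ifs
    · exact σ.commutes r
    · exact map_zero σ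
  let B : Subalgebra k (Matrix (Fin m) (Fin m) K) :=
    { carrier := {M | F * M.map (fun x => σ x) = M * F}
      mul_mem' := fun {M N} hM hN => by
        have hM' : F * M.map (fun x => σ x) = M * F := hM
        have hN' : F * N.map (fun x => σ x) = N * F := hN
        show F * (M * N).map (fun x => σ x) = M * N * F
        rw [hmapmul, ← mul_assoc, hM', mul_assoc, hN', mul_assoc]
      add_mem' := fun {M N} hM hN => by
        have hM' : F * M.map (fun x => σ x) = M * F := hM
        have hN' : F * N.map (fun x => σ x) = N * F := hN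
        show F * (M + N).map (fun x => σ x) = (M + N) * F
        rw [hmapadd, mul_add, add_mul, hM', hN']
      algebraMap_mem' := fun r => by
        show F * (algebraMap k (Matrix (Fin m) (Fin m) K) r).map (fun x => σ x) =
          algebraMap k (Matrix (Fin m) (Fin m) K) r * F
        rw [hmapalg, Algebra.commutes] }
  have hBmem : ∀ M, M ∈ B ↔ F * M.map (fun x => σ x) = M * F := fun M => Iff.rfl
  have hσpow_comm : ∀ (i : ℕ) (x : K), σ ((σ ^ i) x) = (σ ^ (i + 1)) x := by
    intro i x
    rw [pow_succ', AlgEquiv.mul_apply]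
  have hσpow_comm' : ∀ (i : ℕ) (x : K), (σ ^ i) (σ x) = (σ ^ (i + 1)) x := by
    intro i x
    rw [pow_succ, AlgEquiv.mul_apply]
  let ι₀ : K →ₐ[k] Matrix (Fin m) (Fin m) K :=
    { toFun := fun x => Matrix.diagonal (fun i : Fin m => (σ ^ i.val) x)
      map_one' := by simp
      map_mul' := fun x y => by
        rw [Matrix.diagonal_mul_diagonal]
        congr 1
        funext i
        exact map_mul _ x y
      map_zero' := by simp
      map_add' := fun x y => by
        rw [Matrix.diagonal_add]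
        congr 1
        funext i
        exact map_add _ x y
      commutes' := fun r => by
        rw [Matrix.algebraMap_eq_diagonal]
        congr 1
        funext i
        exact (σ ^ i.val).commutes r }
  have hι₀ : ∀ x, ι₀ x = Matrix.diagonal (fun i : Fin m => (σ ^ i.val) x) := fun x => rfl
  have hrel₀ : ∀ x : K, ι₀ x * F = F * ι₀ (σ x) := by
    intro x
    ext i j
    rw [hι₀, hι₀, Matrix.diagonal_mul, Matrix.mul_diagonal]
    simp only [hF, Fm, Matrix.of_apply]
    have hi := i.isLt
    have hj := j.isLt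
    by_cases h1 : j.val + 1 = i.val
    · rw [if_pos h1, mul_one, one_mul, hσpow_comm', h1]
    · rw [if_neg h1]
      by_cases h2 : i.val = 0 ∧ j.val + 1 = m
      · rw [if_pos h2, hσpow_comm', h2.2, hσm, h2.1, pow_zero, AlgEquiv.one_apply, mul_comm]
      · rw [if_neg h2, mul_zero, zero_mul]
  have hmapι : ∀ x : K, (ι₀ x).map (fun z => σ z) = ι₀ (σ x) := by
    intro x
    rw [hι₀, hι₀, Matrix.diagonal_map (map_zero σ)]
    congr 1
    funext i
    rw [hσpow_comm, hσpow_comm']
  have hιmem : ∀ x, ι₀ x ∈ B := by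
    intro x
    rw [hBmem, hmapι, hrel₀]
  let ι : K →ₐ[k] B := ι₀.codRestrict B hιmem
  have hFmem : F ∈ B := by
    rw [hBmem, hFσ]
  let y : B := ⟨F, hFmem⟩
  have hypow : y ^ m = algebraMap k B (b : k) := by
    apply Subtype.ext
    rw [SubmonoidClass.coe_pow, Subalgebra.coe_algebraMap]
    show F ^ m = algebraMap k (Matrix (Fin m) (Fin m) K) (b : k)
    rw [hF, Fm_pow hm β, Algebra.algebraMap_eq_smul_one, hβ, algebraMap_smul]
  have hrel : ∀ x : K, ι x * y = y * ι (σ x) := by
    intro x
    apply Subtype.ext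
    show ι₀ x * F = F * ι₀ (σ x)
    exact hrel₀ x
  have hyunit : IsUnit y := by
    have h1 : IsUnit (y ^ m) := by
      rw [hypow]; exact (b.isUnit.map (algebraMap k B))
    exact (isUnit_pow_iff hm.ne').mp h1
  obtain ⟨yu, hyu⟩ := hyunit
  have hpow := H6Cyc.pow_rel ι σ y hrel
  haveI : Nonempty (Fin m) := ⟨⟨0, hm⟩⟩
  haveI : Nontrivial (Matrix (Fin m) (Fin m) K) := inferInstance
  haveI : Nontrivial B := inferInstance
  obtain ⟨hind, hle, hspan, -⟩ := H6Cyc.cyclic_core (k := k) (Q := B) ι m hK σ hσ yu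
    (by intro n x; rw [hyu]; exact hpow n x)
  have hcol : ∀ M : Matrix (Fin m) (Fin m) K, M ∈ B → M.mulVec (e m 0) = 0 → M = 0 := by
    intro M hM h0
    have hM' : F * M.map (fun x => σ x) = M * F := hM
    have hmapcol : ∀ j (hj : j < m), M.mulVec (e m j) = 0 →
        (M.map (fun x => σ x)).mulVec (e m j) = 0 := by
      intro j hj h
      rw [mulVec_e _ j hj] at h ⊢
      funext i
      have := congrFun h i
      simp only [Matrix.map_apply, Pi.zero_apply] at this ⊢
      rw [this, map_zero]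
    have hall : ∀ j, j < m → M.mulVec (e m j) = 0 := by
      intro j
      induction j with
      | zero => intro _; exact h0
      | succ j ih =>
        intro hj
        rw [← Fm_mulVec_e β j hj, ← hF, Matrix.mulVec_mulVec, ← hM', ← Matrix.mulVec_mulVec,
          hmapcol j (by omega) (ih (by omega)), Matrix.mulVec_zero]
    ext i j
    have := congrFun (hall j.val j.isLt) i
    rw [mulVec_e _ j.val j.isLt] at this
    exact this
  let col0 : B →ₗ[k] (Fin m → K) :=
    { toFun := fun M => fun i => (M : Matrix (Fin m) (Fin m) K) i ⟨0, hm⟩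
      map_add' := fun M N => rfl
      map_smul' := fun r M => rfl }
  have hinj : Function.Injective col0 := by
    rw [injective_iff_map_eq_zero]
    intro M hM
    apply Subtype.ext
    apply hcol M.1 M.2
    rw [mulVec_e _ 0 hm]
    exact hM
  have hub : Module.finrank k B ≤ m * m := by
    have h1 := LinearMap.finrank_le_finrank_of_injective hinj
    have h2 : Module.finrank k (Fin m → K) = m * m := by
      rw [Module.finrank_pi_fintype]; simp [hK]
    rw [h2] at h1; exact h1
  have hfr : Module.finrank k B = m * m := le_antisymm hub hle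
  have hgen : Algebra.adjoin k (Set.range ι ∪ {y}) = ⊤ := by
    rw [eq_top_iff]
    intro z _
    obtain ⟨c, hc⟩ := hspan hfr z
    rw [hc]
    have hy_mem : y ∈ Algebra.adjoin k (Set.range ι ∪ {y}) :=
      Algebra.subset_adjoin (Or.inr rfl)
    have hι_mem : ∀ c, ι c ∈ Algebra.adjoin k (Set.range ι ∪ {y}) :=
      fun c => Algebra.subset_adjoin (Or.inl ⟨c, rfl⟩)
    refine sum_mem (fun i _ => ?_)
    refine mul_mem (hι_mem (c i)) ?_
    rw [hyu]
    exact pow_mem hy_mem _
  exact ⟨B, hBmem, ι, y, hypow, hrel, hgen, hm, by rw [hfr, sq]⟩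

end H6CycMat
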