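import Mathlib
import Groth.Agent.Lib.helper6.CyclicSN
import Groth.Agent.Lib.helper6.CyclicMatrix
import Groth.Agent.Lib.helper6.CSATensor

/-! Universal property of a cyclic algebra presentation, and the matrix target used to prove
`(K,σ,b) ⊗ (K,σ,b') ≅ M_m((K,σ,bb'))`. -/

namespace H6Lift

open scoped TensorProduct

universe u v w w' w''

section Closure

variable {k : Type u} [Field k] {K : Type v} [Field K] [Algebra k K]
variable {Q : Type w} [Ring Q] [Algebra k Q]

/-- the normal form sum `∑_{i<m} ι(c i) y^i` -/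
def Psi (ι : K →ₐ[k] Q) (y : Q) (m : ℕ) (c : ℕ → K) : Q :=
  ∑ i ∈ Finset.range m, ι (c i) * y ^ i

lemma Psi_mem (ι : K →ₐ[k] Q) (y : Q) (m : ℕ) (c : ℕ → K) :
    Psi ι y m c ∈ Algebra.adjoin k (Set.range ι ∪ {y}) := by
  refine Subalgebra.sum_mem _ (fun i _ => ?_)
  have h1 : ι (c i) ∈ Algebra.adjoin k (Set.range ι ∪ {y}) :=
    Algebra.subset_adjoin (Or.inl ⟨c i, rfl⟩)
  have h2 : y ∈ Algebra.adjoin k (Set.range ι ∪ {y}) :=
    Algebra.subset_adjoin (Or.inr rfl)
  exact mul_mem h1 (pow_mem h2 i)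

lemma Psi_single (ι : K →ₐ[k] Q) (y : Q) (m : ℕ) (hm : 0 < m) :
    Psi ι y m (fun i => if i = 0 then 1 else 0) = 1 := by
  unfold Psi
  rw [Finset.sum_eq_single_of_mem 0 (Finset.mem_range.mpr hm)]
  · show ι (if (0 : ℕ) = 0 then 1 else 0) * y ^ 0 = 1
    rw [if_pos rfl, map_one, pow_zero, mul_one]
  · intro i _ hi
    show ι (if i = 0 then 1 else 0) * y ^ i = 0
    rw [if_neg hi, map_zero, zero_mul]

theorem mul_closure (ι : K →ₐ[k] Q) (y : Q) (m : ℕ) (hm : 0 < m) (σ : K ≃ₐ[k] K) (b : k)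
    (hym : y ^ m = algebraMap k Q b) (hrel : ∀ x : K, ι x * y = y * ι (σ x))
    (a : Q) (ha : a ∈ Algebra.adjoin k (Set.range ι ∪ {y})) :
    ∀ c : ℕ → K, ∃ c' : ℕ → K, a * Psi ι y m c = Psi ι y m c' := by
  refine Algebra.adjoin_induction
    (p := fun a _ => ∀ c : ℕ → K, ∃ c' : ℕ → K, a * Psi ι y m c = Psi ι y m c') ?_ ?_ ?_ ?_ ha
  · intro x hx c
    rcases hx with ⟨z, rfl⟩ | hx
    · refine ⟨fun i => z * c i, ?_⟩
      unfold Psi
      rw [Finset.mul_sum]
      refine Finset.sum_congr rfl (fun i _ => ?_)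
      rw [← mul_assoc, ← map_mul]
    · have hx' : x = y := hx
      rw [hx']
      obtain ⟨m', rfl⟩ : ∃ m', m = m' + 1 := ⟨m - 1, by omega⟩
      have hy' : ∀ z : K, y * ι z = ι (σ.symm z) * y := by
        intro z
        have := hrel (σ.symm z)
        rw [AlgEquiv.apply_symm_apply] at this
        exact this.symm
      obtain ⟨c', hc'⟩ : ∃ c' : ℕ → K,
          c' = fun j => if j = 0 then b • σ.symm (c m') else σ.symm (c (j - 1)) := ⟨_, rfl⟩
      have hc'0 : c' 0 = b • σ.symm (c m') := by rw [hc']; simp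
      have hc'S : ∀ i, c' (i + 1) = σ.symm (c i) := by intro i; rw [hc']; simp
      refine ⟨c', ?_⟩
      unfold Psi
      rw [Finset.mul_sum]
      have hL : ∑ i ∈ Finset.range (m' + 1), y * (ι (c i) * y ^ i)
          = ∑ i ∈ Finset.range m', y * (ι (c i) * y ^ i) + y * (ι (c m') * y ^ m') :=
        Finset.sum_range_succ _ _
      have hR : ∑ i ∈ Finset.range (m' + 1), ι (c' i) * y ^ i
          = ∑ i ∈ Finset.range m', ι (c' (i + 1)) * y ^ (i + 1) + ι (c' 0) * y ^ 0 :=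
        Finset.sum_range_succ' _ _
      rw [hL, hR]
      congr 1
      · refine Finset.sum_congr rfl (fun i _ => ?_)
        rw [hc'S, ← mul_assoc, hy', mul_assoc, ← pow_succ']
      · rw [hc'0, ← mul_assoc, hy', mul_assoc, ← pow_succ', hym, pow_zero, mul_one,
          map_smul, Algebra.smul_def, Algebra.commutes]
  · intro r c
    refine ⟨fun i => r • c i, ?_⟩
    unfold Psi
    rw [Finset.mul_sum]
    refine Finset.sum_congr rfl (fun i _ => ?_)
    rw [map_smul, Algebra.smul_def, mul_assoc]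
  · intro a a' _ _ iha iha' c
    obtain ⟨c1, h1⟩ := iha c
    obtain ⟨c2, h2⟩ := iha' c
    refine ⟨fun i => c1 i + c2 i, ?_⟩
    rw [add_mul, h1, h2]
    unfold Psi
    rw [← Finset.sum_add_distrib]
    refine Finset.sum_congr rfl (fun i _ => ?_)
    rw [map_add, add_mul]
  · intro a a' _ _ iha iha' c
    obtain ⟨c1, h1⟩ := iha' c
    obtain ⟨c2, h2⟩ := iha c1
    exact ⟨c2, by rw [mul_assoc, h1, h2]⟩

theorem exists_Psi_eq (ι : K →ₐ[k] Q) (y : Q) (m : ℕ) (hm : 0 < m) (σ : K ≃ₐ[k] K) (b : k)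
    (hym : y ^ m = algebraMap k Q b) (hrel : ∀ x : K, ι x * y = y * ι (σ x))
    (a : Q) (ha : a ∈ Algebra.adjoin k (Set.range ι ∪ {y})) :
    ∃ c : ℕ → K, a = Psi ι y m c := by
  obtain ⟨c', hc'⟩ := mul_closure ι y m hm σ b hym hrel a ha (fun i => if i = 0 then 1 else 0)
  rw [Psi_single ι y m hm, mul_one] at hc'
  exact ⟨c', hc'⟩

end Closure

section Lift

variable {k : Type u} [Field k] {K : Type v} [Field K] [Algebra k K]

theorem Psi_injective [FiniteDimensional k K] [IsGalois k K]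
    {A : Type w} [Ring A] [Algebra k A] [Nontrivial A] [FiniteDimensional k A]
    (σ : K ≃ₐ[k] K) (hσ : ∀ τ : K ≃ₐ[k] K, τ ∈ Subgroup.zpowers σ)
    (ι : K →ₐ[k] A) (y : Aˣ) (hrel : ∀ x : K, ι x * (y : A) = (y : A) * ι (σ x)) (c : ℕ → K)
    (h : Psi ι (y : A) (Module.finrank k K) c = 0) : ∀ i < Module.finrank k K, c i = 0 := by
  obtain ⟨h1, -⟩ := H6Cyc.cyclic_core ι (Module.finrank k K) rfl σ hσ y
    (H6Cyc.pow_rel ι σ (y : A) hrel)
  intro i hi
  have hsum : ∑ j : Fin (Module.finrank k K), ι (c j) * (y : A) ^ (j : ℕ) = 0 :=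
    (Fin.sum_univ_eq_sum_range (fun i => ι (c i) * (y : A) ^ i) _).trans h
  exact h1 (fun j => c j) hsum ⟨i, hi⟩

theorem cyclic_lift [FiniteDimensional k K] [IsGalois k K]
    (σ : K ≃ₐ[k] K) (hσ : ∀ τ : K ≃ₐ[k] K, τ ∈ Subgroup.zpowers σ) (b : kˣ)
    {A : Type w} [Ring A] [Algebra k A]
    (ι : K →ₐ[k] A) (y : A) (hym : y ^ Module.finrank k K = algebraMap k A (b : k))
    (hrel : ∀ x : K, ι x * y = y * ι (σ x))
    (hgen : Algebra.adjoin k (Set.range ι ∪ {y}) = ⊤)
    (hdim : Module.finrank k A = Module.finrank k K ^ 2)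
    {C : Type w'} [Ring C] [Algebra k C]
    (ιC : K →ₐ[k] C) (yC : C) (hymC : yC ^ Module.finrank k K = algebraMap k C (b : k))
    (hrelC : ∀ x : K, ιC x * yC = yC * ιC (σ x)) :
    ∃ f : A →ₐ[k] C, (∀ x, f (ι x) = ιC x) ∧ f y = yC := by
  classical
  have hm : 0 < Module.finrank k K := Module.finrank_pos
  have hApos : 0 < Module.finrank k A := by rw [hdim]; positivity
  haveI : FiniteDimensional k A := Module.finite_of_finrank_pos hApos
  haveI : Nontrivial A := Module.nontrivial_of_finrank_pos (R := k) hApos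
  have hyunit : IsUnit y := by
    have h1 : IsUnit (y ^ Module.finrank k K) := by
      rw [hym]; exact (b.isUnit).map (algebraMap k A)
    exact (isUnit_pow_iff hm.ne').mp h1
  obtain ⟨yu, hyu⟩ := hyunit
  let ιP : K →ₐ[k] A × C := ι.prod ιC
  let yP : A × C := (y, yC)
  have hymP : yP ^ Module.finrank k K = algebraMap k (A × C) (b : k) := by
    apply Prod.ext
    · rw [Prod.pow_fst, Prod.algebraMap_apply]; exact hym
    · rw [Prod.pow_snd, Prod.algebraMap_apply]; exact hymC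
  have hrelP : ∀ x : K, ιP x * yP = yP * ιP (σ x) := by
    intro x
    apply Prod.ext
    · exact hrel x
    · exact hrelC x
  let S : Subalgebra k (A × C) := Algebra.adjoin k (Set.range ιP ∪ {yP})
  have hfst : ∀ c : ℕ → K,
      (Psi ιP yP (Module.finrank k K) c).1 = Psi ι y (Module.finrank k K) c := by
    intro c
    unfold Psi
    rw [Prod.fst_sum]
    refine Finset.sum_congr rfl (fun i _ => ?_)
    rw [Prod.fst_mul, Prod.pow_fst]
    rfl
  let p1 : S →ₐ[k] A := (AlgHom.fst k A C).comp S.val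
  have hp1inj : Function.Injective p1 := by
    rw [injective_iff_map_eq_zero]
    intro s hs
    obtain ⟨c, hc⟩ := exists_Psi_eq ιP yP (Module.finrank k K) hm σ (b : k) hymP hrelP (s : A × C) s.2
    have h1 : Psi ι y (Module.finrank k K) c = 0 := by
      rw [← hfst, ← hc]; exact hs
    have h2 : ∀ i < Module.finrank k K, c i = 0 :=
      Psi_injective σ hσ ι yu (by rw [hyu]; exact hrel) c (by rw [hyu]; exact h1)
    apply Subtype.ext
    rw [hc]
    show Psi ιP yP (Module.finrank k K) c = 0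
    unfold Psi
    apply Finset.sum_eq_zero
    intro i hi
    rw [h2 i (Finset.mem_range.mp hi), map_zero, zero_mul]
  have hp1surj : Function.Surjective p1 := by
    intro a
    have ha : a ∈ Algebra.adjoin k (Set.range ι ∪ {y}) := by rw [hgen]; trivial
    obtain ⟨c, hc⟩ := exists_Psi_eq ι y (Module.finrank k K) hm σ (b : k) hym hrel a ha
    refine ⟨⟨Psi ιP yP (Module.finrank k K) c, Psi_mem ιP yP (Module.finrank k K) c⟩, ?_⟩
    show (Psi ιP yP (Module.finrank k K) c).1 = a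
    rw [hfst, hc]
  let e1 : S ≃ₐ[k] A := AlgEquiv.ofBijective p1 ⟨hp1inj, hp1surj⟩
  let f : A →ₐ[k] C := ((AlgHom.snd k A C).comp S.val).comp (e1.symm : A →ₐ[k] S)
  refine ⟨f, ?_, ?_⟩
  · intro x
    have hx : (ιP x) ∈ S := Algebra.subset_adjoin (Or.inl ⟨x, rfl⟩)
    have h1 : e1 ⟨ιP x, hx⟩ = ι x := rfl
    have h2 : e1.symm (ι x) = ⟨ιP x, hx⟩ := by rw [← h1, AlgEquiv.symm_apply_apply]
    show ((e1.symm (ι x) : S) : A × C).2 = ιC x
    rw [h2]
    rfl
  · have hy : yP ∈ S := Algebra.subset_adjoin (Or.inr rfl)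
    have h1 : e1 ⟨yP, hy⟩ = y := rfl
    have h2 : e1.symm y = ⟨yP, hy⟩ := by rw [← h1, AlgEquiv.symm_apply_apply]
    show ((e1.symm y : S) : A × C).2 = yC
    rw [h2]

theorem commute_of_gens {A : Type w} {A' : Type w''} {M : Type w'} [Ring A] [Algebra k A]
    [Ring A'] [Algebra k A'] [Ring M] [Algebra k M]
    (f : A →ₐ[k] M) (g : A' →ₐ[k] M) (s : Set A) (s' : Set A')
    (hs : Algebra.adjoin k s = ⊤) (hs' : Algebra.adjoin k s' = ⊤)
    (h : ∀ x ∈ s, ∀ x' ∈ s', Commute (f x) (g x')) : ∀ a a', Commute (f a) (g a') := by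
  have step1 : ∀ x ∈ s, ∀ a', Commute (f x) (g a') := by
    intro x hx a'
    have ha' : a' ∈ Algebra.adjoin k s' := by rw [hs']; trivial
    refine Algebra.adjoin_induction (p := fun a' _ => Commute (f x) (g a')) ?_ ?_ ?_ ?_ ha'
    · intro x' hx'; exact h x hx x' hx'
    · intro r
      show Commute (f x) (g (algebraMap k A' r))
      rw [AlgHom.commutes]; exact Algebra.commute_algebraMap_right r _
    · intro u v _ _ hu hv
      show Commute (f x) (g (u + v))
      rw [map_add]; exact hu.add_right hv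
    · intro u v _ _ hu hv
      show Commute (f x) (g (u * v))
      rw [map_mul]; exact hu.mul_right hv
  intro a a'
  have ha : a ∈ Algebra.adjoin k s := by rw [hs]; trivial
  refine Algebra.adjoin_induction (p := fun a _ => Commute (f a) (g a')) ?_ ?_ ?_ ?_ ha
  · intro x hx; exact step1 x hx a'
  · intro r
    show Commute (f (algebraMap k A r)) (g a')
    rw [AlgHom.commutes]; exact Algebra.commute_algebraMap_left r _
  · intro u v _ _ hu hv
    show Commute (f (u + v)) (g a')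
    rw [map_add]; exact hu.add_left hv
  · intro u v _ _ hu hv
    show Commute (f (u * v)) (g a')
    rw [map_mul]; exact hu.mul_left hv

theorem exists_tensor_target [FiniteDimensional k K] [IsGalois k K] (σ : K ≃ₐ[k] K)
    (b b' : kˣ) {B : Type w} [Ring B] [Algebra k B]
    (j : K →ₐ[k] B) (z : B)
    (hz : z ^ Module.finrank k K = algebraMap k B ((b * b' : kˣ) : k))
    (hjz : ∀ x : K, j x * z = z * j (σ x)) :
    ∃ (ιM : K →ₐ[k] Matrix (Fin (Module.finrank k K)) (Fin (Module.finrank k K)) B)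
      (yM : Matrix (Fin (Module.finrank k K)) (Fin (Module.finrank k K)) B)
      (ιM' : K →ₐ[k] Matrix (Fin (Module.finrank k K)) (Fin (Module.finrank k K)) B)
      (yM' : Matrix (Fin (Module.finrank k K)) (Fin (Module.finrank k K)) B),
      yM ^ Module.finrank k K = algebraMap k _ (b : k) ∧
      (∀ x, ιM x * yM = yM * ιM (σ x)) ∧
      yM' ^ Module.finrank k K = algebraMap k _ (b' : k) ∧
      (∀ x, ιM' x * yM' = yM' * ιM' (σ x)) ∧
      (∀ x x', Commute (ιM x) (ιM' x')) ∧ (∀ x, Commute (ιM x) yM') ∧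
      (∀ x', Commute yM (ιM' x')) ∧ Commute yM yM' := by
  classical
  have hm : 0 < Module.finrank k K := Module.finrank_pos
  have hσm : σ ^ Module.finrank k K = 1 := by
    rw [← IsGalois.card_aut_eq_finrank]; exact pow_card_eq_one'
  generalize Module.finrank k K = m at hz hσm hm ⊢
  let F : Matrix (Fin m) (Fin m) k := H6CycMat.Fm m (b' : k)
  have hFm : F ^ m = (b' : k) • (1 : Matrix (Fin m) (Fin m) k) := H6CycMat.Fm_pow hm _
  let Q0 : Matrix (Fin m) (Fin m) k := ((b'⁻¹ : kˣ) : k) • F ^ (m - 1)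
  have hFQ : F * Q0 = 1 := by
    show F * (((b'⁻¹ : kˣ) : k) • F ^ (m - 1)) = 1
    rw [Matrix.mul_smul, ← pow_succ', Nat.sub_add_cancel hm, hFm, smul_smul, Units.inv_mul,
      one_smul]
  have hQF : Q0 * F = 1 := by
    show (((b'⁻¹ : kˣ) : k) • F ^ (m - 1)) * F = 1
    rw [Matrix.smul_mul, ← pow_succ, Nat.sub_add_cancel hm, hFm, smul_smul, Units.inv_mul,
      one_smul]
  let μ : Matrix (Fin m) (Fin m) k →ₐ[k] Matrix (Fin m) (Fin m) B :=
    (Algebra.ofId k B).mapMatrix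
  have hμ : ∀ (N : Matrix (Fin m) (Fin m) k) (i l : Fin m),
      μ N i l = algebraMap k B (N i l) := fun N i l => rfl
  let dgA : B →ₐ[k] Matrix (Fin m) (Fin m) B := Matrix.scalarAlgHom (Fin m) k
  have hdg : ∀ a : B, dgA a = Matrix.diagonal (fun _ : Fin m => a) := fun a => rfl
  have F1 : ∀ (a : B) (N : Matrix (Fin m) (Fin m) k), dgA a * μ N = μ N * dgA a := by
    intro a N
    rw [hdg]
    ext i l
    rw [Matrix.diagonal_mul, Matrix.mul_diagonal, hμ]
    exact (Algebra.commutes _ _).symm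
  obtain ⟨P', hP'⟩ : ∃ P', P' = μ F := ⟨_, rfl⟩
  obtain ⟨Q', hQ'⟩ : ∃ Q', Q' = μ Q0 := ⟨_, rfl⟩
  have hcP : ∀ a, dgA a * P' = P' * dgA a := fun a => by rw [hP']; exact F1 a F
  have hcQ : ∀ a, dgA a * Q' = Q' * dgA a := fun a => by rw [hQ']; exact F1 a Q0
  have hPQ : P' * Q' = 1 := by rw [hP', hQ', ← map_mul, hFQ, map_one]
  have hQP : Q' * P' = 1 := by rw [hP', hQ', ← map_mul, hQF, map_one]
  have hP'm : P' ^ m = algebraMap k (Matrix (Fin m) (Fin m) B) (b' : k) := by
    rw [hP', ← map_pow, hFm, map_smul, map_one, Algebra.algebraMap_eq_smul_one]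
  have hQ'm : Q' ^ m = algebraMap k (Matrix (Fin m) (Fin m) B) ((b'⁻¹ : kˣ) : k) := by
    have hcomm : Commute Q' P' := by show Q' * P' = P' * Q'; rw [hQP, hPQ]
    have h1 : Q' ^ m * P' ^ m = 1 := by rw [← hcomm.mul_pow, hQP, one_pow]
    rw [hP'm] at h1
    calc Q' ^ m = Q' ^ m * (algebraMap k (Matrix (Fin m) (Fin m) B) (b' : k)
            * algebraMap k (Matrix (Fin m) (Fin m) B) ((b'⁻¹ : kˣ) : k)) := by
          rw [← map_mul, Units.mul_inv, map_one, mul_one]
      _ = algebraMap k (Matrix (Fin m) (Fin m) B) ((b'⁻¹ : kˣ) : k) := by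
          rw [← mul_assoc, h1, one_mul]
  let ιM : K →ₐ[k] Matrix (Fin m) (Fin m) B := dgA.comp j
  obtain ⟨yM, hyM⟩ : ∃ yM, yM = dgA z * Q' := ⟨_, rfl⟩
  let ιM' : K →ₐ[k] Matrix (Fin m) (Fin m) B :=
    (Matrix.diagonalAlgHom k).comp
      (Pi.algHom k (fun _ : Fin m => B)
        (fun i => j.comp ((σ ^ (i : ℕ) : K ≃ₐ[k] K) : K →ₐ[k] K)))
  have hιM : ∀ x, ιM x = dgA (j x) := fun x => rfl
  have hιM' : ∀ x, ιM' x = Matrix.diagonal (fun i : Fin m => j ((σ ^ (i : ℕ)) x)) :=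
    fun x => rfl
  have R4 : ∀ x, ιM' x * P' = P' * ιM' (σ x) := by
    intro x
    rw [hιM', hιM', hP']
    ext i l
    rw [Matrix.diagonal_mul, Matrix.mul_diagonal, hμ]
    have hF : F i l = if l.val + 1 = i.val then (1 : k)
        else if i.val = 0 ∧ l.val + 1 = m then (b' : k) else 0 := rfl
    rw [hF]
    split_ifs with h1 h2
    · rw [map_one, mul_one, one_mul]
      congr 1
      rw [← h1, pow_succ, AlgEquiv.mul_apply]
    · obtain ⟨h2a, h2b⟩ := h2
      have e1 : (σ ^ (i : ℕ)) x = x := by rw [h2a, pow_zero, AlgEquiv.one_apply]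
      have e2 : (σ ^ (l : ℕ)) (σ x) = x := by
        rw [← AlgEquiv.mul_apply, ← pow_succ, h2b, hσm, AlgEquiv.one_apply]
      rw [e1, e2]
      exact (Algebra.commutes _ _).symm
    · rw [map_zero, mul_zero, zero_mul]
  have R1 : yM ^ m = algebraMap k (Matrix (Fin m) (Fin m) B) (b : k) := by
    have hc : Commute (dgA z) Q' := hcQ z
    rw [hyM, hc.mul_pow, hQ'm, ← map_pow, hz, AlgHom.commutes, ← map_mul, Units.val_mul,
      mul_assoc, Units.mul_inv, mul_one]
  have R2 : ∀ x, ιM x * yM = yM * ιM (σ x) := by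
    intro x
    rw [hιM, hιM, hyM, ← mul_assoc, ← map_mul, hjz, map_mul, mul_assoc, mul_assoc, hcQ]
  have C1 : ∀ x x', Commute (ιM x) (ιM' x') := by
    intro x x'
    show ιM x * ιM' x' = ιM' x' * ιM x
    rw [hιM, hdg, hιM', Matrix.diagonal_mul_diagonal, Matrix.diagonal_mul_diagonal]
    congr 1; funext i
    rw [← map_mul, ← map_mul, mul_comm]
  have C2 : ∀ x, Commute (ιM x) P' := by
    intro x
    show ιM x * P' = P' * ιM x
    rw [hιM]; exact hcP _
  have hQD : ∀ x', Q' * ιM' x' = ιM' (σ x') * Q' := by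
    intro x'
    have h := R4 x'
    calc Q' * ιM' x' = Q' * ιM' x' * (P' * Q') := by rw [hPQ, mul_one]
      _ = Q' * (ιM' x' * P') * Q' := by simp only [mul_assoc]
      _ = Q' * (P' * ιM' (σ x')) * Q' := by rw [h]
      _ = (Q' * P') * ιM' (σ x') * Q' := by simp only [mul_assoc]
      _ = ιM' (σ x') * Q' := by rw [hQP, one_mul]
  have hzD : ∀ w, dgA z * ιM' (σ w) = ιM' w * dgA z := by
    intro w
    rw [hdg, hιM', hιM', Matrix.diagonal_mul_diagonal, Matrix.diagonal_mul_diagonal]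
    congr 1; funext i
    have h3 : (σ ^ (i : ℕ)) (σ w) = σ ((σ ^ (i : ℕ)) w) := by
      rw [← AlgEquiv.mul_apply, ← AlgEquiv.mul_apply, ← pow_succ, ← pow_succ']
    rw [h3, ← hjz]
  have C3 : ∀ x', Commute yM (ιM' x') := by
    intro x'
    show yM * ιM' x' = ιM' x' * yM
    rw [hyM, mul_assoc, hQD, ← mul_assoc, hzD, mul_assoc]
  have C4 : Commute yM P' := by
    show yM * P' = P' * yM
    rw [hyM, mul_assoc, hQP, mul_one, ← mul_assoc, ← hcP z, mul_assoc, hPQ, mul_one]
  exact ⟨ιM, yM, ιM', P', R1, R2, hP'm, R4, C1, C2, C3, C4⟩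

theorem cyclic_unique [FiniteDimensional k K] [IsGalois k K]
    (σ : K ≃ₐ[k] K) (hσ : ∀ τ : K ≃ₐ[k] K, τ ∈ Subgroup.zpowers σ) (b : kˣ)
    {A : Type w} [Ring A] [Algebra k A] [IsSimpleRing A]
    (ι : K →ₐ[k] A) (y : A) (hym : y ^ Module.finrank k K = algebraMap k A (b : k))
    (hrel : ∀ x : K, ι x * y = y * ι (σ x))
    (hgen : Algebra.adjoin k (Set.range ι ∪ {y}) = ⊤)
    (hdim : Module.finrank k A = Module.finrank k K ^ 2)
    {C : Type w'} [Ring C] [Algebra k C]
    (ιC : K →ₐ[k] C) (yC : C) (hymC : yC ^ Module.finrank k K = algebraMap k C (b : k))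
    (hrelC : ∀ x : K, ιC x * yC = yC * ιC (σ x))
    (hdimC : Module.finrank k C = Module.finrank k K ^ 2) :
    Nonempty (A ≃ₐ[k] C) := by
  obtain ⟨f, -, -⟩ := cyclic_lift σ hσ b ι y hym hrel hgen hdim ιC yC hymC hrelC
  have hpos : 0 < Module.finrank k K ^ 2 := pow_pos Module.finrank_pos 2
  haveI : FiniteDimensional k A := Module.finite_of_finrank_pos (by rw [hdim]; exact hpos)
  haveI : FiniteDimensional k C := Module.finite_of_finrank_pos (by rw [hdimC]; exact hpos)
  haveI : Nontrivial C := Module.nontrivial_of_finrank_pos (R := k) (by rw [hdimC]; exact hpos)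
  have hinj : Function.Injective f := RingHom.injective f.toRingHom
  have hsurj : Function.Surjective f :=
    (LinearMap.injective_iff_surjective_of_finrank_eq_finrank (f := f.toLinearMap)
      (by rw [hdim, hdimC])).mp hinj
  exact ⟨AlgEquiv.ofBijective f ⟨hinj, hsurj⟩⟩

theorem cyclic_tensor_equiv [FiniteDimensional k K] [IsGalois k K]
    (σ : K ≃ₐ[k] K) (hσ : ∀ τ : K ≃ₐ[k] K, τ ∈ Subgroup.zpowers σ) (b b' : kˣ)
    {A : Type w} [Ring A] [Algebra k A] [IsSimpleRing A]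
    {A' : Type w'} [Ring A'] [Algebra k A'] [IsSimpleRing A'] [Algebra.IsCentral k A']
    {A'' : Type w''} [Ring A''] [Algebra k A'']
    (ι : K →ₐ[k] A) (y : A) (hym : y ^ Module.finrank k K = algebraMap k A (b : k))
    (hrel : ∀ x : K, ι x * y = y * ι (σ x))
    (hgen : Algebra.adjoin k (Set.range ι ∪ {y}) = ⊤)
    (hdim : Module.finrank k A = Module.finrank k K ^ 2)
    (ι' : K →ₐ[k] A') (y' : A') (hym' : y' ^ Module.finrank k K = algebraMap k A' (b' : k))
    (hrel' : ∀ x : K, ι' x * y' = y' * ι' (σ x))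
    (hgen' : Algebra.adjoin k (Set.range ι' ∪ {y'}) = ⊤)
    (hdim' : Module.finrank k A' = Module.finrank k K ^ 2)
    (j : K →ₐ[k] A'') (z : A'')
    (hzm : z ^ Module.finrank k K = algebraMap k A'' ((b * b' : kˣ) : k))
    (hjz : ∀ x : K, j x * z = z * j (σ x))
    (hdim'' : Module.finrank k A'' = Module.finrank k K ^ 2) :
    Nonempty (A ⊗[k] A' ≃ₐ[k]
      Matrix (Fin (Module.finrank k K)) (Fin (Module.finrank k K)) A'') := by
  classical
  have hm : 0 < Module.finrank k K := Module.finrank_pos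
  have hpos : 0 < Module.finrank k K ^ 2 := pow_pos hm 2
  haveI : FiniteDimensional k A := Module.finite_of_finrank_pos (by rw [hdim]; exact hpos)
  haveI : FiniteDimensional k A' := Module.finite_of_finrank_pos (by rw [hdim']; exact hpos)
  haveI : FiniteDimensional k A'' := Module.finite_of_finrank_pos (by rw [hdim'']; exact hpos)
  haveI : Nontrivial A'' :=
    Module.nontrivial_of_finrank_pos (R := k) (by rw [hdim'']; exact hpos)
  haveI : Nonempty (Fin (Module.finrank k K)) := ⟨⟨0, hm⟩⟩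
  obtain ⟨ιM, yM, ιM', yM', r1, r2, r3, r4, c1, c2, c3, c4⟩ :=
    exists_tensor_target σ b b' j z hzm hjz
  obtain ⟨ΦA, hΦι, hΦy⟩ := cyclic_lift σ hσ b ι y hym hrel hgen hdim ιM yM r1 r2
  obtain ⟨ΦA', hΦι', hΦy'⟩ :=
    cyclic_lift σ hσ b' ι' y' hym' hrel' hgen' hdim' ιM' yM' r3 r4
  have hcomm : ∀ a a', Commute (ΦA a) (ΦA' a') := by
    apply commute_of_gens ΦA ΦA' _ _ hgen hgen'
    rintro x (⟨u, rfl⟩ | hx) x' (⟨u', rfl⟩ | hx')
    · rw [hΦι, hΦι']; exact c1 u u'
    · rw [Set.mem_singleton_iff] at hx'; rw [hx', hΦι, hΦy']; exact c2 u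
    · rw [Set.mem_singleton_iff] at hx; rw [hx, hΦy, hΦι']; exact c3 u'
    · rw [Set.mem_singleton_iff] at hx hx'; rw [hx, hx', hΦy, hΦy']; exact c4
  let Φ : A ⊗[k] A' →ₐ[k]
      Matrix (Fin (Module.finrank k K)) (Fin (Module.finrank k K)) A'' :=
    Algebra.TensorProduct.lift ΦA ΦA' hcomm
  haveI : IsSimpleRing (A ⊗[k] A') := H6CSA2.simple_tensor' (K := k) (L := A) (A := A')
  have hinj : Function.Injective Φ := RingHom.injective Φ.toRingHom
  have hfr : Module.finrank k (A ⊗[k] A')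
      = Module.finrank k
        (Matrix (Fin (Module.finrank k K)) (Fin (Module.finrank k K)) A'') := by
    rw [Module.finrank_tensorProduct, Module.finrank_matrix, Fintype.card_fin, hdim, hdim',
      hdim'']
    ring
  have hsurj : Function.Surjective Φ :=
    (LinearMap.injective_iff_surjective_of_finrank_eq_finrank (f := Φ.toLinearMap) hfr).mp hinj
  exact ⟨AlgEquiv.ofBijective Φ ⟨hinj, hsurj⟩⟩

end Lift

end H6Lift
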