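import Mathlib
import Groth.Agent.Lib.helper6.CyclicLift
import Groth.Agent.Lib.helper6.SkolemNoether2

/-! A cyclic algebra `(K,σ,b)` is split iff `b` is a norm from `K`. -/

namespace H6CycNorm

universe u v w

/-- conjugation by a unit as an algebra automorphism -/
def unitConj {R : Type*} [CommSemiring R] {M : Type*} [Semiring M] [Algebra R M] (u : Mˣ) :
    M ≃ₐ[R] M where
  toFun a := ↑u⁻¹ * a * ↑u
  invFun a := ↑u * a * ↑u⁻¹
  left_inv a := by simp [mul_assoc]
  right_inv a := by simp [mul_assoc]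
  map_mul' a a' := by simp [mul_assoc]
  map_add' a a' := by simp [mul_add, add_mul]
  commutes' r := by
    show ↑u⁻¹ * algebraMap R M r * ↑u = algebraMap R M r
    rw [← Algebra.commutes, mul_assoc, Units.inv_mul, mul_one]

lemma unitConj_apply {R : Type*} [CommSemiring R] {M : Type*} [Semiring M] [Algebra R M]
    (u : Mˣ) (a : M) : unitConj (R := R) u a = ↑u⁻¹ * a * ↑u := rfl

lemma conj_cancel {M : Type*} [Monoid M] (u : Mˣ) (X : M) :
    (↑u⁻¹ : M) * (↑u * X * ↑u⁻¹) * ↑u = X := by simp [mul_assoc]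

variable {k : Type u} [Field k] {K : Type v} [Field K] [Algebra k K] [FiniteDimensional k K]
  [IsGalois k K]

theorem prod_pow_eq_norm (τ : K ≃ₐ[k] K) (hτ : ∀ ρ : K ≃ₐ[k] K, ρ ∈ Subgroup.zpowers τ) (c : K) :
    ∏ i ∈ Finset.range (Module.finrank k K), (τ ^ i) c = algebraMap k K (Algebra.norm k c) := by
  classical
  rw [Algebra.norm_eq_prod_automorphisms]
  have hord : orderOf τ = Module.finrank k K := by
    rw [orderOf_eq_card_of_forall_mem_zpowers hτ, IsGalois.card_aut_eq_finrank]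
  have hinj : Set.InjOn (fun i : ℕ => τ ^ i) (Finset.range (Module.finrank k K) : Set ℕ) := by
    intro i hi j hj hij
    rw [Finset.coe_range, ← hord] at hi hj
    exact pow_injOn_Iio_orderOf hi hj hij
  have himg : (Finset.range (Module.finrank k K)).image (fun i : ℕ => τ ^ i) = Finset.univ := by
    apply Finset.eq_univ_of_card
    rw [Finset.card_image_of_injOn hinj, Finset.card_range, ← IsGalois.card_aut_eq_finrank,
      Nat.card_eq_fintype_card]
  rw [← himg, Finset.prod_image hinj]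

theorem pow_twist (τ : K ≃ₐ[k] K) (c : K) (Y : Module.End k K) (hY : ∀ w, Y w = c * τ w) :
    ∀ (n : ℕ) (w : K), (Y ^ n) w = (∏ i ∈ Finset.range n, (τ ^ i) c) * (τ ^ n) w := by
  intro n
  induction n with
  | zero => intro w; simp
  | succ n ih =>
    intro w
    rw [pow_succ, Module.End.mul_apply, hY, ih, map_mul, Finset.prod_range_succ, pow_succ τ n,
      AlgEquiv.mul_apply]
    ring

theorem twist_pow_finrank (τ : K ≃ₐ[k] K) (hτ : ∀ ρ : K ≃ₐ[k] K, ρ ∈ Subgroup.zpowers τ)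
    (c : K) (Y : Module.End k K) (hY : ∀ w, Y w = c * τ w) (w : K) :
    (Y ^ Module.finrank k K) w = algebraMap k K (Algebra.norm k c) * w := by
  have hτm : τ ^ Module.finrank k K = 1 := by
    rw [← IsGalois.card_aut_eq_finrank]; exact pow_card_eq_one'
  rw [pow_twist τ c Y hY, prod_pow_eq_norm τ hτ, hτm, AlgEquiv.one_apply]

lemma zpowers_symm (σ : K ≃ₐ[k] K) (hσ : ∀ τ : K ≃ₐ[k] K, τ ∈ Subgroup.zpowers σ) :
    ∀ ρ : K ≃ₐ[k] K, ρ ∈ Subgroup.zpowers σ.symm := by
  intro ρ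
  have h : (σ.symm : K ≃ₐ[k] K) = σ⁻¹ := rfl
  rw [h, Subgroup.zpowers_inv]; exact hσ ρ

theorem split_of_norm (σ : K ≃ₐ[k] K) (hσ : ∀ τ : K ≃ₐ[k] K, τ ∈ Subgroup.zpowers σ) (b : kˣ)
    {A : Type w} [Ring A] [Algebra k A] [IsSimpleRing A]
    (ι : K →ₐ[k] A) (y : A) (hym : y ^ Module.finrank k K = algebraMap k A (b : k))
    (hrel : ∀ x : K, ι x * y = y * ι (σ x))
    (hgen : Algebra.adjoin k (Set.range ι ∪ {y}) = ⊤)
    (hdim : Module.finrank k A = Module.finrank k K ^ 2)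
    (c : K) (hc : Algebra.norm k c = (b : k)) :
    Nonempty (A ≃ₐ[k] Module.End k K) := by
  have hτ := zpowers_symm σ hσ
  obtain ⟨ιE, hιE⟩ : ∃ ιE : K →ₐ[k] Module.End k K, ∀ x w, ιE x w = x * w :=
    ⟨Algebra.lmul k K, fun x w => rfl⟩
  obtain ⟨yE, hyE⟩ : ∃ yE : Module.End k K, ∀ w, yE w = c * σ.symm w :=
    ⟨Algebra.lmul k K c * σ.symm.toLinearMap, fun w => rfl⟩
  have hymE : yE ^ Module.finrank k K = algebraMap k (Module.End k K) (b : k) := by
    apply LinearMap.ext; intro w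
    rw [twist_pow_finrank σ.symm hτ c yE hyE, hc, Module.algebraMap_end_apply, Algebra.smul_def]
  have hrelE : ∀ x : K, ιE x * yE = yE * ιE (σ x) := by
    intro x
    apply LinearMap.ext; intro w
    rw [Module.End.mul_apply, Module.End.mul_apply, hιE, hyE, hyE, hιE, map_mul,
      AlgEquiv.symm_apply_apply]
    ring
  have hdimE : Module.finrank k (Module.End k K) = Module.finrank k K ^ 2 := by
    rw [sq]; exact Module.finrank_linearMap (R := k) (S := k) (M := K) (N := K)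
  exact H6Lift.cyclic_unique σ hσ b ι y hym hrel hgen hdim ιE yE hymE hrelE hdimE

theorem norm_of_split (σ : K ≃ₐ[k] K) (hσ : ∀ τ : K ≃ₐ[k] K, τ ∈ Subgroup.zpowers σ) (b : kˣ)
    {A : Type w} [Ring A] [Algebra k A]
    (ι : K →ₐ[k] A) (y : A) (hym : y ^ Module.finrank k K = algebraMap k A (b : k))
    (hrel : ∀ x : K, ι x * y = y * ι (σ x))
    (hdim : Module.finrank k A = Module.finrank k K ^ 2)
    (n : ℕ) (hn : n ≠ 0) (θ : A ≃ₐ[k] Matrix (Fin n) (Fin n) k) :
    ∃ x : K, Algebra.norm k x = (b : k) := by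
  classical
  haveI : NeZero n := ⟨hn⟩
  have hnm : Module.finrank k K = n := by
    have h1 := θ.toLinearEquiv.finrank_eq
    rw [hdim, Module.finrank_matrix, Fintype.card_fin, Module.finrank_self, mul_one, ← sq] at h1
    exact Nat.pow_left_injective two_ne_zero h1
  let bK : Module.Basis (Fin n) k K := Module.finBasisOfFinrankEq k K hnm
  obtain ⟨φ⟩ : Nonempty (Module.End k K ≃ₐ[k] Matrix (Fin n) (Fin n) k) :=
    ⟨algEquivMatrix bK⟩
  obtain ⟨u, hu⟩ := H6SN2.skolem_noether (k := k)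
    ((θ : A →ₐ[k] Matrix (Fin n) (Fin n) k).comp ι)
    ((φ : Module.End k K →ₐ[k] Matrix (Fin n) (Fin n) k).comp (Algebra.lmul k K))
  obtain ⟨Θ, hΘ⟩ : ∃ Θ : A ≃ₐ[k] Module.End k K,
      ∀ a, Θ a = φ.symm (unitConj (R := k) u (θ a)) :=
    ⟨θ.trans ((unitConj u).trans φ.symm), fun a => rfl⟩
  have hΘι : ∀ x : K, Θ (ι x) = Algebra.lmul k K x := by
    intro x
    have h1 : θ (ι x) = (u : Matrix (Fin n) (Fin n) k) * φ (Algebra.lmul k K x)
        * ((u⁻¹ : (Matrix (Fin n) (Fin n) k)ˣ) : Matrix (Fin n) (Fin n) k) := hu x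
    rw [hΘ, unitConj_apply, h1, conj_cancel, AlgEquiv.symm_apply_apply]
  obtain ⟨Y, hYdef⟩ : ∃ Y, Y = Θ y := ⟨_, rfl⟩
  have hrelY : ∀ x : K, Algebra.lmul k K x * Y = Y * Algebra.lmul k K (σ x) := by
    intro x
    rw [hYdef, ← hΘι, ← hΘι, ← map_mul, ← map_mul, hrel]
  have hYm : Y ^ Module.finrank k K = algebraMap k (Module.End k K) (b : k) := by
    rw [hYdef, ← map_pow, hym, AlgEquiv.commutes]
  let σl : Module.End k K := σ.toLinearMap
  have hσl : ∀ x : K, σl * Algebra.lmul k K x = Algebra.lmul k K (σ x) * σl := by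
    intro x
    apply LinearMap.ext; intro w
    show σ (x * w) = σ x * σ w
    exact map_mul σ x w
  obtain ⟨T, hT⟩ : ∃ T, T = Y * σl := ⟨_, rfl⟩
  have hTL : ∀ x : K, T * Algebra.lmul k K x = Algebra.lmul k K x * T := by
    intro x
    rw [hT, mul_assoc, hσl, ← mul_assoc, ← hrelY, mul_assoc]
  have hTv : ∀ v : K, T v = v * T 1 := by
    intro v
    have h1 := LinearMap.congr_fun (hTL v) 1
    rw [Module.End.mul_apply, Module.End.mul_apply] at h1
    have h2 : Algebra.lmul k K v 1 = v := mul_one v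
    have h3 : Algebra.lmul k K v (T 1) = v * T 1 := rfl
    rw [h2, h3] at h1
    exact h1
  obtain ⟨c, hcdef⟩ : ∃ c, c = T 1 := ⟨_, rfl⟩
  have hYw : ∀ w, Y w = c * σ.symm w := by
    intro w
    have h1 : T (σ.symm w) = Y w := by
      rw [hT, Module.End.mul_apply]
      show Y (σ (σ.symm w)) = Y w
      rw [AlgEquiv.apply_symm_apply]
    rw [← h1, hTv, ← hcdef, mul_comm]
  have hτ := zpowers_symm σ hσ
  refine ⟨c, ?_⟩
  have h1 := twist_pow_finrank σ.symm hτ c Y hYw 1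
  rw [hYm, Module.algebraMap_end_apply, mul_one, Algebra.smul_def, mul_one] at h1
  exact ((algebraMap k K).injective h1).symm

theorem cyclic_split_iff (σ : K ≃ₐ[k] K) (hσ : ∀ τ : K ≃ₐ[k] K, τ ∈ Subgroup.zpowers σ)
    (b : kˣ) {A : Type w} [Ring A] [Algebra k A] [IsSimpleRing A]
    (ι : K →ₐ[k] A) (y : A) (hym : y ^ Module.finrank k K = algebraMap k A (b : k))
    (hrel : ∀ x : K, ι x * y = y * ι (σ x))
    (hgen : Algebra.adjoin k (Set.range ι ∪ {y}) = ⊤)
    (hdim : Module.finrank k A = Module.finrank k K ^ 2) :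
    (∃ n : ℕ, n ≠ 0 ∧ Nonempty (A ≃ₐ[k] Matrix (Fin n) (Fin n) k)) ↔
      ∃ x : K, Algebra.norm k x = (b : k) := by
  constructor
  · rintro ⟨n, hn, ⟨θ⟩⟩
    exact norm_of_split σ hσ b ι y hym hrel hdim n hn θ
  · rintro ⟨c, hc⟩
    obtain ⟨e⟩ := split_of_norm σ hσ b ι y hym hrel hgen hdim c hc
    exact ⟨Module.finrank k K, Module.finrank_pos.ne',
      ⟨e.trans (algEquivMatrix (Module.finBasis k K))⟩⟩

end H6CycNorm
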