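import Mathlib
import Groth.Agent.Lib.helper6.CSATensor
import Groth.Agent.Lib.helper6.CSASplit

/-! Tensor powers (`PiTensorProduct` over `Fin e`) as algebras: `T^{e+f} ≅ T^e ⊗ T^f`,
`T^1 ≅ A`, central simplicity, and moving matrices through tensor products. -/

namespace H6TPow

open TensorProduct PiTensorProduct

universe u v w

section General

variable {k : Type u} [CommRing k]

theorem map_mul_of_span {X : Type*} {Y : Type*} [Ring X] [Algebra k X] [Ring Y] [Algebra k Y]
    (L : X →ₗ[k] Y) (S : Set X) (hS : Submodule.span k S = ⊤)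
    (h : ∀ s ∈ S, ∀ s' ∈ S, L (s * s') = L s * L s') : ∀ x y, L (x * y) = L x * L y := by
  have step : ∀ s ∈ S, ∀ y, L (s * y) = L s * L y := by
    intro s hs y
    have hy : y ∈ Submodule.span k S := by rw [hS]; trivial
    induction hy using Submodule.span_induction with
    | mem s' hs' => exact h s hs s' hs'
    | zero => simp
    | add a b _ _ ha hb => rw [mul_add, map_add, map_add, ha, hb, mul_add]
    | smul r a _ ha => rw [mul_smul_comm, map_smul, map_smul, ha, mul_smul_comm]
  intro x y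
  have hx : x ∈ Submodule.span k S := by rw [hS]; trivial
  induction hx using Submodule.span_induction with
  | mem s hs => exact step s hs y
  | zero => simp
  | add a b _ _ ha hb => rw [add_mul, map_add, map_add, ha, hb, add_mul]
  | smul r a _ ha => rw [smul_mul_assoc, map_smul, map_smul, ha, smul_mul_assoc]

theorem span_pure (ι₁ ι₂ : Type*) (A : Type v) [Ring A] [Algebra k A] :
    Submodule.span k {x : (⨂[k] _ : ι₁, A) ⊗[k] (⨂[k] _ : ι₂, A) |
      ∃ (a : ι₁ → A) (b : ι₂ → A), x = PiTensorProduct.tprod k a ⊗ₜ[k] PiTensorProduct.tprod k b} = ⊤ := by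
  rw [eq_top_iff, ← TensorProduct.span_tmul_eq_top, Submodule.span_le]
  rintro _ ⟨p, q, rfl⟩
  have hp : p ∈ Submodule.span k (Set.range (PiTensorProduct.tprod k)) := by rw [span_tprod_eq_top]; trivial
  have hq : q ∈ Submodule.span k (Set.range (PiTensorProduct.tprod k)) := by rw [span_tprod_eq_top]; trivial
  induction hp using Submodule.span_induction with
  | mem p' hp' =>
    obtain ⟨a, rfl⟩ := hp'
    induction hq using Submodule.span_induction with
    | mem q' hq' =>
      obtain ⟨b, rfl⟩ := hq'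
      exact Submodule.subset_span ⟨a, b, rfl⟩
    | zero => rw [tmul_zero]; exact zero_mem _
    | add x y _ _ hx hy => rw [tmul_add]; exact add_mem hx hy
    | smul r x _ hx => rw [tmul_smul]; exact Submodule.smul_mem _ r hx
  | zero => rw [zero_tmul]; exact zero_mem _
  | add x y _ _ hx hy => rw [add_tmul]; exact add_mem hx hy
  | smul r x _ hx => rw [← smul_tmul']; exact Submodule.smul_mem _ r hx

variable (k) (A : Type v) [Ring A] [Algebra k A]

noncomputable def addLin (e f : ℕ) :
    (⨂[k] _ : Fin e, A) ⊗[k] (⨂[k] _ : Fin f, A) ≃ₗ[k] ⨂[k] _ : Fin (e + f), A :=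
  (tmulEquiv k A).trans (reindex k (fun _ => A) finSumFinEquiv)

lemma addLin_tprod (e f : ℕ) (a : Fin e → A) (b : Fin f → A) :
    addLin k A e f (PiTensorProduct.tprod k a ⊗ₜ[k] PiTensorProduct.tprod k b)
      = PiTensorProduct.tprod k (fun i => Sum.elim a b (finSumFinEquiv.symm i)) := by
  unfold addLin
  rw [LinearEquiv.trans_apply, tmulEquiv_apply, reindex_tprod]

noncomputable def addEquiv (e f : ℕ) :
    (⨂[k] _ : Fin e, A) ⊗[k] (⨂[k] _ : Fin f, A) ≃ₐ[k] ⨂[k] _ : Fin (e + f), A :=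
  AlgEquiv.ofLinearEquiv (addLin k A e f)
    (by
      show addLin k A e f ((PiTensorProduct.tprod k (1 : Fin e → A)) ⊗ₜ[k] (PiTensorProduct.tprod k (1 : Fin f → A)))
        = PiTensorProduct.tprod k (1 : Fin (e + f) → A)
      rw [addLin_tprod]
      congr 1; funext i
      rcases finSumFinEquiv.symm i with j | j <;> rfl)
    (by
      apply map_mul_of_span (addLin k A e f).toLinearMap _ (span_pure (Fin e) (Fin f) A)
      rintro _ ⟨a, b, rfl⟩ _ ⟨a', b', rfl⟩
      show addLin k A e f (_ * _) = addLin k A e f _ * addLin k A e f _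
      rw [Algebra.TensorProduct.tmul_mul_tmul, tprod_mul_tprod, tprod_mul_tprod, addLin_tprod,
        addLin_tprod, addLin_tprod, tprod_mul_tprod]
      congr 1; funext i
      show Sum.elim (a * a') (b * b') (finSumFinEquiv.symm i)
        = Sum.elim a b (finSumFinEquiv.symm i) * Sum.elim a' b' (finSumFinEquiv.symm i)
      rcases finSumFinEquiv.symm i with j | j <;> rfl)

noncomputable def oneEquiv : (⨂[k] _ : Fin 1, A) ≃ₐ[k] A :=
  AlgEquiv.ofLinearEquiv (subsingletonEquiv (R := k) (s := fun _ : Fin 1 => A) (0 : Fin 1))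
    (by
      show subsingletonEquiv (R := k) (s := fun _ : Fin 1 => A) (0 : Fin 1)
        (PiTensorProduct.tprod k (1 : Fin 1 → A)) = 1
      rw [subsingletonEquiv_apply_tprod]; rfl)
    (by
      apply map_mul_of_span
        (subsingletonEquiv (R := k) (s := fun _ : Fin 1 => A) (0 : Fin 1)).toLinearMap _
        span_tprod_eq_top
      rintro _ ⟨a, rfl⟩ _ ⟨a', rfl⟩
      show subsingletonEquiv (R := k) (s := fun _ : Fin 1 => A) (0 : Fin 1)
          (PiTensorProduct.tprod k a * PiTensorProduct.tprod k a')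
        = subsingletonEquiv (R := k) (s := fun _ : Fin 1 => A) (0 : Fin 1) (PiTensorProduct.tprod k a)
          * subsingletonEquiv (R := k) (s := fun _ : Fin 1 => A) (0 : Fin 1) (PiTensorProduct.tprod k a')
      rw [tprod_mul_tprod, subsingletonEquiv_apply_tprod, subsingletonEquiv_apply_tprod,
        subsingletonEquiv_apply_tprod]
      rfl)

noncomputable def succEquiv (e : ℕ) :
    (⨂[k] _ : Fin (e + 1), A) ≃ₐ[k] (⨂[k] _ : Fin e, A) ⊗[k] A :=
  (addEquiv k A e 1).symm.trans (Algebra.TensorProduct.congr AlgEquiv.refl (oneEquiv k A))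

noncomputable def matTensor (n : ℕ) (X : Type w) [Ring X] [Algebra k X] :
    Matrix (Fin n) (Fin n) X ⊗[k] A ≃ₐ[k] Matrix (Fin n) (Fin n) (X ⊗[k] A) :=
  (Algebra.TensorProduct.congr (matrixEquivTensor (Fin n) k X) (AlgEquiv.refl : A ≃ₐ[k] A)).trans
  ((Algebra.TensorProduct.assoc k k k X (Matrix (Fin n) (Fin n) k) A).trans
  ((Algebra.TensorProduct.congr (AlgEquiv.refl : X ≃ₐ[k] X)
      (Algebra.TensorProduct.comm k (Matrix (Fin n) (Fin n) k) A)).trans
  ((Algebra.TensorProduct.assoc k k k X A (Matrix (Fin n) (Fin n) k)).symm.trans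
  (matrixEquivTensor (Fin n) k (X ⊗[k] A)).symm)))

end General

section CSA

variable {K : Type u} [Field K] {L : Type w} [Ring L] [Algebra K L] {A : Type v} [Ring A]
  [Algebra K A]

theorem central_tensor' [Algebra.IsCentral K L] [Algebra.IsCentral K A] [Nontrivial A] :
    Algebra.IsCentral K (L ⊗[K] A) := by
  classical
  refine ⟨fun z hz => ?_⟩
  rw [Subalgebra.mem_center_iff] at hz
  let b := Module.Basis.ofVectorSpace K L
  obtain ⟨S, a, rfl⟩ := H6CSA2.exists_rep b z
  have hcen : ∀ i ∈ S, ∃ κ : K, a i = algebraMap K A κ := by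
    intro i hi
    have hmemc : a i ∈ Subalgebra.center K A := by
      rw [Subalgebra.mem_center_iff]
      intro c
      have h0 : ∑ j ∈ S, b j ⊗ₜ[K] (c * a j - a j * c) = 0 := by
        have h3 : ∑ j ∈ S, b j ⊗ₜ[K] (c * a j - a j * c)
            = ((1 : L) ⊗ₜ[K] c) * (∑ i ∈ S, b i ⊗ₜ[K] a i)
              - (∑ i ∈ S, b i ⊗ₜ[K] a i) * ((1 : L) ⊗ₜ[K] c) := by
          rw [H6CSA2.one_tmul_mul_sum, H6CSA2.sum_mul_one_tmul, ← Finset.sum_sub_distrib]
          exact Finset.sum_congr rfl fun i _ => tmul_sub _ _ _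
        rw [h3, hz ((1 : L) ⊗ₜ[K] c), sub_self]
      have h := congrArg (H6CSA2.Θ (b.coord i)) h0
      rw [H6CSA2.Θ_coord_sum, map_zero, if_pos hi] at h
      exact sub_eq_zero.mp h
    have hbot : a i ∈ (⊥ : Subalgebra K A) :=
      (Algebra.IsCentral.out : Subalgebra.center K A ≤ ⊥) hmemc
    obtain ⟨κ, hκ⟩ := Algebra.mem_bot.mp hbot
    exact ⟨κ, hκ.symm⟩
  choose! κ hκ using hcen
  have hzeq : ∑ i ∈ S, b i ⊗ₜ[K] a i = (∑ i ∈ S, κ i • b i) ⊗ₜ[K] (1 : A) := by
    rw [TensorProduct.sum_tmul]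
    refine Finset.sum_congr rfl fun i hi => ?_
    rw [hκ i hi, Algebra.algebraMap_eq_smul_one]
    exact (TensorProduct.smul_tmul _ _ _).symm
  rw [hzeq] at hz ⊢
  obtain ⟨l, hl⟩ : ∃ l, l = ∑ i ∈ S, κ i • b i := ⟨_, rfl⟩
  rw [← hl] at hz ⊢
  have hlc : l ∈ Subalgebra.center K L := by
    rw [Subalgebra.mem_center_iff]
    intro l'
    have h1 := hz (l' ⊗ₜ[K] (1 : A))
    rw [Algebra.TensorProduct.tmul_mul_tmul, Algebra.TensorProduct.tmul_mul_tmul, mul_one] at h1
    have hinj : Function.Injective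
        (Algebra.TensorProduct.includeLeft : L →ₐ[K] L ⊗[K] A) :=
      Algebra.TensorProduct.includeLeft_injective (algebraMap K A).injective
    exact hinj h1
  obtain ⟨κ0, hκ0⟩ := Algebra.mem_bot.mp
    ((Algebra.IsCentral.out : Subalgebra.center K L ≤ ⊥) hlc)
  rw [Algebra.mem_bot]
  exact ⟨κ0, by rw [Algebra.TensorProduct.algebraMap_apply, hκ0]⟩

theorem tpow_csa (A : Type v) [Ring A] [Algebra K A] [Algebra.IsCentral K A] [IsSimpleRing A] :
    ∀ e : ℕ, 0 < e → Algebra.IsCentral K (⨂[K] _ : Fin e, A) ∧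
      IsSimpleRing (⨂[K] _ : Fin e, A) := by
  intro e he
  induction e with
  | zero => omega
  | succ e ih =>
    rcases Nat.eq_zero_or_pos e with rfl | hpos
    · have φ : (⨂[K] _ : Fin (0 + 1), A) ≃ₐ[K] A := oneEquiv K A
      exact ⟨H6CSA.central_of_algEquiv (F := K) φ.symm,
        IsSimpleRing.of_ringEquiv φ.symm.toRingEquiv inferInstance⟩
    · obtain ⟨hc, hs⟩ := ih hpos
      haveI := hc
      haveI := hs
      haveI : IsSimpleRing ((⨂[K] _ : Fin e, A) ⊗[K] A) :=
        H6CSA2.simple_tensor' (K := K) (L := (⨂[K] _ : Fin e, A)) (A := A)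
      haveI : Algebra.IsCentral K ((⨂[K] _ : Fin e, A) ⊗[K] A) := central_tensor'
      have φ := succEquiv K A e
      exact ⟨H6CSA.central_of_algEquiv (F := K) φ.symm,
        IsSimpleRing.of_ringEquiv φ.symm.toRingEquiv inferInstance⟩

end CSA

end H6TPow
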