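import Mathlib
import Groth.Prelude.Def_GSzCSA
import Groth.Agent.Lib.helper6.TPow
import Groth.Agent.Lib.helper6.BrauerBasics
import Groth.Agent.Lib.helper6.BrauerBasics2
import Groth.Agent.S0193

/-! Period of a central simple algebra via tensor powers; index under powers. -/

namespace H6Per

open TensorProduct PiTensorProduct

universe u v w w'

section Sp

variable {k : Type u} [Field k]

/-- split over the base field, in `≃ₐ` form -/
def Sp (k : Type u) [Field k] (X : Type v) [Ring X] [Algebra k X] : Prop :=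
  ∃ n : ℕ, n ≠ 0 ∧ Nonempty (X ≃ₐ[k] Matrix (Fin n) (Fin n) k)

theorem splits_iff (X : Type v) [Ring X] [Algebra k X] : Curves.Splits k X k ↔ Sp k X := by
  constructor
  · rintro ⟨n, hn, ⟨e⟩⟩
    exact ⟨n, hn, ⟨(Algebra.TensorProduct.lid k X).symm.trans e⟩⟩
  · rintro ⟨n, hn, ⟨e⟩⟩
    exact ⟨n, hn, ⟨(Algebra.TensorProduct.lid k X).trans e⟩⟩

theorem sp_congr {X : Type v} {Y : Type w} [Ring X] [Algebra k X] [Ring Y] [Algebra k Y]
    (e : X ≃ₐ[k] Y) : Sp k X ↔ Sp k Y :=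
  ⟨fun ⟨n, hn, ⟨f⟩⟩ => ⟨n, hn, ⟨e.symm.trans f⟩⟩, fun ⟨n, hn, ⟨f⟩⟩ => ⟨n, hn, ⟨e.trans f⟩⟩⟩

theorem sp_tensor {X : Type v} {Y : Type w} [Ring X] [Algebra k X] [Ring Y] [Algebra k Y]
    (hX : Sp k X) (hY : Sp k Y) : Sp k (X ⊗[k] Y) := by
  classical
  obtain ⟨n, hn, ⟨f⟩⟩ := hX
  obtain ⟨m, hm, ⟨g⟩⟩ := hY
  refine ⟨n * m, Nat.mul_ne_zero hn hm, ⟨?_⟩⟩
  exact (Algebra.TensorProduct.congr f (AlgEquiv.refl : Y ≃ₐ[k] Y)).trans
    ((H6TPow.matTensor k Y n k).trans
      (((Algebra.TensorProduct.lid k Y).mapMatrix (m := Fin n)).trans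
        ((g.mapMatrix (m := Fin n)).trans
          ((Matrix.compAlgEquiv (Fin n) (Fin m) k k).trans
            (Matrix.reindexAlgEquiv k k finProdFinEquiv)))))

theorem sp_cancel {X : Type v} {Y : Type w} [Ring X] [Algebra k X] [Ring Y] [Algebra k Y]
    [Algebra.IsCentral k Y] [IsSimpleRing Y] [FiniteDimensional k Y]
    (hX : Sp k X) (hXY : Sp k (X ⊗[k] Y)) : Sp k Y := by
  classical
  obtain ⟨n, hn, ⟨f⟩⟩ := hX
  obtain ⟨N, hN, ⟨F⟩⟩ := hXY
  have e1 : Matrix (Fin n) (Fin n) Y ≃ₐ[k] Matrix (Fin N) (Fin N) k :=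
    (((Algebra.TensorProduct.lid k Y).symm.mapMatrix (m := Fin n)).trans
      ((H6TPow.matTensor k Y n k).symm.trans
        ((Algebra.TensorProduct.congr f.symm (AlgEquiv.refl : Y ≃ₐ[k] Y)).trans F)))
  haveI : IsArtinianRing Y := IsArtinianRing.of_finite k Y
  obtain ⟨c, hc, D, _, _, _, ⟨eW⟩⟩ := IsSimpleRing.exists_algEquiv_matrix_divisionRing_finite k Y
  haveI : Algebra.IsCentral k (Matrix (Fin c) (Fin c) D) :=
    H6CSA.central_of_algEquiv (F := k) eW
  haveI : Algebra.IsCentral k D := H6Br.central_of_matrix_central c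
  have hc0 : c ≠ 0 := NeZero.ne c
  let e2 : Matrix (Fin (n * c)) (Fin (n * c)) D ≃ₐ[k] Matrix (Fin N) (Fin N) k :=
    ((Matrix.reindexAlgEquiv k D finProdFinEquiv).symm.trans
      ((Matrix.compAlgEquiv (Fin n) (Fin c) D k).symm.trans
        ((eW.symm.mapMatrix (m := Fin n)).trans e1)))
  obtain ⟨δ⟩ := Groth.Agent.S0193.result k D k (n * c) N (Nat.mul_ne_zero hn hc0) hN e2
  exact ⟨c, hc0, ⟨eW.trans (δ.mapMatrix (m := Fin c))⟩⟩

end Sp

section TP

variable (k : Type u) [Field k] (A : Type v) [Ring A] [Algebra k A]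

noncomputable def castEquiv {e f : ℕ} (h : e = f) :
    (⨂[k] _ : Fin e, A) ≃ₐ[k] ⨂[k] _ : Fin f, A := by
  subst h; exact AlgEquiv.refl

noncomputable def zeroEquiv : (⨂[k] _ : Fin 0, A) ≃ₐ[k] k :=
  AlgEquiv.ofLinearEquiv (isEmptyEquiv (Fin 0))
    (by
      show isEmptyEquiv (Fin 0) (PiTensorProduct.tprod k (1 : Fin 0 → A)) = 1
      rw [isEmptyEquiv_apply_tprod])
    (by
      apply H6TPow.map_mul_of_span
        (isEmptyEquiv (R := k) (s := fun _ : Fin 0 => A) (Fin 0)).toLinearMap _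
        span_tprod_eq_top
      rintro _ ⟨a, rfl⟩ _ ⟨a', rfl⟩
      show isEmptyEquiv (Fin 0) (PiTensorProduct.tprod k a * PiTensorProduct.tprod k a')
        = isEmptyEquiv (Fin 0) (PiTensorProduct.tprod k a)
          * isEmptyEquiv (Fin 0) (PiTensorProduct.tprod k a')
      rw [tprod_mul_tprod, isEmptyEquiv_apply_tprod, isEmptyEquiv_apply_tprod,
        isEmptyEquiv_apply_tprod, mul_one])

theorem tpow_tpow (r : ℕ) : ∀ s : ℕ, 1 ≤ s →
    Nonempty ((⨂[k] _ : Fin s, (⨂[k] _ : Fin r, A)) ≃ₐ[k] ⨂[k] _ : Fin (r * s), A) := by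
  intro s hs
  induction s, hs using Nat.le_induction with
  | base =>
    exact ⟨(H6TPow.oneEquiv k (⨂[k] _ : Fin r, A)).trans (castEquiv k A (mul_one r).symm)⟩
  | succ s hs ih =>
    obtain ⟨f⟩ := ih
    exact ⟨(H6TPow.succEquiv k (⨂[k] _ : Fin r, A) s).trans
      ((Algebra.TensorProduct.congr f AlgEquiv.refl).trans
        ((H6TPow.addEquiv k A (r * s) r).trans (castEquiv k A (Nat.mul_succ r s).symm)))⟩

theorem split_tpow_mul (p : ℕ) (hp : Sp k (⨂[k] _ : Fin p, A)) :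
    ∀ q : ℕ, 1 ≤ q → Sp k (⨂[k] _ : Fin (p * q), A) := by
  intro q hq
  induction q, hq using Nat.le_induction with
  | base => exact (sp_congr (castEquiv k A (mul_one p).symm)).mp hp
  | succ q hq ih =>
    have h1 := sp_tensor ih hp
    exact (sp_congr ((H6TPow.addEquiv k A (p * q) p).trans
      (castEquiv k A (Nat.mul_succ p q).symm))).mp h1

theorem period_dvd_iff [Algebra.IsCentral k A] [IsSimpleRing A] [FiniteDimensional k A]
    (p : ℕ) (hp0 : 0 < p) (hsp : Sp k (⨂[k] _ : Fin p, A))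
    (hmin : ∀ e' : ℕ, 0 < e' → e' < p → ¬ Sp k (⨂[k] _ : Fin e', A)) :
    ∀ e : ℕ, 0 < e → (Sp k (⨂[k] _ : Fin e, A) ↔ p ∣ e) := by
  intro e he
  constructor
  · intro hs
    by_contra hnd
    obtain ⟨q, r, hdecomp, hrp⟩ : ∃ q r, e = p * q + r ∧ r < p :=
      ⟨e / p, e % p, (Nat.div_add_mod e p).symm, Nat.mod_lt _ hp0⟩
    have hr : 0 < r := by
      rcases Nat.eq_zero_or_pos r with h | h
      · exfalso; apply hnd; rw [hdecomp, h, add_zero]; exact dvd_mul_right p q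
      · exact h
    rcases Nat.eq_zero_or_pos q with hq | hq
    · have her : e = r := by rw [hdecomp, hq, mul_zero, zero_add]
      rw [her] at hs
      exact hmin r hr hrp hs
    · have h1 : Sp k (⨂[k] _ : Fin (p * q), A) := split_tpow_mul k A p hsp q hq
      have h2 : Sp k ((⨂[k] _ : Fin (p * q), A) ⊗[k] (⨂[k] _ : Fin r, A)) :=
        (sp_congr ((H6TPow.addEquiv k A (p * q) r).trans (castEquiv k A hdecomp.symm))).mpr hs
      obtain ⟨hc, hs'⟩ := H6TPow.tpow_csa (K := k) A r hr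
      haveI := hc
      haveI := hs'
      exact hmin r hr hrp (sp_cancel h1 h2)
  · rintro ⟨q, rfl⟩
    have hq : 1 ≤ q := by
      rcases Nat.eq_zero_or_pos q with h | h
      · rw [h, mul_zero] at he; omega
      · exact h
    exact split_tpow_mul k A p hsp q hq

end TP

section Index

variable {k : Type u} [Field k]

lemma scalar_comm_map {R : Type*} [CommSemiring R] {B : Type*} [Semiring B] [Algebra R B]
    {n : Type*} [Fintype n] [DecidableEq n] (a : B) (N : Matrix n n R) :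
    Matrix.scalar n a * N.map (algebraMap R B) = N.map (algebraMap R B) * Matrix.scalar n a := by
  ext i l
  rw [Matrix.scalar_apply, Matrix.diagonal_mul, Matrix.mul_diagonal, Matrix.map_apply]
  exact (Algebra.commutes _ _).symm

theorem splits_tensor_field {L : Type w} [Field L] [Algebra k L]
    {X : Type v} [Ring X] [Algebra k X] [Algebra.IsCentral k X] [IsSimpleRing X]
    [FiniteDimensional k X]
    {Y : Type w'} [Ring Y] [Algebra k Y] [Algebra.IsCentral k Y] [IsSimpleRing Y]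
    [FiniteDimensional k Y]
    (n m : ℕ) (hn : n ≠ 0) (hm : m ≠ 0)
    (eX : L ⊗[k] X ≃ₐ[L] Matrix (Fin n) (Fin n) L)
    (eY : L ⊗[k] Y ≃ₐ[L] Matrix (Fin m) (Fin m) L) :
    Nonempty (L ⊗[k] (X ⊗[k] Y) ≃ₐ[L] Matrix (Fin (m * n)) (Fin (m * n)) L) := by
  classical
  haveI : NeZero n := ⟨hn⟩
  haveI : NeZero m := ⟨hm⟩
  haveI : IsSimpleRing (X ⊗[k] Y) := H6CSA2.simple_tensor' (K := k) (L := X) (A := Y)
  haveI : Algebra.IsCentral k (X ⊗[k] Y) := H6TPow.central_tensor'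
  haveI : IsSimpleRing (L ⊗[k] (X ⊗[k] Y)) :=
    H6CSA.simple_tensor (K := k) (L := L) (A := X ⊗[k] Y)
  let gX : X →ₐ[k] Matrix (Fin m) (Fin m) (Matrix (Fin n) (Fin n) L) :=
    ((Matrix.scalarAlgHom (Fin m) L :
        Matrix (Fin n) (Fin n) L →ₐ[L] Matrix (Fin m) (Fin m) (Matrix (Fin n) (Fin n) L)).restrictScalars
      k).comp
      (((eX : L ⊗[k] X →ₐ[L] Matrix (Fin n) (Fin n) L).restrictScalars k).comp
        (Algebra.TensorProduct.includeRight : X →ₐ[k] L ⊗[k] X))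
  let gY : Y →ₐ[k] Matrix (Fin m) (Fin m) (Matrix (Fin n) (Fin n) L) :=
    (((Algebra.ofId L (Matrix (Fin n) (Fin n) L)).mapMatrix :
        Matrix (Fin m) (Fin m) L →ₐ[L] Matrix (Fin m) (Fin m) (Matrix (Fin n) (Fin n) L)).restrictScalars
      k).comp
      (((eY : L ⊗[k] Y →ₐ[L] Matrix (Fin m) (Fin m) L).restrictScalars k).comp
        (Algebra.TensorProduct.includeRight : Y →ₐ[k] L ⊗[k] Y))
  have hcomm : ∀ x y, Commute (gX x) (gY y) := by
    intro x y
    exact scalar_comm_map (R := L) (eX ((1 : L) ⊗ₜ[k] x)) (eY ((1 : L) ⊗ₜ[k] y))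
  let g : X ⊗[k] Y →ₐ[k] Matrix (Fin m) (Fin m) (Matrix (Fin n) (Fin n) L) :=
    Algebra.TensorProduct.lift gX gY hcomm
  let G : L ⊗[k] (X ⊗[k] Y) →ₐ[L] Matrix (Fin m) (Fin m) (Matrix (Fin n) (Fin n) L) :=
    Algebra.TensorProduct.lift (Algebra.ofId L _) g
      (fun l z => Algebra.commute_algebraMap_left l (g z))
  have hX : Module.finrank k X = n * n := by
    have h := eX.toLinearEquiv.finrank_eq
    rw [Module.finrank_baseChange, Module.finrank_matrix, Fintype.card_fin, Module.finrank_self,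
      mul_one] at h
    exact h
  have hY : Module.finrank k Y = m * m := by
    have h := eY.toLinearEquiv.finrank_eq
    rw [Module.finrank_baseChange, Module.finrank_matrix, Fintype.card_fin, Module.finrank_self,
      mul_one] at h
    exact h
  have hdim : Module.finrank L (L ⊗[k] (X ⊗[k] Y))
      = Module.finrank L (Matrix (Fin m) (Fin m) (Matrix (Fin n) (Fin n) L)) := by
    rw [Module.finrank_baseChange, Module.finrank_tensorProduct, hX, hY, Module.finrank_matrix,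
      Module.finrank_matrix, Fintype.card_fin, Fintype.card_fin, Module.finrank_self]
    ring
  have hinj : Function.Injective G := RingHom.injective G.toRingHom
  have hsurj : Function.Surjective G :=
    (LinearMap.injective_iff_surjective_of_finrank_eq_finrank (f := G.toLinearMap) hdim).mp hinj
  exact ⟨(AlgEquiv.ofBijective G ⟨hinj, hsurj⟩).trans
    ((Matrix.compAlgEquiv (Fin m) (Fin n) L L).trans
      (Matrix.reindexAlgEquiv L L finProdFinEquiv))⟩

theorem splits_tpow_field {L : Type w} [Field L] [Algebra k L]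
    {X : Type v} [Ring X] [Algebra k X] [Algebra.IsCentral k X] [IsSimpleRing X]
    [FiniteDimensional k X] (n : ℕ) (hn : n ≠ 0)
    (eX : L ⊗[k] X ≃ₐ[L] Matrix (Fin n) (Fin n) L) :
    ∀ i : ℕ, 1 ≤ i → ∃ N : ℕ, N ≠ 0 ∧
      Nonempty (L ⊗[k] (⨂[k] _ : Fin i, X) ≃ₐ[L] Matrix (Fin N) (Fin N) L) := by
  intro i hi
  induction i, hi using Nat.le_induction with
  | base =>
    exact ⟨n, hn, ⟨(Algebra.TensorProduct.congr (AlgEquiv.refl : L ≃ₐ[L] L)
      (H6TPow.oneEquiv k X)).trans eX⟩⟩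
  | succ i hi ih =>
    obtain ⟨N, hN, ⟨eT⟩⟩ := ih
    obtain ⟨hc, hs⟩ := H6TPow.tpow_csa (K := k) X i hi
    haveI := hc
    haveI := hs
    obtain ⟨e'⟩ := splits_tensor_field N n hN hn eT eX
    exact ⟨n * N, Nat.mul_ne_zero hn hN,
      ⟨(Algebra.TensorProduct.congr (AlgEquiv.refl : L ≃ₐ[L] L)
        (H6TPow.succEquiv k X i)).trans e'⟩⟩

theorem splits_of_division {X : Type v} [Ring X] [Algebra k X]
    {D : Type v} [DivisionRing D] [Algebra k D] [Algebra.IsCentral k D] [FiniteDimensional k D]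
    (a : ℕ) (ha : a ≠ 0) (eX : X ≃ₐ[k] Matrix (Fin a) (Fin a) D)
    (x : ℕ) (hx : Module.finrank k D = x ^ 2) :
    ∃ (L : Type v) (_ : Field L) (_ : Algebra k L), FiniteDimensional k L ∧
      Module.finrank k L = x ∧
      Nonempty (L ⊗[k] X ≃ₐ[L] Matrix (Fin (a * x)) (Fin (a * x)) L) := by
  classical
  haveI : NeZero a := ⟨ha⟩
  have hx0 : x ≠ 0 := by
    rintro rfl
    have := Module.finrank_pos (R := k) (M := D)
    rw [hx] at this
    simp at this
  obtain ⟨L, instF, instAlg, hL, ⟨ιL⟩⟩ := H6Br2.exists_maxsubfield (k := k) (D := D) x hx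
  haveI : FiniteDimensional k L :=
    Module.finite_of_finrank_pos (by rw [hL]; exact Nat.pos_of_ne_zero hx0)
  obtain ⟨sL⟩ := H6Br.maxsubfield_splits ιL x hL hx
  obtain ⟨bc⟩ := H6Br.baseChange_matrix_equiv (k := k) L D a
  refine ⟨L, instF, instAlg, inferInstance, hL, ⟨?_⟩⟩
  exact (Algebra.TensorProduct.congr (AlgEquiv.refl : L ≃ₐ[L] L) eX).trans
    (bc.trans ((sL.mapMatrix (m := Fin a)).trans
      ((Matrix.compAlgEquiv (Fin a) (Fin x) L L).trans
        (Matrix.reindexAlgEquiv L L finProdFinEquiv))))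

theorem index_dvd_of_tpow_brauer
    {X : Type v} [Ring X] [Algebra k X] [Algebra.IsCentral k X] [IsSimpleRing X]
    [FiniteDimensional k X]
    {Y : Type w} [Ring Y] [Algebra k Y]
    {DX : Type v} [DivisionRing DX] [Algebra k DX] [Algebra.IsCentral k DX]
    [FiniteDimensional k DX]
    {DY : Type w} [DivisionRing DY] [Algebra k DY] [Algebra.IsCentral k DY]
    [FiniteDimensional k DY]
    (a b : ℕ) (ha : a ≠ 0) (hb : b ≠ 0)
    (eX : X ≃ₐ[k] Matrix (Fin a) (Fin a) DX) (eY : Y ≃ₐ[k] Matrix (Fin b) (Fin b) DY)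
    (x y : ℕ) (hx : Module.finrank k DX = x ^ 2) (hy : Module.finrank k DY = y ^ 2)
    (i n m : ℕ) (hn : n ≠ 0) (hm : m ≠ 0)
    (f : Matrix (Fin n) (Fin n) (⨂[k] _ : Fin i, X) ≃ₐ[k] Matrix (Fin m) (Fin m) Y) :
    y ∣ x := by
  classical
  have hx0 : x ≠ 0 := by
    rintro rfl
    have := Module.finrank_pos (R := k) (M := DX)
    rw [hx] at this
    simp at this
  let g : Matrix (Fin (m * b)) (Fin (m * b)) DY ≃ₐ[k]
      Matrix (Fin n) (Fin n) (⨂[k] _ : Fin i, X) :=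
    (Matrix.reindexAlgEquiv k DY finProdFinEquiv).symm.trans
      ((Matrix.compAlgEquiv (Fin m) (Fin b) DY k).symm.trans
        ((eY.symm.mapMatrix (m := Fin m)).trans f.symm))
  rcases Nat.eq_zero_or_pos i with hi0 | hi
  · subst hi0
    let g' : Matrix (Fin (m * b)) (Fin (m * b)) DY ≃ₐ[k] Matrix (Fin n) (Fin n) k :=
      g.trans ((zeroEquiv k X).mapMatrix (m := Fin n))
    obtain ⟨δ⟩ := Groth.Agent.S0193.result k DY k (m * b) n (Nat.mul_ne_zero hm hb) hn g'
    have h1 : Module.finrank k DY = 1 := by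
      rw [δ.toLinearEquiv.finrank_eq, Module.finrank_self]
    rw [hy] at h1
    have hy1 : y = 1 := (Nat.pow_eq_one.mp h1).resolve_right two_ne_zero
    rw [hy1]; exact one_dvd x
  · obtain ⟨L, instF, instAlg, hfd, hL, ⟨sX⟩⟩ := splits_of_division a ha eX x hx
    obtain ⟨N, hN, ⟨eT⟩⟩ := splits_tpow_field (a * x) (Nat.mul_ne_zero ha hx0) sX i hi
    obtain ⟨hc, hs⟩ := H6TPow.tpow_csa (K := k) X i hi
    haveI := hc
    haveI := hs
    obtain ⟨c, hc0, ⟨eD⟩⟩ := H6Br.splits_of_brauer (k := k) (K := L) (m * b) n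
      (Nat.mul_ne_zero hm hb) hn g N hN eT
    have h2 := H6Br2.index_dvd_of_splits (k := k) (D := DY) y hy c eD
    rwa [hL] at h2

end Index

end H6Per
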