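import Mathlib
import Groth.Agent.Lib.helper6.TPow
import Groth.Agent.Lib.helper6.CSASplit
import Groth.Agent.Lib.helper6.CSATensor

/-! Base change of tensor powers; tensor compatibility of Brauer equivalence. -/

namespace H6TPow2

open TensorProduct PiTensorProduct

universe u v w w' v'

section BC

variable {k : Type u} [Field k]

theorem bcDist (F : Type w) [Field F] [Algebra k F]
    (U : Type v) [Ring U] [Algebra k U] [Algebra.IsCentral k U] [IsSimpleRing U]
    [FiniteDimensional k U]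
    (V : Type v') [Ring V] [Algebra k V] [Algebra.IsCentral k V] [IsSimpleRing V]
    [FiniteDimensional k V] :
    Nonempty ((F ⊗[k] U) ⊗[F] (F ⊗[k] V) ≃ₐ[F] F ⊗[k] (U ⊗[k] V)) := by
  classical
  haveI : IsSimpleRing (F ⊗[k] U) := H6CSA.simple_tensor (K := k) (L := F) (A := U)
  haveI : IsSimpleRing (F ⊗[k] V) := H6CSA.simple_tensor (K := k) (L := F) (A := V)
  haveI : Algebra.IsCentral F (F ⊗[k] V) := H6CSA.central_tensor (K := k) (L := F) (A := V)
  haveI : IsSimpleRing ((F ⊗[k] U) ⊗[F] (F ⊗[k] V)) :=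
    H6CSA2.simple_tensor' (K := F) (L := F ⊗[k] U) (A := F ⊗[k] V)
  let hU : F ⊗[k] U →ₐ[F] F ⊗[k] (U ⊗[k] V) :=
    Algebra.TensorProduct.map (AlgHom.id F F)
      (Algebra.TensorProduct.includeLeft : U →ₐ[k] U ⊗[k] V)
  let hV : F ⊗[k] V →ₐ[F] F ⊗[k] (U ⊗[k] V) :=
    Algebra.TensorProduct.map (AlgHom.id F F)
      (Algebra.TensorProduct.includeRight : V →ₐ[k] U ⊗[k] V)
  have hUt : ∀ (f : F) (u : U), hU (f ⊗ₜ[k] u) = f ⊗ₜ[k] (u ⊗ₜ[k] (1 : V)) := fun f u => rfl
  have hVt : ∀ (f : F) (v : V), hV (f ⊗ₜ[k] v) = f ⊗ₜ[k] ((1 : U) ⊗ₜ[k] v) := fun f v => rfl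
  have hcomm : ∀ x y, Commute (hU x) (hV y) := by
    intro x y
    induction x using TensorProduct.induction_on with
    | zero => rw [map_zero]; exact Commute.zero_left _
    | tmul f u =>
      induction y using TensorProduct.induction_on with
      | zero => rw [map_zero]; exact Commute.zero_right _
      | tmul f' v =>
        show hU (f ⊗ₜ u) * hV (f' ⊗ₜ v) = hV (f' ⊗ₜ v) * hU (f ⊗ₜ u)
        rw [hUt, hVt, Algebra.TensorProduct.tmul_mul_tmul, Algebra.TensorProduct.tmul_mul_tmul,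
          Algebra.TensorProduct.tmul_mul_tmul, Algebra.TensorProduct.tmul_mul_tmul, mul_one,
          one_mul, mul_one, one_mul, mul_comm f f']
      | add y1 y2 h1 h2 => rw [map_add]; exact h1.add_right h2
    | add x1 x2 h1 h2 => rw [map_add]; exact h1.add_left h2
  let G : (F ⊗[k] U) ⊗[F] (F ⊗[k] V) →ₐ[F] F ⊗[k] (U ⊗[k] V) :=
    Algebra.TensorProduct.lift hU hV hcomm
  have hdim : Module.finrank F ((F ⊗[k] U) ⊗[F] (F ⊗[k] V))
      = Module.finrank F (F ⊗[k] (U ⊗[k] V)) := by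
    rw [Module.finrank_tensorProduct, Module.finrank_baseChange, Module.finrank_baseChange,
      Module.finrank_baseChange, Module.finrank_tensorProduct]
  haveI : Nontrivial (F ⊗[k] (U ⊗[k] V)) := by
    apply Module.nontrivial_of_finrank_pos (R := F)
    rw [Module.finrank_baseChange, Module.finrank_tensorProduct]
    exact Nat.mul_pos Module.finrank_pos Module.finrank_pos
  have hinj : Function.Injective G := RingHom.injective G.toRingHom
  have hsurj : Function.Surjective G :=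
    (LinearMap.injective_iff_surjective_of_finrank_eq_finrank (f := G.toLinearMap) hdim).mp hinj
  exact ⟨AlgEquiv.ofBijective G ⟨hinj, hsurj⟩⟩

theorem tpowBC (F : Type w) [Field F] [Algebra k F]
    (X : Type v) [Ring X] [Algebra k X] [Algebra.IsCentral k X] [IsSimpleRing X]
    [FiniteDimensional k X] : ∀ e : ℕ, 1 ≤ e →
    Nonempty (F ⊗[k] (⨂[k] _ : Fin e, X) ≃ₐ[F] ⨂[F] _ : Fin e, (F ⊗[k] X)) := by
  intro e he
  induction e, he using Nat.le_induction with
  | base =>
    exact ⟨(Algebra.TensorProduct.congr (AlgEquiv.refl : F ≃ₐ[F] F) (H6TPow.oneEquiv k X)).trans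
      (H6TPow.oneEquiv F (F ⊗[k] X)).symm⟩
  | succ e he ih =>
    obtain ⟨f⟩ := ih
    obtain ⟨hc, hs⟩ := H6TPow.tpow_csa (K := k) X e he
    haveI := hc
    haveI := hs
    obtain ⟨bd⟩ := bcDist (k := k) F (⨂[k] _ : Fin e, X) X
    exact ⟨(Algebra.TensorProduct.congr (AlgEquiv.refl : F ≃ₐ[F] F)
        (H6TPow.succEquiv k X e)).trans
      (bd.symm.trans
        ((Algebra.TensorProduct.congr f (AlgEquiv.refl : F ⊗[k] X ≃ₐ[F] F ⊗[k] X)).trans
          (H6TPow.succEquiv F (F ⊗[k] X) e).symm))⟩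

end BC

section TC

variable (k : Type u) [Field k]

noncomputable def matTensor2 (s s' : ℕ) (U : Type v) (V : Type w) [Ring U] [Algebra k U]
    [Ring V] [Algebra k V] :
    Matrix (Fin s) (Fin s) U ⊗[k] Matrix (Fin s') (Fin s') V ≃ₐ[k]
      Matrix (Fin (s * s')) (Fin (s * s')) (U ⊗[k] V) :=
  (H6TPow.matTensor k (Matrix (Fin s') (Fin s') V) s U).trans
  ((((Algebra.TensorProduct.comm k U (Matrix (Fin s') (Fin s') V)).trans
      ((H6TPow.matTensor k U s' V).trans
        ((Algebra.TensorProduct.comm k V U).mapMatrix (m := Fin s')))).mapMatrix (m := Fin s)).trans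
  ((Matrix.compAlgEquiv (Fin s) (Fin s') (U ⊗[k] V) k).trans
    (Matrix.reindexAlgEquiv k (U ⊗[k] V) finProdFinEquiv)))

theorem brauer_tensor {U : Type v} {U' : Type v'} {V : Type w} {V' : Type w'}
    [Ring U] [Algebra k U] [Ring U'] [Algebra k U'] [Ring V] [Algebra k V] [Ring V'] [Algebra k V']
    (s t s' t' : ℕ) (f : Matrix (Fin s) (Fin s) U ≃ₐ[k] Matrix (Fin t) (Fin t) U')
    (g : Matrix (Fin s') (Fin s') V ≃ₐ[k] Matrix (Fin t') (Fin t') V') :
    Nonempty (Matrix (Fin (s * s')) (Fin (s * s')) (U ⊗[k] V) ≃ₐ[k]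
      Matrix (Fin (t * t')) (Fin (t * t')) (U' ⊗[k] V')) :=
  ⟨(matTensor2 k s s' U V).symm.trans
    ((Algebra.TensorProduct.congr f g).trans (matTensor2 k t t' U' V'))⟩

end TC

end H6TPow2
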