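import Mathlib
import Groth.Prelude.Def_GSzCSA
import Groth.Agent.S13269
import Groth.Agent.S13293
import Groth.Agent.Lib.helper6.CyclicLift
import Groth.Agent.Lib.helper6.CyclicNorm
import Groth.Agent.Lib.helper6.CyclicMatrix
import Groth.Agent.Lib.helper6.TPow
import Groth.Agent.Lib.helper6.TPow2
import Groth.Agent.Lib.helper6.BrauerBasics
import Groth.Agent.Lib.helper6.BrauerBasics2
import Groth.Agent.Lib.helper6.Period

/-! Tensor powers of algebras Brauer equivalent to a cyclic algebra; algebras split by a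
Galois `p`-extension are killed by a power of `p`. -/

namespace H6CycPow

open TensorProduct PiTensorProduct

universe u v w w'

theorem brauer_cyclic_pow (k : Type u) [Field k] (K : Type v) [Field K] [Algebra k K]
    [FiniteDimensional k K] [IsGalois k K] (σ : K ≃ₐ[k] K)
    (hσ : ∀ τ : K ≃ₐ[k] K, τ ∈ Subgroup.zpowers σ)
    (b : kˣ) (C : Type w) [Ring C] [Algebra k C] (hC : CSAGal.IsCyclicAlg k K σ b C)
    (X : Type w') [Ring X] [Algebra k X] [Algebra.IsCentral k X] [IsSimpleRing X]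
    [FiniteDimensional k X]
    (s₁ t₁ : ℕ) (hs₁ : s₁ ≠ 0) (ht₁ : t₁ ≠ 0)
    (f₁ : Matrix (Fin s₁) (Fin s₁) X ≃ₐ[k] Matrix (Fin t₁) (Fin t₁) C) :
    ∀ e : ℕ, 0 < e →
      (H6Per.Sp k (⨂[k] _ : Fin e, X) ↔ ∃ x : K, Algebra.norm k x = (b : k) ^ e) := by
  classical
  obtain ⟨hcen, hsim, -⟩ := Groth.Agent.S13269.result k K σ hσ b C hC
  obtain ⟨ι, y, hym, hrel, hgen, hm, hdim⟩ := hC
  have hpos : 0 < Module.finrank k K ^ 2 := pow_pos hm 2
  haveI : FiniteDimensional k C := Module.finite_of_finrank_pos (by rw [hdim]; exact hpos)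
  have hmodel : ∀ e : ℕ, ∃ B : Subalgebra k
      (Matrix (Fin (Module.finrank k K)) (Fin (Module.finrank k K)) K),
      CSAGal.IsCyclicAlg k K σ (b ^ e) B := by
    intro e
    obtain ⟨B, -, h⟩ := H6CycMat.cyclic_matrix_model (Module.finrank k K) rfl σ hσ (b ^ e)
    exact ⟨B, h⟩
  have hQ : ∀ e : ℕ, 1 ≤ e → ∃ B : Subalgebra k
      (Matrix (Fin (Module.finrank k K)) (Fin (Module.finrank k K)) K),
      CSAGal.IsCyclicAlg k K σ (b ^ e) B ∧ ∃ s t : ℕ, s ≠ 0 ∧ t ≠ 0 ∧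
        Nonempty (Matrix (Fin s) (Fin s) (⨂[k] _ : Fin e, X) ≃ₐ[k]
          Matrix (Fin t) (Fin t) B) := by
    intro e he
    induction e, he using Nat.le_induction with
    | base =>
      obtain ⟨B, hB⟩ := hmodel 1
      refine ⟨B, hB, s₁, t₁, hs₁, ht₁, ?_⟩
      obtain ⟨ι₁, y₁, hym₁, hrel₁, hgen₁, -, hdim₁⟩ := hB
      rw [pow_one] at hym₁
      obtain ⟨eCB⟩ := H6Lift.cyclic_unique σ hσ b ι y hym hrel hgen hdim ι₁ y₁ hym₁ hrel₁ hdim₁
      exact ⟨((H6TPow.oneEquiv k X).mapMatrix (m := Fin s₁)).trans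
        (f₁.trans (eCB.mapMatrix (m := Fin t₁)))⟩
    | succ e he ih =>
      obtain ⟨B, hB, s, t, hs, ht, ⟨f⟩⟩ := ih
      obtain ⟨B', hB'⟩ := hmodel (e + 1)
      refine ⟨B', hB', s * s₁, t * t₁ * Module.finrank k K, Nat.mul_ne_zero hs hs₁,
        Nat.mul_ne_zero (Nat.mul_ne_zero ht ht₁) hm.ne', ?_⟩
      obtain ⟨-, hsimB, -⟩ := Groth.Agent.S13269.result k K σ hσ (b ^ e) B hB
      obtain ⟨ιe, ye, hyme, hrele, hgene, -, hdime⟩ := hB
      obtain ⟨j, z, hzm, hjz, -, -, hdimz⟩ := hB'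
      rw [pow_succ] at hzm
      obtain ⟨g⟩ := H6Lift.cyclic_tensor_equiv σ hσ (b ^ e) b ιe ye hyme hrele hgene hdime
        ι y hym hrel hgen hdim j z hzm hjz hdimz
      obtain ⟨h⟩ := H6TPow2.brauer_tensor k s t s₁ t₁ f f₁
      exact ⟨((H6TPow.succEquiv k X e).mapMatrix (m := Fin (s * s₁))).trans
        (h.trans ((g.mapMatrix (m := Fin (t * t₁))).trans
          ((Matrix.compAlgEquiv (Fin (t * t₁)) (Fin (Module.finrank k K)) B' k).trans
            (Matrix.reindexAlgEquiv k B' finProdFinEquiv))))⟩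
  intro e he
  obtain ⟨B, hB, s, t, hs, ht, ⟨f⟩⟩ := hQ e he
  obtain ⟨hcenB, hsimB, -⟩ := Groth.Agent.S13269.result k K σ hσ (b ^ e) B hB
  obtain ⟨ιe, ye, hyme, hrele, hgene, -, hdime⟩ := hB
  haveI : FiniteDimensional k B := Module.finite_of_finrank_pos (by rw [hdime]; exact hpos)
  obtain ⟨hcenT, hsimT⟩ := H6TPow.tpow_csa (K := k) X e he
  have h1 : Curves.Splits k (⨂[k] _ : Fin e, X) k ↔ Curves.Splits k B k := by
    constructor
    · rintro ⟨r, hr, ⟨eT⟩⟩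
      exact H6Br.splits_of_brauer (k := k) (K := k) t s ht hs f.symm r hr eT
    · rintro ⟨r, hr, ⟨eB⟩⟩
      exact H6Br.splits_of_brauer (k := k) (K := k) s t hs ht f r hr eB
  rw [← H6Per.splits_iff, h1, H6Per.splits_iff]
  unfold H6Per.Sp
  rw [H6CycNorm.cyclic_split_iff σ hσ (b ^ e) ιe ye hyme hrele hgene hdime,
    Units.val_pow_eq_pow_val]

theorem pow_split (p : ℕ) [hp : Fact p.Prime] : ∀ n : ℕ, ∀ (F : Type u) [Field F] (E : Type u)
    [Field E] [Algebra F E] [FiniteDimensional F E] [IsGalois F E]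
    (_ : Module.finrank F E = p ^ n)
    (B : Type (max u v)) [Ring B] [Algebra F B] [Algebra.IsCentral F B] [IsSimpleRing B]
    [FiniteDimensional F B] (_ : Curves.Splits F B E),
    ∃ j : ℕ, H6Per.Sp F (⨂[F] _ : Fin (p ^ j), B) := by
  intro n
  induction n with
  | zero =>
    intro F _ E _ _ _ _ hdeg B _ _ _ _ _ hB
    rw [pow_zero] at hdeg
    obtain ⟨N, hN, ⟨eB⟩⟩ := hB
    have hbij : Function.Bijective (algebraMap F E) :=
      Algebra.bijective_algebraMap_iff.2 (Subalgebra.bot_eq_top_of_finrank_eq_one hdeg).symm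
    let e₀ : F ≃ₐ[F] E := AlgEquiv.ofBijective (Algebra.ofId F E) hbij
    refine ⟨0, N, hN, ⟨?_⟩⟩
    exact (H6Per.castEquiv F B (pow_zero p)).trans ((H6TPow.oneEquiv F B).trans
      ((Algebra.TensorProduct.lid F B).symm.trans
        ((Algebra.TensorProduct.congr e₀ (AlgEquiv.refl : B ≃ₐ[F] B)).trans
          ((eB.restrictScalars F).trans (e₀.symm.mapMatrix (m := Fin N))))))
  | succ n ih =>
    intro F _ E _ _ _ _ hdeg B _ _ _ _ _ hB
    classical
    have hp' := hp.out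
    have hcardG : Nat.card (E ≃ₐ[F] E) = p ^ (n + 1) := by
      rw [IsGalois.card_aut_eq_finrank, hdeg]
    obtain ⟨H, hH⟩ := Sylow.exists_subgroup_card_pow_prime (G := E ≃ₐ[F] E) p (n := n)
      (by rw [hcardG]; exact pow_dvd_pow p (Nat.le_succ n))
    have hidx : H.index = p := by
      have h1 := H.card_mul_index
      rw [hH, hcardG, pow_succ] at h1
      exact Nat.eq_of_mul_eq_mul_left (pow_pos hp'.pos n) h1
    haveI hnorm : H.Normal := Subgroup.normal_of_index_eq_minFac_card (by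
      rw [hidx, hcardG, Nat.Prime.pow_minFac hp' (Nat.succ_ne_zero n)])
    obtain ⟨F', hFd⟩ : ∃ F' : IntermediateField F E, F' = IntermediateField.fixedField H :=
      ⟨_, rfl⟩
    have hE' : Module.finrank F' E = p ^ n := by
      rw [hFd, IntermediateField.finrank_fixedField_eq_card, hH]
    have hF' : Module.finrank F F' = p := by
      have h1 := Module.finrank_mul_finrank F F' E
      rw [hE', hdeg, pow_succ, mul_comm (Module.finrank F F') (p ^ n)] at h1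
      exact Nat.eq_of_mul_eq_mul_left (pow_pos hp'.pos n) h1
    haveI : IsGalois F F' := by
      rw [hFd]; exact IsGalois.of_fixedField_normal_subgroup H
    have hcardG' : Nat.card (F' ≃ₐ[F] F') = p := by rw [IsGalois.card_aut_eq_finrank, hF']
    haveI : Nontrivial (F' ≃ₐ[F] F') :=
      Finite.one_lt_card_iff_nontrivial.mp (by rw [hcardG']; exact hp'.one_lt)
    obtain ⟨σ, hσ1⟩ := exists_ne (1 : F' ≃ₐ[F] F')
    have hσ : ∀ τ : F' ≃ₐ[F] F', τ ∈ Subgroup.zpowers σ :=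
      fun τ => mem_zpowers_of_prime_card hcardG' hσ1
    haveI : IsSimpleRing (F' ⊗[F] B) := H6CSA.simple_tensor (K := F) (L := F') (A := B)
    haveI : Algebra.IsCentral F' (F' ⊗[F] B) :=
      H6CSA.central_tensor (K := F) (L := F') (A := B)
    obtain ⟨N, hN, ⟨eB⟩⟩ := hB
    obtain ⟨cb⟩ := H6Br2.cancel_baseChange (k := F) (K := F') (L := E) B
    have hB' : Curves.Splits F' (F' ⊗[F] B) E := ⟨N, hN, ⟨cb.trans eB⟩⟩
    obtain ⟨j, hj⟩ := ih F' E hE' (F' ⊗[F] B) hB'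
    have hpj : 1 ≤ p ^ j := Nat.one_le_pow _ _ hp'.pos
    obtain ⟨bc⟩ := H6TPow2.tpowBC (k := F) F' B (p ^ j) hpj
    obtain ⟨N', hN', ⟨eT⟩⟩ := hj
    obtain ⟨hcX, hsX⟩ := H6TPow.tpow_csa (K := F) B (p ^ j) hpj
    have hX : Curves.Splits F (⨂[F] _ : Fin (p ^ j), B) F' := ⟨N', hN', ⟨bc.trans eT⟩⟩
    obtain ⟨⟨b, C, instR, instA, hC, s₁, t₁, hs₁, ht₁, ⟨f₁⟩⟩, -⟩ :=
      Groth.Agent.S13293.result F F' σ hσ (⨂[F] _ : Fin (p ^ j), B) hX
    have hkey := brauer_cyclic_pow F F' σ hσ b C hC (⨂[F] _ : Fin (p ^ j), B) s₁ t₁ hs₁ ht₁ f₁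
      p hp'.pos
    have hsp : H6Per.Sp F (⨂[F] _ : Fin p, (⨂[F] _ : Fin (p ^ j), B)) := by
      rw [hkey]
      refine ⟨algebraMap F F' (b : F), ?_⟩
      rw [Algebra.norm_algebraMap, hF']
    obtain ⟨tt⟩ := H6Per.tpow_tpow F B (p ^ j) p hp'.one_lt.le
    refine ⟨j + 1, ?_⟩
    rw [pow_succ]
    exact (H6Per.sp_congr tt).mp hsp

end H6CycPow
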