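import Mathlib

/-!
If a field extension `Ω/k` splits `A`, then so does every intermediate field containing a suitable
finite set of elements.
-/

namespace H6CSA3

open TensorProduct

universe u v w

variable {k : Type u} [Field k] {A : Type v} [Ring A] [Algebra k A]
  {Ω : Type w} [Field Ω] [Algebra k Ω]

/-- the inclusion `F ⊗ A → Ω ⊗ A` -/
noncomputable def incl (F : IntermediateField k Ω) : F ⊗[k] A →ₐ[k] Ω ⊗[k] A :=
  Algebra.TensorProduct.map F.val (AlgHom.id k A)

lemma incl_injective (F : IntermediateField k Ω) : Function.Injective (incl (A := A) F) := by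
  have h := Module.Flat.rTensor_preserves_injective_linearMap (M := A) F.val.toLinearMap
    Subtype.val_injective
  have key : ∀ z, (F.val.toLinearMap.rTensor A) z = incl F z := by
    intro z
    induction z using TensorProduct.induction_on with
    | zero => simp
    | tmul c a => rfl
    | add z1 z2 h1 h2 => rw [map_add, map_add, h1, h2]
  intro x y hxy
  apply h
  rw [key, key, hxy]

lemma sum_single_one {R : Type*} [Semiring R] {n : ℕ} :
    ∑ i : Fin n, Matrix.single i i (1 : R) = 1 := by
  classical
  ext a b
  rw [Matrix.sum_apply]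
  simp only [Matrix.single_apply, Matrix.one_apply]
  by_cases hab : a = b
  · subst hab
    simp
  · rw [if_neg hab]
    apply Finset.sum_eq_zero
    intro i _
    rw [if_neg]
    rintro ⟨rfl, rfl⟩
    exact hab rfl

theorem descent_split [FiniteDimensional k A] {n : ℕ}
    (e : Ω ⊗[k] A ≃ₐ[Ω] Matrix (Fin n) (Fin n) Ω) (hn : n ≠ 0) :
    ∃ T : Finset Ω, ∀ F : IntermediateField k Ω, (∀ c ∈ T, c ∈ F) →
      Nonempty (F ⊗[k] A ≃ₐ[F] Matrix (Fin n) (Fin n) F) := by
  classical
  haveI : NeZero n := ⟨hn⟩
  let ε : Fin n → Fin n → Ω ⊗[k] A := fun i j => e.symm (Matrix.single i j 1)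
  have hrep : ∀ i j, ∃ S : Finset (Ω × A), ε i j = S.sum fun p => p.1 ⊗ₜ[k] p.2 :=
    fun i j => TensorProduct.exists_finset _
  choose S hS using hrep
  refine ⟨Finset.univ.biUnion fun i => Finset.univ.biUnion fun j => (S i j).image Prod.fst,
    fun F hF => ?_⟩
  have hmem : ∀ i j, ∀ p ∈ S i j, p.1 ∈ F := by
    intro i j p hp
    apply hF
    simp only [Finset.mem_biUnion, Finset.mem_univ, true_and, Finset.mem_image]
    exact ⟨i, j, p, hp, rfl⟩
  have hlift : ∀ i j, ∃ z : F ⊗[k] A, incl F z = ε i j := by
    intro i j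
    refine ⟨(S i j).attach.sum fun p => (⟨p.1.1, hmem i j p.1 p.2⟩ : F) ⊗ₜ[k] p.1.2, ?_⟩
    rw [map_sum, hS i j]
    exact (Finset.sum_congr rfl (fun p _ => rfl)).trans
      (Finset.sum_attach (S i j) (fun p => p.1 ⊗ₜ[k] p.2))
  choose ε' hε' using hlift
  have hinj := incl_injective (A := A) F
  have hmul : ∀ i j l m, ε' i j * ε' l m = if j = l then ε' i m else 0 := by
    intro i j l m
    apply hinj
    rw [map_mul, hε', hε']
    show e.symm _ * e.symm _ = _
    rw [← map_mul]
    by_cases h : j = l
    · subst h
      rw [if_pos rfl, Matrix.single_mul_single_same, mul_one, hε']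
    · rw [if_neg h, Matrix.single_mul_single_of_ne _ _ _ _ h, map_zero, map_zero]
  have hone : ∑ i, ε' i i = 1 := by
    apply hinj
    have h1 : (incl (A := A) F) 1 = 1 := (incl (A := A) F).toRingHom.map_one
    rw [map_sum, h1]
    simp only [hε']
    show ∑ i, e.symm (Matrix.single i i 1) = 1
    rw [← map_sum, sum_single_one, map_one]
  let ψ : Matrix (Fin n) (Fin n) F →ₗ[F] F ⊗[k] A :=
    (Matrix.stdBasis F (Fin n) (Fin n)).constr F (fun p => ε' p.1 p.2)
  have hψ : ∀ i j (x : F), ψ (Matrix.single i j x) = x • ε' i j := by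
    intro i j x
    have h1 : Matrix.single i j x = x • Matrix.stdBasis F (Fin n) (Fin n) (i, j) := by
      rw [Matrix.stdBasis_eq_single, Matrix.smul_single, smul_eq_mul, mul_one]
    rw [h1, map_smul, Module.Basis.constr_basis]
  have hψmul : ∀ X Y, ψ (X * Y) = ψ X * ψ Y := by
    intro X
    induction X using Matrix.induction_on' with
    | h_zero =>
      intro Y
      rw [zero_mul, map_zero, zero_mul]
    | h_add p q hp hq =>
      intro Y
      rw [add_mul, map_add, map_add, hp, hq, add_mul]
    | h_std_basis i j x =>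
      intro Y
      induction Y using Matrix.induction_on' with
      | h_zero => rw [mul_zero, map_zero, mul_zero]
      | h_add p q hp hq => rw [mul_add, map_add, map_add, hp, hq, mul_add]
      | h_std_basis l m y =>
        rw [hψ, hψ, smul_mul_smul_comm, hmul]
        by_cases h : j = l
        · subst h
          rw [if_pos rfl, Matrix.single_mul_single_same, hψ]
        · rw [if_neg h, Matrix.single_mul_single_of_ne _ _ _ _ h, map_zero, smul_zero]
  have hψone : ψ 1 = 1 := by
    rw [← sum_single_one, map_sum]
    simp only [hψ, one_smul]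
    exact hone
  let ψa : Matrix (Fin n) (Fin n) F →ₐ[F] F ⊗[k] A := AlgHom.ofLinearMap ψ hψone hψmul
  have hfrA : Module.finrank k A = n * n := by
    have h1 : Module.finrank Ω (Ω ⊗[k] A) = Module.finrank k A := Module.finrank_baseChange
    rw [← h1, e.toLinearEquiv.finrank_eq, Module.finrank_matrix]
    simp
  have hfr : Module.finrank F (Matrix (Fin n) (Fin n) F) = Module.finrank F (F ⊗[k] A) := by
    rw [Module.finrank_matrix, Module.finrank_baseChange, hfrA]
    simp
  haveI : Nontrivial (F ⊗[k] A) := by
    apply Module.nontrivial_of_finrank_pos (R := F)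
    rw [← hfr, Module.finrank_matrix]
    simp only [Fintype.card_fin, Module.finrank_self, mul_one]
    exact Nat.mul_pos (Nat.pos_of_ne_zero hn) (Nat.pos_of_ne_zero hn)
  have hinjψ : Function.Injective ψa := RingHom.injective ψa.toRingHom
  have hsurj : Function.Surjective ψa :=
    (LinearMap.injective_iff_surjective_of_finrank_eq_finrank hfr).mp
      (show Function.Injective ψa.toLinearMap from hinjψ)
  exact ⟨(AlgEquiv.ofBijective ψa ⟨hinjψ, hsurj⟩).symm⟩

end H6CSA3
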