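import Mathlib
import Groth.Agent.Lib.helper6.CyclicPower
import Groth.Agent.S0201
import Groth.Agent.S0193

/-! Period versus index: Sylow fixed fields, primes dividing the index divide the period. -/

namespace H6PI

open TensorProduct PiTensorProduct

universe u v w

theorem pow_split_exact (p : ℕ) [hp : Fact p.Prime] : ∀ n : ℕ, ∀ (F : Type u) [Field F]
    (E : Type u) [Field E] [Algebra F E] [FiniteDimensional F E] [IsGalois F E]
    (_ : Module.finrank F E = p ^ n)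
    (B : Type (max u v)) [Ring B] [Algebra F B] [Algebra.IsCentral F B] [IsSimpleRing B]
    [FiniteDimensional F B] (_ : Curves.Splits F B E),
    H6Per.Sp F (⨂[F] _ : Fin (p ^ n), B) := by
  intro n
  induction n with
  | zero =>
    intro F _ E _ _ _ _ hdeg B _ _ _ _ _ hB
    rw [pow_zero] at hdeg
    obtain ⟨N, hN, ⟨eB⟩⟩ := hB
    have hbij : Function.Bijective (algebraMap F E) :=
      Algebra.bijective_algebraMap_iff.2 (Subalgebra.bot_eq_top_of_finrank_eq_one hdeg).symm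
    let e₀ : F ≃ₐ[F] E := AlgEquiv.ofBijective (Algebra.ofId F E) hbij
    refine ⟨N, hN, ⟨?_⟩⟩
    exact (H6Per.castEquiv F B (pow_zero p)).trans ((H6TPow.oneEquiv F B).trans
      ((Algebra.TensorProduct.lid F B).symm.trans
        ((Algebra.TensorProduct.congr e₀ (AlgEquiv.refl : B ≃ₐ[F] B)).trans
          ((eB.restrictScalars F).trans (e₀.symm.mapMatrix (m := Fin N))))))
  | succ n ih =>
    intro F _ E _ _ _ _ hdeg B _ _ _ _ _ hB
    classical
    have hp' := hp.out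
    have hcardG : Nat.card (E ≃ₐ[F] E) = p ^ (n + 1) := by
      rw [IsGalois.card_aut_eq_finrank, hdeg]
    obtain ⟨H, hH⟩ := Sylow.exists_subgroup_card_pow_prime (G := E ≃ₐ[F] E) p (n := n)
      (by rw [hcardG]; exact pow_dvd_pow p (Nat.le_succ n))
    have hidx : H.index = p := by
      have h1 := H.card_mul_index
      rw [hH, hcardG, pow_succ] at h1
      exact Nat.eq_of_mul_eq_mul_left (pow_pos hp'.pos n) h1
    haveI hnorm : H.Normal := Subgroup.normal_of_index_eq_minFac_card (by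
      rw [hidx, hcardG, Nat.Prime.pow_minFac hp' (Nat.succ_ne_zero n)])
    obtain ⟨F', hFd⟩ : ∃ F' : IntermediateField F E, F' = IntermediateField.fixedField H :=
      ⟨_, rfl⟩
    have hE' : Module.finrank F' E = p ^ n := by
      rw [hFd, IntermediateField.finrank_fixedField_eq_card, hH]
    have hF' : Module.finrank F F' = p := by
      have h1 := Module.finrank_mul_finrank F F' E
      rw [hE', hdeg, pow_succ, mul_comm (Module.finrank F F') (p ^ n)] at h1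
      exact Nat.eq_of_mul_eq_mul_left (pow_pos hp'.pos n) h1
    haveI : IsGalois F F' := by
      rw [hFd]; exact IsGalois.of_fixedField_normal_subgroup H
    have hcardG' : Nat.card (F' ≃ₐ[F] F') = p := by rw [IsGalois.card_aut_eq_finrank, hF']
    haveI : Nontrivial (F' ≃ₐ[F] F') :=
      Finite.one_lt_card_iff_nontrivial.mp (by rw [hcardG']; exact hp'.one_lt)
    obtain ⟨σ, hσ1⟩ := exists_ne (1 : F' ≃ₐ[F] F')
    have hσ : ∀ τ : F' ≃ₐ[F] F', τ ∈ Subgroup.zpowers σ :=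
      fun τ => mem_zpowers_of_prime_card hcardG' hσ1
    haveI : IsSimpleRing (F' ⊗[F] B) := H6CSA.simple_tensor (K := F) (L := F') (A := B)
    haveI : Algebra.IsCentral F' (F' ⊗[F] B) :=
      H6CSA.central_tensor (K := F) (L := F') (A := B)
    obtain ⟨N, hN, ⟨eB⟩⟩ := hB
    obtain ⟨cb⟩ := H6Br2.cancel_baseChange (k := F) (K := F') (L := E) B
    have hB' : Curves.Splits F' (F' ⊗[F] B) E := ⟨N, hN, ⟨cb.trans eB⟩⟩
    have hj := ih F' E hE' (F' ⊗[F] B) hB'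
    have hpj : 1 ≤ p ^ n := Nat.one_le_pow _ _ hp'.pos
    obtain ⟨bc⟩ := H6TPow2.tpowBC (k := F) F' B (p ^ n) hpj
    obtain ⟨N', hN', ⟨eT⟩⟩ := hj
    obtain ⟨hcX, hsX⟩ := H6TPow.tpow_csa (K := F) B (p ^ n) hpj
    have hX : Curves.Splits F (⨂[F] _ : Fin (p ^ n), B) F' := ⟨N', hN', ⟨bc.trans eT⟩⟩
    obtain ⟨⟨b, C, instR, instA, hC, s₁, t₁, hs₁, ht₁, ⟨f₁⟩⟩, -⟩ :=
      Groth.Agent.S13293.result F F' σ hσ (⨂[F] _ : Fin (p ^ n), B) hX
    have hkey := H6CycPow.brauer_cyclic_pow F F' σ hσ b C hC (⨂[F] _ : Fin (p ^ n), B)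
      s₁ t₁ hs₁ ht₁ f₁ p hp'.pos
    have hsp : H6Per.Sp F (⨂[F] _ : Fin p, (⨂[F] _ : Fin (p ^ n), B)) := by
      rw [hkey]
      refine ⟨algebraMap F F' (b : F), ?_⟩
      rw [Algebra.norm_algebraMap, hF']
    obtain ⟨tt⟩ := H6Per.tpow_tpow F B (p ^ n) p hp'.one_lt.le
    rw [pow_succ]
    exact (H6Per.sp_congr tt).mp hsp

theorem exists_sq_finrank (k : Type u) [Field k] (X : Type v) [Ring X] [Algebra k X]
    [Algebra.IsCentral k X] [IsSimpleRing X] [FiniteDimensional k X] :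
    ∃ r : ℕ, Module.finrank k X = r ^ 2 := by
  obtain ⟨E, _, _, _, _, r, hr, ⟨e⟩⟩ := Groth.Agent.S0201.result k X
  refine ⟨r, ?_⟩
  have h1 := e.toLinearEquiv.finrank_eq
  rw [Module.finrank_baseChange, Module.finrank_matrix, Fintype.card_fin,
    Module.finrank_self, mul_one] at h1
  rw [h1, sq]

theorem sp_of_no_prime (k : Type u) [Field k] (X : Type v) [Ring X] [Algebra k X]
    [Algebra.IsCentral k X] [IsSimpleRing X] [FiniteDimensional k X]
    (h : ∀ p : ℕ, p.Prime → ∃ (F : Type w) (_ : Field F) (_ : Algebra k F),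
      FiniteDimensional k F ∧ ¬ p ∣ Module.finrank k F ∧ Curves.Splits k X F) :
    H6Per.Sp k X := by
  classical
  haveI : IsArtinianRing X := IsArtinianRing.of_finite k X
  obtain ⟨c, hc, D, _, _, _, ⟨eW⟩⟩ := IsSimpleRing.exists_algEquiv_matrix_divisionRing_finite k X
  haveI : Algebra.IsCentral k (Matrix (Fin c) (Fin c) D) :=
    H6CSA.central_of_algEquiv (F := k) eW
  haveI : Algebra.IsCentral k D := H6Br.central_of_matrix_central c
  have hc0 : c ≠ 0 := NeZero.ne c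
  obtain ⟨d, hd⟩ := exists_sq_finrank k D
  by_cases h1 : d = 1
  · rw [h1, one_pow] at hd
    have hbij : Function.Bijective (algebraMap k D) :=
      Algebra.bijective_algebraMap_iff.2 (Subalgebra.bot_eq_top_of_finrank_eq_one hd).symm
    let e₀ : k ≃ₐ[k] D := AlgEquiv.ofBijective (Algebra.ofId k D) hbij
    exact ⟨c, hc0, ⟨eW.trans (e₀.symm.mapMatrix (m := Fin c))⟩⟩
  · exfalso
    obtain ⟨p, hp, hpd⟩ := Nat.exists_prime_and_dvd h1
    obtain ⟨F, _, _, _, hpF, r, hr, ⟨eF⟩⟩ := h p hp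
    let f : Matrix (Fin (2 * c)) (Fin (2 * c)) D ≃ₐ[k] Matrix (Fin 2) (Fin 2) X :=
      (Matrix.reindexAlgEquiv k D finProdFinEquiv).symm.trans
        ((Matrix.compAlgEquiv (Fin 2) (Fin c) D k).symm.trans (eW.symm.mapMatrix (m := Fin 2)))
    obtain ⟨c', hc', ⟨eD⟩⟩ := H6Br.splits_of_brauer (k := k) (K := F) (2 * c) 2
      (Nat.mul_ne_zero two_ne_zero hc0) two_ne_zero f r hr eF
    exact hpF (dvd_trans hpd (H6Br2.index_dvd_of_splits d hd c' eD))

theorem sylow_split (k : Type u) [Field k] (E : Type v) [Field E] [Algebra k E]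
    [FiniteDimensional k E] [IsGalois k E]
    (A : Type w) [Ring A] [Algebra k A] [Algebra.IsCentral k A] [IsSimpleRing A]
    [FiniteDimensional k A] (hAE : Curves.Splits k A E) (p : ℕ) [hp : Fact p.Prime] :
    ∃ (F : Type v) (_ : Field F) (_ : Algebra k F), FiniteDimensional k F ∧
      ¬ p ∣ Module.finrank k F ∧ ∃ a : ℕ, p ^ a ∣ Module.finrank k E ∧
        H6Per.Sp F (⨂[F] _ : Fin (p ^ a), (F ⊗[k] A)) := by
  classical
  have hp' := hp.out
  obtain ⟨P⟩ : Nonempty (Sylow p (E ≃ₐ[k] E)) := inferInstance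
  obtain ⟨n, hn⟩ :=
    (IsPGroup.iff_card (p := p) (G := (P : Subgroup (E ≃ₐ[k] E)))).mp P.isPGroup'
  obtain ⟨Fx, hFx⟩ : ∃ Fx : IntermediateField k E,
      Fx = IntermediateField.fixedField (P : Subgroup (E ≃ₐ[k] E)) := ⟨_, rfl⟩
  have hEF : Module.finrank Fx E = p ^ n := by
    rw [hFx, IntermediateField.finrank_fixedField_eq_card, hn]
  have hidx : Module.finrank k Fx = (P : Subgroup (E ≃ₐ[k] E)).index := by
    have h1 := Module.finrank_mul_finrank k Fx E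
    have h2 := (P : Subgroup (E ≃ₐ[k] E)).card_mul_index
    rw [IsGalois.card_aut_eq_finrank, ← h1, hEF, hn,
      mul_comm (Module.finrank k Fx) (p ^ n)] at h2
    exact (Nat.eq_of_mul_eq_mul_left (pow_pos hp'.pos n) h2).symm
  haveI : IsSimpleRing (Fx ⊗[k] A) := H6CSA.simple_tensor (K := k) (L := Fx) (A := A)
  haveI : Algebra.IsCentral Fx (Fx ⊗[k] A) :=
    H6CSA.central_tensor (K := k) (L := Fx) (A := A)
  obtain ⟨N, hN, ⟨eA⟩⟩ := hAE
  obtain ⟨cb⟩ := H6Br2.cancel_baseChange (k := k) (K := Fx) (L := E) A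
  have hB : Curves.Splits Fx (Fx ⊗[k] A) E := ⟨N, hN, ⟨cb.trans eA⟩⟩
  refine ⟨Fx, inferInstance, inferInstance, inferInstance, ?_, n, ?_, ?_⟩
  · rw [hidx]; exact Sylow.not_dvd_index P
  · rw [← Module.finrank_mul_finrank k Fx E, hEF]; exact dvd_mul_left _ _
  · exact pow_split_exact.{v, w} p n Fx E hEF (Fx ⊗[k] A) hB

theorem sp_baseChange_tpow (k : Type u) [Field k] (F : Type v) [Field F] [Algebra k F]
    (A : Type w) [Ring A] [Algebra k A] [Algebra.IsCentral k A] [IsSimpleRing A]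
    [FiniteDimensional k A] (e : ℕ) (he : 0 < e) (h : H6Per.Sp k (⨂[k] _ : Fin e, A)) :
    H6Per.Sp F (⨂[F] _ : Fin e, (F ⊗[k] A)) := by
  classical
  obtain ⟨Ne, hNe, ⟨eT⟩⟩ := h
  haveI : NeZero Ne := ⟨hNe⟩
  obtain ⟨bm⟩ := H6Br.baseChange_matrix_equiv (k := k) F k Ne
  obtain ⟨bc⟩ := H6TPow2.tpowBC (k := k) F A e he
  refine ⟨Ne, hNe, ⟨?_⟩⟩
  exact bc.symm.trans ((Algebra.TensorProduct.congr (AlgEquiv.refl : F ≃ₐ[F] F) eT).trans
    (bm.trans ((Algebra.TensorProduct.rid k F F).mapMatrix (m := Fin Ne))))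

theorem splits_tpow_of_sp (k : Type u) [Field k] (F : Type v) [Field F] [Algebra k F]
    (A : Type w) [Ring A] [Algebra k A] [Algebra.IsCentral k A] [IsSimpleRing A]
    [FiniteDimensional k A] (e : ℕ) (he : 0 < e)
    (h : H6Per.Sp F (⨂[F] _ : Fin e, (F ⊗[k] A))) :
    Curves.Splits k (⨂[k] _ : Fin e, A) F := by
  obtain ⟨N, hN, ⟨eT⟩⟩ := h
  obtain ⟨bc⟩ := H6TPow2.tpowBC (k := k) F A e he
  exact ⟨N, hN, ⟨bc.trans eT⟩⟩

theorem prime_dvd_of_split_tpow (k : Type u) [Field k]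
    (A : Type v) [Ring A] [Algebra k A] [Algebra.IsCentral k A] [IsSimpleRing A]
    [FiniteDimensional k A]
    (D : Type w) [DivisionRing D] [Algebra k D] [Algebra.IsCentral k D] [FiniteDimensional k D]
    (m : ℕ) (hm : m ≠ 0) (iso : A ≃ₐ[k] Matrix (Fin m) (Fin m) D) (d : ℕ)
    (hd : Module.finrank k D = d ^ 2)
    (e : ℕ) (he : 0 < e) (hsplit : H6Per.Sp k (⨂[k] _ : Fin e, A))
    (p : ℕ) (hp : p.Prime) (hpd : p ∣ d) : p ∣ e := by
  classical
  haveI : Fact p.Prime := ⟨hp⟩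
  by_contra hpe
  obtain ⟨E, instE, instAlgE, hfdE, hgalE, hAE⟩ := Groth.Agent.S0201.result k A
  obtain ⟨F, instF, instAlgF, hfdF, hpF, j, -, hj⟩ := sylow_split k E A hAE p
  haveI : IsSimpleRing (F ⊗[k] A) := H6CSA.simple_tensor (K := k) (L := F) (A := A)
  haveI : Algebra.IsCentral F (F ⊗[k] A) := H6CSA.central_tensor (K := k) (L := F) (A := A)
  have hTe : H6Per.Sp F (⨂[F] _ : Fin e, (F ⊗[k] A)) := sp_baseChange_tpow k F A e he hsplit
  have hex : ∃ q : ℕ, 0 < q ∧ H6Per.Sp F (⨂[F] _ : Fin q, (F ⊗[k] A)) := ⟨e, he, hTe⟩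
  obtain ⟨q, ⟨hq0, hqs⟩, hqmin⟩ : ∃ q : ℕ,
      (0 < q ∧ H6Per.Sp F (⨂[F] _ : Fin q, (F ⊗[k] A))) ∧
        ∀ q' : ℕ, q' < q → ¬ (0 < q' ∧ H6Per.Sp F (⨂[F] _ : Fin q', (F ⊗[k] A))) :=
    ⟨Nat.find hex, Nat.find_spec hex, fun q' hq' => Nat.find_min hex hq'⟩
  have hper := H6Per.period_dvd_iff F (F ⊗[k] A) q hq0 hqs
    (fun e' he' hlt hs => hqmin e' hlt ⟨he', hs⟩)
  have hq_e : q ∣ e := (hper e he).mp hTe
  have hq_p : q ∣ p ^ j := (hper (p ^ j) (pow_pos hp.pos j)).mp hj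
  obtain ⟨i, hij, rfl⟩ := (Nat.dvd_prime_pow hp).mp hq_p
  have hi0 : i = 0 := by
    by_contra hi
    exact hpe (dvd_trans (dvd_pow_self p hi) hq_e)
  subst hi0
  have hB1 : H6Per.Sp F (F ⊗[k] A) :=
    (H6Per.sp_congr ((H6Per.castEquiv F (F ⊗[k] A) (pow_zero p)).trans
      (H6TPow.oneEquiv F (F ⊗[k] A)))).mp hqs
  obtain ⟨r, hr, ⟨eB⟩⟩ := hB1
  let f : Matrix (Fin (2 * m)) (Fin (2 * m)) D ≃ₐ[k] Matrix (Fin 2) (Fin 2) A :=
    (Matrix.reindexAlgEquiv k D finProdFinEquiv).symm.trans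
      ((Matrix.compAlgEquiv (Fin 2) (Fin m) D k).symm.trans (iso.symm.mapMatrix (m := Fin 2)))
  obtain ⟨c, hc, ⟨eD⟩⟩ := H6Br.splits_of_brauer (k := k) (K := F) (2 * m) 2
    (Nat.mul_ne_zero two_ne_zero hm) two_ne_zero f r hr eB
  exact hpF (dvd_trans hpd (H6Br2.index_dvd_of_splits d hd c eD))

end H6PI
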