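import Mathlib

/-! helper6: coherent modules (finite + fg submodules are finitely presented). -/

namespace H6Coh
universe u
variable {R : Type u} [CommRing R]

/-- Coherent = finite + every fg submodule is fp. -/
def IsCoh (R : Type u) [CommRing R] (M : Type u) [AddCommGroup M] [Module R M] : Prop :=
  Module.Finite R M ∧ ∀ P : Submodule R M, P.FG → Module.FinitePresentation R P

variable {M N : Type u} [AddCommGroup M] [Module R M] [AddCommGroup N] [Module R N]

theorem isCoh_of_injective (hM : IsCoh R M) [Module.Finite R N] (ι : N →ₗ[R] M)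
    (hι : Function.Injective ι) : IsCoh R N := by
  refine ⟨inferInstance, fun P hP => ?_⟩
  haveI := hM.2 (P.map ι) (hP.map ι)
  exact Module.FinitePresentation.of_equiv (Submodule.equivMapOfInjective ι hι P).symm

theorem isCoh_quotient (hM : IsCoh R M) (R' : Submodule R M) (hR' : R'.FG) :
    IsCoh R (M ⧸ R') := by
  haveI := hM.1
  refine ⟨inferInstance, fun Q hQ => ?_⟩
  set Q' := Q.comap R'.mkQ with hQ'
  have hmap : Q'.map R'.mkQ = Q :=
    Submodule.map_comap_eq_of_surjective (Submodule.mkQ_surjective R') Q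
  have hle : R' ≤ Q' := by
    intro x hx
    rw [hQ', Submodule.mem_comap, Submodule.mkQ_apply, (Submodule.Quotient.mk_eq_zero R').mpr hx]
    exact Q.zero_mem
  have hQ'fg : Q'.FG := by
    apply Submodule.fg_of_fg_map_of_fg_inf_ker R'.mkQ
    · rw [hmap]; exact hQ
    · rw [Submodule.ker_mkQ, inf_eq_right.mpr hle]; exact hR'
  haveI := hM.2 Q' hQ'fg
  let l : Q' →ₗ[R] Q := R'.mkQ.restrict (fun x hx => hx)
  have hl : Function.Surjective l := by
    rintro ⟨y, hy⟩
    obtain ⟨x, rfl⟩ := Submodule.mkQ_surjective R' y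
    exact ⟨⟨x, hy⟩, rfl⟩
  refine Module.finitePresentation_of_surjective l hl ?_
  apply Submodule.fg_of_fg_map_injective Q'.subtype Q'.injective_subtype
  have : (LinearMap.ker l).map Q'.subtype = R' := by
    ext x
    constructor
    · rintro ⟨⟨z, hz⟩, hzk, rfl⟩
      rw [SetLike.mem_coe, LinearMap.mem_ker] at hzk
      have : R'.mkQ z = 0 := congrArg Subtype.val hzk
      rwa [Submodule.mkQ_apply, Submodule.Quotient.mk_eq_zero] at this
    · intro hx
      refine ⟨⟨x, hle hx⟩, ?_, rfl⟩
      rw [SetLike.mem_coe, LinearMap.mem_ker]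
      apply Subtype.ext
      show R'.mkQ x = 0
      rw [Submodule.mkQ_apply, (Submodule.Quotient.mk_eq_zero R').mpr hx]
  rw [this]; exact hR'

theorem ker_fg_of_finite_to_coh [Module.Finite R N] (hM : IsCoh R M) (φ : N →ₗ[R] M) :
    (LinearMap.ker φ).FG := by
  have hfg : (LinearMap.range φ).FG := by
    rw [LinearMap.range_eq_map]; exact Module.Finite.fg_top.map φ
  haveI := hM.2 _ hfg
  have := Module.FinitePresentation.fg_ker φ.rangeRestrict φ.surjective_rangeRestrict
  rwa [LinearMap.ker_rangeRestrict] at this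

theorem range_isCoh [Module.Finite R N] (hM : IsCoh R M) (φ : N →ₗ[R] M) :
    IsCoh R (LinearMap.range φ) :=
  isCoh_of_injective hM (LinearMap.range φ).subtype (LinearMap.range φ).injective_subtype

theorem coker_isCoh [Module.Finite R N] (hM : IsCoh R M) (φ : N →ₗ[R] M) :
    IsCoh R (M ⧸ LinearMap.range φ) := by
  apply isCoh_quotient hM
  rw [LinearMap.range_eq_map]; exact Module.Finite.fg_top.map φ

theorem ker_isCoh (hN : IsCoh R N) (hM : IsCoh R M) (φ : N →ₗ[R] M) :
    IsCoh R (LinearMap.ker φ) := by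
  haveI := hN.1
  haveI : Module.Finite R (LinearMap.ker φ) :=
    Module.Finite.iff_fg.mpr (ker_fg_of_finite_to_coh hM φ)
  exact isCoh_of_injective hN (LinearMap.ker φ).subtype (LinearMap.ker φ).injective_subtype

end H6Coh
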