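import Mathlib

/-!
# Equalizer subrings of finite products of normal domains

helper6 library (for S11135).
-/

universe u

namespace H6Eq

theorem idem_unique {R : Type*} [CommRing R] (r ε ε' : R) (h1 : ε * ε = ε) (h2 : ε' * ε' = ε')
    (h3 : r * ε = 0) (h4 : r * ε' = 0) (h5 : r + ε ∈ nonZeroDivisors R)
    (h6 : r + ε' ∈ nonZeroDivisors R) : ε = ε' := by
  have e1 : ε' * (1 - ε) = 0 := by
    apply (mem_nonZeroDivisors_iff_right.1 h5)
    calc ε' * (1 - ε) * (r + ε) = (r * ε') * (1 - ε) + ε' * (ε - ε * ε) := by ring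
      _ = 0 := by rw [h4, h1]; ring
  have e2 : ε * (1 - ε') = 0 := by
    apply (mem_nonZeroDivisors_iff_right.1 h6)
    calc ε * (1 - ε') * (r + ε') = (r * ε) * (1 - ε') + ε * (ε' - ε' * ε') := by ring
      _ = 0 := by rw [h3, h2]; ring
  calc ε = ε * ε' + ε * (1 - ε') := by ring
    _ = ε' * ε + ε' * (1 - ε) := by rw [e1, e2]; ring
    _ = ε' := by ring

section
variable {ι : Type u} (D : ι → Type u) [∀ i, CommRing (D i)]

open Classical in
/-- indicator idempotent -/
noncomputable def ind (T : Set ι) : Π i, D i := fun i => if i ∈ T then 1 else 0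

theorem ind_apply_mem {T : Set ι} {i : ι} (h : i ∈ T) : ind D T i = 1 := by
  simp [ind, h]

theorem ind_apply_notMem {T : Set ι} {i : ι} (h : i ∉ T) : ind D T i = 0 := by
  simp [ind, h]

theorem ind_univ : ind D (Set.univ : Set ι) = 1 := by
  funext i; simp [ind]

theorem ind_compl (T : Set ι) : ind D Tᶜ = 1 - ind D T := by
  funext i
  by_cases h : i ∈ T
  · simp [ind, h]
  · simp [ind, h]

theorem ind_inter (T T' : Set ι) : ind D (T ∩ T') = ind D T * ind D T' := by
  funext i
  by_cases h : i ∈ T <;> by_cases h' : i ∈ T' <;> simp [ind, h, h']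

theorem nzd_of_forall_ne [∀ i, IsDomain (D i)] (s : Π i, D i) (hs : ∀ i, s i ≠ 0) :
    s ∈ nonZeroDivisors (Π i, D i) := by
  rw [mem_nonZeroDivisors_iff_right]
  intro x hx
  funext i
  have := congrFun hx i
  simp only [Pi.mul_apply, Pi.zero_apply] at this
  exact (mul_eq_zero.1 this).resolve_right (hs i)

end

section main
variable {ι : Type u} [Fintype ι] (D : ι → Type u) [∀ i, CommRing (D i)] [∀ i, IsDomain (D i)]
  [∀ i, IsIntegrallyClosed (D i)] (R : Type u) [CommRing R] (F : Set ((Π i, D i) →+* R))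
  (hF : ∀ f ∈ F, ∀ s ∈ nonZeroDivisors (Π i, D i), f s ∈ nonZeroDivisors R)
  (A : Subring (Π i, D i)) (hA : ∀ a, a ∈ A ↔ ∀ f ∈ F, ∀ f' ∈ F, f a = f' a)

include hF hA in
theorem ind_zeroSet_mem (a : Π i, D i) (ha : a ∈ A) : ind D {i | a i = 0} ∈ A := by
  rw [hA]
  intro f hf f' hf'
  set e := ind D {i | a i = 0} with he
  have hee : e * e = e := by
    rw [he, ← ind_inter, Set.inter_self]
  have hae : a * e = 0 := by
    funext i
    by_cases h : a i = 0
    · simp [h]
    · simp [he, ind_apply_notMem D (T := {i | a i = 0}) h]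
  have hs : a + e ∈ nonZeroDivisors (Π i, D i) := by
    apply nzd_of_forall_ne
    intro i
    by_cases h : a i = 0
    · simp [he, ind_apply_mem D (T := {i | a i = 0}) h, h]
    · simp [he, ind_apply_notMem D (T := {i | a i = 0}) h, h]
  have hfa : f a = f' a := (hA a).1 ha f hf f' hf'
  apply idem_unique (f a) (f e) (f' e)
  · rw [← map_mul, hee]
  · rw [← map_mul, hee]
  · rw [← map_mul, hae, map_zero]
  · rw [hfa, ← map_mul, hae, map_zero]
  · rw [← map_add]; exact hF f hf _ hs
  · rw [hfa, ← map_add]; exact hF f' hf' _ hs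

/-- the Boolean algebra of subsets whose indicator lies in `A`. -/
def TT : Set (Set ι) := {T | ind D T ∈ A}

theorem TT_univ : Set.univ ∈ TT D A := by
  show ind D Set.univ ∈ A
  rw [ind_univ]; exact one_mem A

theorem TT_compl {T : Set ι} (h : T ∈ TT D A) : Tᶜ ∈ TT D A := by
  show ind D Tᶜ ∈ A
  rw [ind_compl]; exact sub_mem (one_mem A) h

theorem TT_inter {T T' : Set ι} (h : T ∈ TT D A) (h' : T' ∈ TT D A) : T ∩ T' ∈ TT D A := by
  show ind D (T ∩ T') ∈ A
  rw [ind_inter]; exact mul_mem h h'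

theorem TT_sInter (𝓕 : Set (Set ι)) (hfin : 𝓕.Finite) (h : 𝓕 ⊆ TT D A) : ⋂₀ 𝓕 ∈ TT D A := by
  induction 𝓕, hfin using Set.Finite.induction_on with
  | empty => rw [Set.sInter_empty]; exact TT_univ D A
  | insert _ _ ih =>
    rw [Set.sInter_insert]
    exact TT_inter D A (h (Set.mem_insert _ _)) (ih (fun T hT => h (Set.mem_insert_of_mem _ hT)))

/-- the equivalence relation: not separated by `TT`. -/
def rel : Setoid ι where
  r i j := ∀ T ∈ TT D A, (i ∈ T ↔ j ∈ T)
  iseqv := ⟨fun _ _ _ => Iff.rfl, fun h T hT => (h T hT).symm,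
    fun h h' T hT => (h T hT).trans (h' T hT)⟩

/-- the class of `q`. -/
def Tq (q : Quotient (rel D A)) : Set ι := {i | (Quotient.mk (rel D A) i) = q}

theorem Tq_atom (q : Quotient (rel D A)) {T : Set ι} (hT : T ∈ TT D A) {i j : ι}
    (hi : i ∈ Tq D A q) (hj : j ∈ Tq D A q) : i ∈ T ↔ j ∈ T := by
  have : (Quotient.mk (rel D A) i) = Quotient.mk (rel D A) j := hi.trans hj.symm
  exact (Quotient.exact this) T hT

theorem Tq_mem (q : Quotient (rel D A)) : Tq D A q ∈ TT D A := by
  obtain ⟨i₀, rfl⟩ := Quotient.exists_rep q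
  have hfin : ({T | T ∈ TT D A ∧ i₀ ∈ T} : Set (Set ι)).Finite := Set.toFinite _
  have h1 := TT_sInter D A {T | T ∈ TT D A ∧ i₀ ∈ T} hfin (fun T hT => hT.1)
  have h2 : Tq D A (Quotient.mk (rel D A) i₀) = ⋂₀ {T | T ∈ TT D A ∧ i₀ ∈ T} := by
    ext j
    constructor
    · intro hj T hT
      have : (rel D A).r j i₀ := Quotient.exact hj
      exact (this T hT.1).2 hT.2
    · intro hj
      apply Quotient.sound
      intro T hT
      constructor
      · intro hjT
        by_contra hi
        have := hj Tᶜ ⟨TT_compl D A hT, hi⟩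
        exact this hjT
      · intro hiT
        exact hj T ⟨hT, hiT⟩
  rw [h2]; exact h1

end main

section main2
variable {ι : Type u} [Fintype ι] (D : ι → Type u) [∀ i, CommRing (D i)] [∀ i, IsDomain (D i)]
  [∀ i, IsIntegrallyClosed (D i)] (R : Type u) [CommRing R] (F : Set ((Π i, D i) →+* R))
  (hF : ∀ f ∈ F, ∀ s ∈ nonZeroDivisors (Π i, D i), f s ∈ nonZeroDivisors R)
  (A : Subring (Π i, D i)) (hA : ∀ a, a ∈ A ↔ ∀ f ∈ F, ∀ f' ∈ F, f a = f' a)

/-- restriction to the class -/
def ρ (q : Quotient (rel D A)) : (Π i, D i) →+* (Π i : Tq D A q, D i.1) :=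
  Pi.ringHom (fun i => Pi.evalRingHom D i.1)

/-- the factor ring -/
def E (q : Quotient (rel D A)) : Subring (Π i : Tq D A q, D i.1) :=
  ((ρ D A q).comp A.subtype).range

theorem mem_E (q : Quotient (rel D A)) (y : Π i : Tq D A q, D i.1) :
    y ∈ E D A q ↔ ∃ a ∈ A, ρ D A q a = y := by
  constructor
  · rintro ⟨a, rfl⟩; exact ⟨a.1, a.2, rfl⟩
  · rintro ⟨a, ha, rfl⟩; exact ⟨⟨a, ha⟩, rfl⟩

include hF hA in
theorem dichotomy (a : Π i, D i) (ha : a ∈ A) (q : Quotient (rel D A)) :
    (∀ i ∈ Tq D A q, a i = 0) ∨ (∀ i ∈ Tq D A q, a i ≠ 0) := by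
  have hZ : {i | a i = 0} ∈ TT D A := ind_zeroSet_mem D R F hF A hA a ha
  by_cases h : ∃ i ∈ Tq D A q, a i = 0
  · obtain ⟨i, hi, hai⟩ := h
    left
    intro j hj
    exact (Tq_atom D A q hZ hi hj).1 hai
  · right
    intro i hi hai
    exact h ⟨i, hi, hai⟩

include hF hA in
theorem E_isDomain (q : Quotient (rel D A)) : IsDomain (E D A q) := by
  obtain ⟨i₀, hi₀⟩ := Quotient.exists_rep q
  haveI : Nontrivial (E D A q) := by
    refine ⟨⟨0, 1, fun h => ?_⟩⟩
    have h1 := congrArg (fun y : E D A q => (y : Π i : Tq D A q, D i.1) ⟨i₀, hi₀⟩) h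
    simp at h1
  haveI : NoZeroDivisors (E D A q) := by
    refine ⟨fun {x y} hxy => ?_⟩
    obtain ⟨a, ha, hax⟩ := (mem_E D A q x.1).1 x.2
    obtain ⟨b, hb, hby⟩ := (mem_E D A q y.1).1 y.2
    rcases dichotomy D R F hF A hA a ha q with h | h
    · left
      apply Subtype.ext
      rw [← hax]
      funext i
      exact h i.1 i.2
    · rcases dichotomy D R F hF A hA b hb q with h' | h'
      · right
        apply Subtype.ext
        rw [← hby]
        funext i
        exact h' i.1 i.2
      · exfalso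
        have h1 := congrArg (fun y : E D A q => (y : Π i : Tq D A q, D i.1) ⟨i₀, hi₀⟩) hxy
        simp only [Subring.coe_mul, Pi.mul_apply, Subring.coe_zero, Pi.zero_apply] at h1
        rw [← hax, ← hby] at h1
        exact (mul_ne_zero (h i₀ hi₀) (h' i₀ hi₀)) h1
  exact NoZeroDivisors.to_isDomain _

include hF hA in
theorem div_mem (q : Quotient (rel D A)) (a b c : Π i, D i) (ha : a ∈ A) (hb : b ∈ A)
    (hbne : ∀ i ∈ Tq D A q, b i ≠ 0) (hc0 : ∀ i, i ∉ Tq D A q → c i = 0)
    (hcb : ∀ i ∈ Tq D A q, c i * b i = a i) : c ∈ A := by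
  have he : ind D (Tq D A q) ∈ A := Tq_mem D A q
  set e := ind D (Tq D A q) with hedef
  have hb' : b * e + (1 - e) ∈ A := add_mem (mul_mem hb he) (sub_mem (one_mem A) he)
  have hae : a * e ∈ A := mul_mem ha he
  have hnzd : b * e + (1 - e) ∈ nonZeroDivisors (Π i, D i) := by
    apply nzd_of_forall_ne
    intro i
    by_cases h : i ∈ Tq D A q
    · simp [hedef, ind_apply_mem D h, hbne i h]
    · simp [hedef, ind_apply_notMem D h]
  have hmul : c * (b * e + (1 - e)) = a * e := by
    funext i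
    by_cases h : i ∈ Tq D A q
    · simp [hedef, ind_apply_mem D h, hcb i h]
    · simp [hedef, ind_apply_notMem D h, hc0 i h]
  rw [hA]
  intro f hf f' hf'
  have h1 : f c * f (b * e + (1 - e)) = f (a * e) := by rw [← map_mul, hmul]
  have h2 : f' c * f' (b * e + (1 - e)) = f' (a * e) := by rw [← map_mul, hmul]
  have h3 : f (b * e + (1 - e)) = f' (b * e + (1 - e)) := (hA _).1 hb' f hf f' hf'
  have h4 : f (a * e) = f' (a * e) := (hA _).1 hae f hf f' hf'
  have h5 : (f c - f' c) * f (b * e + (1 - e)) = 0 := by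
    rw [sub_mul, h1, h3, h2, h4, sub_self]
  have := (mem_nonZeroDivisors_iff_right.1 (hF f hf _ hnzd)) _ h5
  exact sub_eq_zero.1 this

/-- projection of the factor ring to a coordinate -/
def π (q : Quotient (rel D A)) (i : Tq D A q) : E D A q →+* D i.1 :=
  (Pi.evalRingHom (fun i : Tq D A q => D i.1) i).comp (E D A q).subtype

include hF hA in
theorem π_injective (q : Quotient (rel D A)) (i : Tq D A q) :
    Function.Injective (π D A q i) := by
  rw [injective_iff_map_eq_zero]
  intro x hx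
  obtain ⟨a, ha, hax⟩ := (mem_E D A q x.1).1 x.2
  have hai : a i.1 = 0 := by
    have : x.1 i = 0 := hx
    rw [← hax] at this
    exact this
  rcases dichotomy D R F hF A hA a ha q with h | h
  · apply Subtype.ext
    rw [← hax]
    funext j
    exact h j.1 j.2
  · exact absurd hai (h i.1 i.2)

include hF hA in
theorem E_integrallyClosed (q : Quotient (rel D A)) : IsIntegrallyClosed (E D A q) := by
  classical
  haveI : IsDomain (E D A q) := E_isDomain D R F hF A hA q
  rw [isIntegrallyClosed_iff (FractionRing (E D A q))]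
  intro x hx
  obtain ⟨α, β, hβ, rfl⟩ := IsFractionRing.div_surjective (A := E D A q) x
  obtain ⟨a, ha, haα⟩ := (mem_E D A q α.1).1 α.2
  obtain ⟨b, hb, hbβ⟩ := (mem_E D A q β.1).1 β.2
  have hβ0 : β ≠ 0 := nonZeroDivisors.ne_zero hβ
  have hbne : ∀ i ∈ Tq D A q, b i ≠ 0 := by
    rcases dichotomy D R F hF A hA b hb q with h | h
    · exfalso
      apply hβ0
      apply Subtype.ext
      rw [← hbβ]
      funext j
      exact h j.1 j.2
    · exact h
  -- for each coordinate
  have hd : ∀ i : Tq D A q, ∃ d : D i.1, d * b i.1 = a i.1 := by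
    intro i
    have hginj : Function.Injective
        ((algebraMap (D i.1) (FractionRing (D i.1))).comp (π D A q i)) :=
      (IsFractionRing.injective (D i.1) (FractionRing (D i.1))).comp
        (π_injective D R F hF A hA q i)
    set ψ : FractionRing (E D A q) →+* FractionRing (D i.1) := IsFractionRing.lift hginj with hψ
    have hcomm : (algebraMap (D i.1) (FractionRing (D i.1))).comp (π D A q i) =
        ψ.comp (algebraMap (E D A q) (FractionRing (E D A q))) := by
      ext y
      simp only [RingHom.comp_apply, hψ, IsFractionRing.lift_algebraMap]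
    have hint := IsIntegral.map_of_comp_eq (π D A q i) ψ hcomm hx
    obtain ⟨d, hd⟩ := IsIntegrallyClosed.isIntegral_iff.1 hint
    refine ⟨d, ?_⟩
    apply IsFractionRing.injective (D i.1) (FractionRing (D i.1))
    have hψα : ψ (algebraMap _ _ α) = algebraMap _ _ (a i.1) := by
      rw [hψ, IsFractionRing.lift_algebraMap, RingHom.comp_apply]
      congr 1
      show α.1 i = a i.1
      rw [← haα]; rfl
    have hψβ : ψ (algebraMap _ _ β) = algebraMap _ _ (b i.1) := by
      rw [hψ, IsFractionRing.lift_algebraMap, RingHom.comp_apply]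
      congr 1
      show β.1 i = b i.1
      rw [← hbβ]; rfl
    have hbi : algebraMap (D i.1) (FractionRing (D i.1)) (b i.1) ≠ 0 := by
      intro h0
      exact hbne i.1 i.2 ((map_eq_zero_iff _ (IsFractionRing.injective _ _)).1 h0)
    rw [map_mul, hd, map_div₀, hψα, hψβ, div_mul_cancel₀ _ hbi]
  choose d hd using hd
  let c : Π i, D i := fun i => if h : i ∈ Tq D A q then d ⟨i, h⟩ else 0
  have hc0 : ∀ i, i ∉ Tq D A q → c i = 0 := fun i h => by simp [c, h]
  have hcb : ∀ i ∈ Tq D A q, c i * b i = a i := fun i h => by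
    simp only [c, dif_pos h]; exact hd ⟨i, h⟩
  have hcA : c ∈ A := div_mem D R F hF A hA q a b c ha hb hbne hc0 hcb
  refine ⟨⟨ρ D A q c, (mem_E D A q _).2 ⟨c, hcA, rfl⟩⟩, ?_⟩
  have hβ' : algebraMap (E D A q) (FractionRing (E D A q)) β ≠ 0 := by
    intro h0
    exact hβ0 ((map_eq_zero_iff _ (IsFractionRing.injective _ _)).1 h0)
  rw [eq_div_iff hβ', ← map_mul]
  congr 1
  apply Subtype.ext
  funext i
  show c i.1 * β.1 i = α.1 i
  rw [← haα, ← hbβ]
  exact hcb i.1 i.2

/-- the comparison map -/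
def Φ : A →+* Π q : Quotient (rel D A), E D A q :=
  Pi.ringHom fun q => ((ρ D A q).comp A.subtype).rangeRestrict

theorem Φ_injective : Function.Injective (Φ D A) := by
  intro a a' h
  apply Subtype.ext
  funext i
  have h1 := congrArg (fun y : Π q : Quotient (rel D A), E D A q =>
    ((y (Quotient.mk (rel D A) i) : E D A _) : Π j : Tq D A _, D j.1) ⟨i, rfl⟩) h
  exact h1

theorem Φ_surjective : Function.Surjective (Φ D A) := by
  classical
  letI : Fintype (Quotient (rel D A)) := Fintype.ofFinite _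
  intro y
  have hy : ∀ q, ∃ a ∈ A, ρ D A q a = (y q).1 := fun q => (mem_E D A q _).1 (y q).2
  choose a haA ha using hy
  have hmem : ∑ q, ind D (Tq D A q) * a q ∈ A :=
    sum_mem fun q _ => mul_mem (Tq_mem D A q) (haA q)
  refine ⟨⟨_, hmem⟩, ?_⟩
  funext q
  apply Subtype.ext
  funext i
  show (∑ q', ind D (Tq D A q') * a q') i.1 = (y q).1 i
  rw [Finset.sum_apply, Finset.sum_eq_single q]
  · rw [Pi.mul_apply, ind_apply_mem D i.2, one_mul, ← ha q]; rfl
  · intro q' _ hq'
    have : i.1 ∉ Tq D A q' := fun h => hq' (h.symm.trans i.2)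
    rw [Pi.mul_apply, ind_apply_notMem D this, zero_mul]
  · intro h; exact absurd (Finset.mem_univ _) h

end main2

end H6Eq
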