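import Groth.Agent.Lib.helper6.PSeriesCRing
import Groth.Agent.Lib.helper6.ArtBasic
import Groth.Agent.Lib.helper6.ArtFinite
import Groth.Agent.Lib.helper6.ArtFibre

/-! Ingredients of Schlessinger's construction: Artinian quotients of a coefficient ring,
least ideals with a lift, a Chevalley-type lemma (helper6). -/

set_option autoImplicit false
universe u v
open CategoryTheory

namespace H6Art

open ArtFun ArtFun.Art IsLocalRing

variable {Λ : Type u} {k : Type u} [CommRing Λ] [Field k] [Algebra Λ k]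

section PQ

/-- an open ideal contained in the maximal ideal -/
structure OIdeal (P : CRing Λ k) where
  /-- the ideal -/
  J : Ideal P.carrier
  le : J ≤ maximalIdeal P.carrier
  op : ∃ n, maximalIdeal P.carrier ^ n ≤ J

variable {P : CRing Λ k}

/-- the Artinian quotient by an open ideal -/
noncomputable def pq (K : OIdeal P) : Art Λ k :=
  haveI : IsLocalRing (P.carrier ⧸ K.J) := qc_isLocalRing P K.J K.le
  haveI : IsArtinianRing (P.carrier ⧸ K.J) := isArtinianRing_quot_of_pow_le P K.J K.op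
  { carrier := P.carrier ⧸ K.J
    res := qRes P K.J K.le
    res_surjective := fun c => by
      obtain ⟨a, ha⟩ := P.res_surjective c
      exact ⟨Ideal.Quotient.mk K.J a, ha⟩ }

/-- the quotient map as an element of `h_P` -/
noncomputable def pqMk (K : OIdeal P) : HomSet P.carrier P.res (pq K) :=
  ⟨Ideal.Quotient.mkₐ Λ K.J, Ideal.Quotient.liftₐ_comp _ _ _⟩

/-- transition maps -/
noncomputable def pqHom {K K' : OIdeal P} (h : K.J ≤ K'.J) : pq K ⟶ pq K' :=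
  ⟨Ideal.Quotient.factorₐ Λ h, by
    apply AlgHom.ext
    intro x
    obtain ⟨a, rfl⟩ := Ideal.Quotient.mk_surjective x
    rfl⟩

/-- factorisation of a map killing the ideal -/
noncomputable def pqLift (K : OIdeal P) {A : Art Λ k} (φ : HomSet P.carrier P.res A)
    (h : K.J ≤ RingHom.ker (φ.1 : P.carrier →+* A)) : pq K ⟶ A :=
  ⟨Ideal.Quotient.liftₐ K.J φ.1 (fun _ ha => RingHom.mem_ker.1 (h ha)), by
    apply AlgHom.ext
    intro x
    obtain ⟨a, rfl⟩ := Ideal.Quotient.mk_surjective x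
    exact DFunLike.congr_fun φ.2 a⟩

lemma pqMk_apply (K : OIdeal P) (a : P.carrier) : (pqMk K).1 a = Ideal.Quotient.mk K.J a := rfl

lemma pqHom_mk {K K' : OIdeal P} (h : K.J ≤ K'.J) (a : P.carrier) :
    pqHom h (Ideal.Quotient.mk K.J a) = Ideal.Quotient.mk K'.J a := rfl

lemma pqLift_mk (K : OIdeal P) {A : Art Λ k} (φ : HomSet P.carrier P.res A)
    (h : K.J ≤ RingHom.ker (φ.1 : P.carrier →+* A)) (a : P.carrier) :
    pqLift K φ h (Ideal.Quotient.mk K.J a) = φ.1 a := rfl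

lemma pq_hom_ext {K : OIdeal P} {A : Art Λ k} {f g : pq K ⟶ A}
    (h : ∀ a : P.carrier, f (Ideal.Quotient.mk K.J a) = g (Ideal.Quotient.mk K.J a)) : f = g := by
  apply Art.hom_ext
  apply AlgHom.ext
  intro x
  obtain ⟨a, rfl⟩ := Ideal.Quotient.mk_surjective x
  exact h a

lemma pqHom_refl (K : OIdeal P) (h : K.J ≤ K.J) : pqHom h = 𝟙 (pq K) :=
  pq_hom_ext fun _ => rfl

lemma pqHom_comp {K K' K'' : OIdeal P} (h : K.J ≤ K'.J) (h' : K'.J ≤ K''.J) :
    pqHom h ≫ pqHom h' = pqHom (h.trans h') :=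
  pq_hom_ext fun _ => rfl

lemma pqHom_pqLift {K K' : OIdeal P} (h : K.J ≤ K'.J) {A : Art Λ k}
    (φ : HomSet P.carrier P.res A) (h' : K'.J ≤ RingHom.ker (φ.1 : P.carrier →+* A)) :
    pqHom h ≫ pqLift K' φ h' = pqLift K φ (h.trans h') :=
  pq_hom_ext fun _ => rfl

lemma pqLift_comp (K : OIdeal P) {A B : Art Λ k} (f : A ⟶ B) (φ : HomSet P.carrier P.res A)
    (h : K.J ≤ RingHom.ker (φ.1 : P.carrier →+* A))
    (h' : K.J ≤ RingHom.ker ((HomSet.map f φ).1 : P.carrier →+* B)) :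
    pqLift K φ h ≫ f = pqLift K (HomSet.map f φ) h' :=
  pq_hom_ext fun _ => rfl

lemma map_pqMk (K : OIdeal P) {A : Art Λ k} (φ : HomSet P.carrier P.res A)
    (h : K.J ≤ RingHom.ker (φ.1 : P.carrier →+* A)) :
    HomSet.map (pqLift K φ h) (pqMk K) = φ :=
  Subtype.ext (AlgHom.ext fun _ => rfl)

lemma pqHom_surjective {K K' : OIdeal P} (h : K.J ≤ K'.J) : Function.Surjective (pqHom h) := by
  intro x
  obtain ⟨a, rfl⟩ := Ideal.Quotient.mk_surjective (I := K'.J) x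
  exact ⟨Ideal.Quotient.mk K.J a, rfl⟩

/-- the quotient by `K₁ ⊓ K₂` is the fibre product of the quotients over the quotient by
`K₁ ⊔ K₂` -/
lemma isFibreProd_pq_inf {K₃ K₁ K₂ K₀ : OIdeal P} (h31 : K₃.J ≤ K₁.J) (h32 : K₃.J ≤ K₂.J)
    (h10 : K₁.J ≤ K₀.J) (h20 : K₂.J ≤ K₀.J) (hinf : K₁.J ⊓ K₂.J ≤ K₃.J)
    (hsup : K₀.J ≤ K₁.J ⊔ K₂.J) :
    IsFibreProd (pqHom h31) (pqHom h32) (pqHom h10) (pqHom h20) where
  w := by rw [pqHom_comp, pqHom_comp]
  inj := by
    intro b₁ b₂ e1 e2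
    obtain ⟨x₁, rfl⟩ := Ideal.Quotient.mk_surjective (I := K₃.J) b₁
    obtain ⟨x₂, rfl⟩ := Ideal.Quotient.mk_surjective (I := K₃.J) b₂
    rw [pqHom_mk, pqHom_mk] at e1 e2
    have e1' : x₁ - x₂ ∈ K₁.J := Ideal.Quotient.eq.1 e1
    have e2' : x₁ - x₂ ∈ K₂.J := Ideal.Quotient.eq.1 e2
    exact Ideal.Quotient.eq.2 (hinf ⟨e1', e2'⟩)
  surj := by
    intro a' a'' e
    obtain ⟨x, rfl⟩ := Ideal.Quotient.mk_surjective (I := K₁.J) a'
    obtain ⟨y, rfl⟩ := Ideal.Quotient.mk_surjective (I := K₂.J) a''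
    rw [pqHom_mk, pqHom_mk] at e
    have e' : x - y ∈ K₀.J := Ideal.Quotient.eq.1 e
    obtain ⟨u, hu, v, hv, huv⟩ := Submodule.mem_sup.1 (hsup e')
    refine ⟨Ideal.Quotient.mk K₃.J (x - u), ?_, ?_⟩
    · rw [pqHom_mk]
      refine Ideal.Quotient.eq.2 ?_
      have : x - u - x = -u := by ring
      rw [this]
      exact K₁.J.neg_mem hu
    · rw [pqHom_mk]
      refine Ideal.Quotient.eq.2 ?_
      have : x - u - y = v := by linear_combination (-1 : P.carrier) * huv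
      rw [this]
      exact hv

end PQ

section Generic

lemma exists_minimal_ideal {R : Type*} [CommRing R] (M₀ : Ideal R) [IsArtinianRing (R ⧸ M₀)]
    (S : Set (Ideal R)) (hne : S.Nonempty) (hS : ∀ I ∈ S, M₀ ≤ I) :
    ∃ I ∈ S, ∀ I' ∈ S, I' ≤ I → I ≤ I' := by
  obtain ⟨I₀', ⟨I₀, hI₀, rfl⟩, hmin⟩ := IsArtinian.set_has_minimal
    ((Ideal.map (Ideal.Quotient.mk M₀)) '' S) (hne.image _)
  refine ⟨I₀, hI₀, fun I' hI' hle => ?_⟩
  have h1 : Ideal.map (Ideal.Quotient.mk M₀) I' ≤ Ideal.map (Ideal.Quotient.mk M₀) I₀ :=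
    Ideal.map_mono hle
  have h2 : Ideal.map (Ideal.Quotient.mk M₀) I' = Ideal.map (Ideal.Quotient.mk M₀) I₀ :=
    eq_of_le_of_not_lt h1 (hmin _ ⟨I', hI', rfl⟩)
  have h3 : I₀ = I' := by
    rw [← Ideal.comap_map_mk (hS I₀ hI₀), ← h2, Ideal.comap_map_mk (hS I' hI')]
  exact h3.le

lemma exists_compl_ideal {R : Type*} [CommRing R] [IsLocalRing R] [IsNoetherianRing R]
    (J K₁ K₂ : Ideal R) (h1 : K₁ ≤ J) (h2 : K₂ ≤ J) (hm : maximalIdeal R * J ≤ K₂) :
    ∃ K' : Ideal R, K₂ ≤ K' ∧ K' ≤ J ∧ K₁ ⊓ K' ≤ K₂ ∧ K₁ ⊔ K' = J := by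
  let T : Set (Ideal R) := {I | K₂ ≤ I ∧ I ≤ J ∧ K₁ ⊓ I ≤ K₂}
  have hne : T.Nonempty := ⟨K₂, le_rfl, h2, inf_le_right⟩
  obtain ⟨K', ⟨hK1, hK2, hK3⟩, hmax⟩ := set_has_maximal_iff_noetherian.2 inferInstance T hne
  refine ⟨K', hK1, hK2, hK3, le_antisymm (sup_le h1 hK2) ?_⟩
  intro x hx
  by_contra hxn
  have hxK' : x ∉ K' := fun h => hxn (Ideal.mem_sup_right h)
  have hT : K' ⊔ Ideal.span {x} ∈ T := by
    refine ⟨hK1.trans le_sup_left, sup_le hK2 ((Ideal.span_singleton_le_iff_mem _).2 hx), ?_⟩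
    rintro y ⟨hy1, hy2⟩
    obtain ⟨u, hu, v, hv, rfl⟩ := Submodule.mem_sup.1 hy2
    obtain ⟨a, rfl⟩ := Ideal.mem_span_singleton'.1 hv
    by_cases ha : a ∈ maximalIdeal R
    · have h3 : a * x ∈ K₂ := hm (Ideal.mul_mem_mul ha hx)
      have hy' : u + a * x ∈ K' := Ideal.add_mem _ hu (hK1 h3)
      exact hK3 ⟨hy1, hy'⟩
    · exfalso
      have hau : IsUnit a := by rwa [mem_maximalIdeal, mem_nonunits_iff, not_not] at ha
      obtain ⟨b, hb⟩ := hau.exists_left_inv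
      apply hxn
      have h4 : x = b * (u + a * x) - b * u := by
        have h5 : b * (a * x) = x := by rw [← mul_assoc, hb, one_mul]
        linear_combination (-1 : R) * h5
      rw [h4]
      exact Ideal.sub_mem _ (Ideal.mem_sup_left (Ideal.mul_mem_left _ _ hy1))
        (Ideal.mem_sup_right (Ideal.mul_mem_left _ _ hu))
  have hlt : K' < K' ⊔ Ideal.span {x} := by
    refine lt_of_le_of_ne le_sup_left fun h => hxK' ?_
    have : x ∈ K' ⊔ Ideal.span {x} := Ideal.mem_sup_right (Ideal.mem_span_singleton_self x)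
    rwa [← h] at this
  exact hmax _ hT hlt

lemma exists_seq_aux {α : Type*} (p : ℕ → α → Prop) (r : ℕ → α → α → Prop) (x0 : α) (h0 : p 0 x0)
    (hstep : ∀ m y, p m y → ∃ y', p (m + 1) y' ∧ r m y y') :
    ∃ f : ℕ → α, f 0 = x0 ∧ ∀ m, p m (f m) ∧ r m (f m) (f (m + 1)) := by
  haveI : Nonempty α := ⟨x0⟩
  choose! nx hnx using hstep
  let f : ℕ → α := fun m => Nat.rec x0 (fun m y => nx m y) m
  have hf : ∀ m, p m (f m) := by
    intro m
    induction m with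
    | zero => exact h0
    | succ m ih => exact (hnx m _ ih).1
  exact ⟨f, rfl, fun m => ⟨hf m, (hnx m _ (hf m)).2⟩⟩

end Generic

section Lifts

variable [IsNoetherianRing Λ] [Module.Finite Λ k]
variable {P : CRing Λ k} {F : Art Λ k ⥤ Type v}

/-- a stage of the construction: an open ideal and an element over the quotient -/
structure Stage (P : CRing Λ k) (F : Art Λ k ⥤ Type v) where
  /-- the ideal -/
  K : OIdeal P
  /-- the element -/
  ξ : F.obj (pq K)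

/-- `K'` lies between `𝔫 K` and `K` and the element of the stage lifts to the quotient by `K'` -/
def Lifts (s : Stage P F) (K' : OIdeal P) : Prop :=
  maximalIdeal P.carrier * s.K.J ≤ K'.J ∧ K'.J ≤ s.K.J ∧
    ∃ ξ' : F.obj (pq K'), ∀ h : K'.J ≤ s.K.J, F.map (pqHom h) ξ' = s.ξ

omit [IsNoetherianRing Λ] [Module.Finite Λ k] in
lemma lifts_self (s : Stage P F) : Lifts s s.K :=
  ⟨Ideal.mul_le_right, le_rfl, s.ξ, fun h => by rw [pqHom_refl]; exact Functor.map_id_apply ..⟩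

omit [IsNoetherianRing Λ] [Module.Finite Λ k] in
lemma lifts_inf (hS1 : S1 F) (s : Stage P F) {K₁ K₂ : OIdeal P} (h₁ : Lifts s K₁)
    (h₂ : Lifts s K₂) : ∃ K₃ : OIdeal P, K₃.J = K₁.J ⊓ K₂.J ∧ Lifts s K₃ := by
  obtain ⟨hm₁, h₁J, ξ₁, e₁⟩ := h₁
  obtain ⟨hm₂, h₂J, ξ₂, e₂⟩ := h₂
  obtain ⟨K', hK1, hK2, hK3, hK4⟩ := exists_compl_ideal s.K.J K₁.J K₂.J h₁J h₂J hm₂
  obtain ⟨n, hn⟩ := s.K.op
  have hop : maximalIdeal P.carrier ^ (n + 1) ≤ maximalIdeal P.carrier * s.K.J := by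
    rw [pow_succ']; exact Ideal.mul_mono_right hn
  let K₂' : OIdeal P := ⟨K', hK2.trans s.K.le, ⟨n + 1, hop.trans (hm₂.trans hK1)⟩⟩
  let K₃ : OIdeal P :=
    ⟨K₁.J ⊓ K₂.J, inf_le_left.trans K₁.le, ⟨n + 1, hop.trans (le_inf hm₁ hm₂)⟩⟩
  have h31 : K₃.J ≤ K₁.J := inf_le_left
  have h32 : K₃.J ≤ K₂'.J := inf_le_right.trans hK1
  have h22 : K₂.J ≤ K₂'.J := hK1
  have h20 : K₂'.J ≤ s.K.J := hK2
  have hfp : IsFibreProd (pqHom h31) (pqHom h32) (pqHom h₁J) (pqHom h20) :=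
    isFibreProd_pq_inf h31 h32 h₁J h20 (fun y hy => ⟨hy.1, hK3 hy⟩) hK4.ge
  have e₂' : F.map (pqHom h20) (F.map (pqHom h22) ξ₂) = s.ξ := by
    rw [← Functor.map_comp_apply, pqHom_comp]; exact e₂ _
  obtain ⟨z, hz⟩ := hS1 _ _ _ _ hfp (pqHom_surjective _)
    ⟨(ξ₁, F.map (pqHom h22) ξ₂), (e₁ h₁J).trans e₂'.symm⟩
  have hz1 : F.map (pqHom h31) z = ξ₁ := congrArg (fun t => t.1.1) hz
  refine ⟨K₃, rfl, le_inf hm₁ hm₂, inf_le_left.trans h₁J, z, fun h => ?_⟩
  have : pqHom h = pqHom h31 ≫ pqHom h₁J := (pqHom_comp _ _).symm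
  rw [this, Functor.map_comp_apply, hz1, e₁]

omit [IsNoetherianRing Λ] [Module.Finite Λ k] in
theorem exists_least (hS1 : S1 F) (s : Stage P F) :
    ∃ K' : OIdeal P, Lifts s K' ∧ ∀ K'' : OIdeal P, Lifts s K'' → K'.J ≤ K''.J := by
  obtain ⟨n, hn⟩ := s.K.op
  have hop : maximalIdeal P.carrier ^ (n + 1) ≤ maximalIdeal P.carrier * s.K.J := by
    rw [pow_succ']; exact Ideal.mul_mono_right hn
  haveI : IsArtinianRing (P.carrier ⧸ (maximalIdeal P.carrier * s.K.J)) :=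
    isArtinianRing_quot_of_pow_le P _ ⟨n + 1, hop⟩
  let S : Set (Ideal P.carrier) := {I | ∃ K' : OIdeal P, K'.J = I ∧ Lifts s K'}
  obtain ⟨I, ⟨K', rfl, hK'⟩, hmin⟩ := exists_minimal_ideal (maximalIdeal P.carrier * s.K.J) S
    ⟨s.K.J, s.K, rfl, lifts_self s⟩ (by rintro I ⟨K', rfl, hK'⟩; exact hK'.1)
  refine ⟨K', hK', fun K'' hK'' => ?_⟩
  obtain ⟨K₃, hK₃, hL₃⟩ := lifts_inf hS1 s hK' hK''
  have := hmin K₃.J ⟨K₃, rfl, hL₃⟩ (by rw [hK₃]; exact inf_le_left)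
  exact this.trans (by rw [hK₃]; exact inf_le_right)

end Lifts

section Chevalley

variable (P : CRing Λ k) (I : ℕ → Ideal P.carrier) (hI : Antitone I)

include hI in
lemma stab (e : ℕ) : ∃ q, ∀ q', I q ⊔ P.mpow e ≤ I q' ⊔ P.mpow e := by
  haveI := P.isArtinianRing_quot_mpow e
  let f : ℕ →o (Ideal (P.carrier ⧸ P.mpow e))ᵒᵈ :=
    ⟨fun q => OrderDual.toDual ((I q).map (Ideal.Quotient.mk (P.mpow e))), fun a b hab =>
      OrderDual.toDual_le_toDual.2 (Ideal.map_mono (hI hab))⟩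
  obtain ⟨q, hq⟩ := IsArtinian.monotone_stabilizes f
  refine ⟨q, fun q' => ?_⟩
  have key : ∀ q, I q ⊔ P.mpow e = ((I q).map (Ideal.Quotient.mk (P.mpow e))).comap
      (Ideal.Quotient.mk (P.mpow e)) := fun q => by
    rw [Ideal.comap_map_quotientMk]; exact sup_comm _ _
  rcases le_total q q' with h | h
  · have h2 : (I q).map (Ideal.Quotient.mk (P.mpow e)) =
        (I q').map (Ideal.Quotient.mk (P.mpow e)) := OrderDual.toDual.injective (hq q' h)
    rw [key q, key q', h2]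
  · exact sup_le_sup_right (hI h) _

include hI in
theorem chevalley (hop : ∀ q, ∃ m, maximalIdeal P.carrier ^ m ≤ I q) (n : ℕ) :
    ∃ q, I q ≤ (⨅ q, I q) ⊔ maximalIdeal P.carrier ^ n := by
  suffices h : ∃ q, I q ≤ (⨅ q, I q) ⊔ P.mpow n by
    obtain ⟨q, hq⟩ := h
    exact ⟨q, hq.trans (sup_le_sup_left (Ideal.pow_le_pow_right (Nat.le_succ n)) _)⟩
  choose Q hQ using stab P I hI
  refine ⟨Q n, fun x hx => ?_⟩
  have hstep : ∀ m (y : P.carrier), y ∈ I (Q (n + m)) ⊔ P.mpow (n + m) →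
      ∃ y', y' ∈ I (Q (n + (m + 1))) ⊔ P.mpow (n + (m + 1)) ∧ y - y' ∈ P.mpow (n + m) := by
    intro m y hy
    have hy' : y ∈ I (Q (n + (m + 1))) ⊔ P.mpow (n + m) := hQ (n + m) _ hy
    obtain ⟨j, hj, t, ht, rfl⟩ := Submodule.mem_sup.1 hy'
    exact ⟨j, Ideal.mem_sup_left hj, by simpa using ht⟩
  obtain ⟨y, hy0, hy⟩ := exists_seq_aux (fun m y => y ∈ I (Q (n + m)) ⊔ P.mpow (n + m))
    (fun m y y' => y - y' ∈ P.mpow (n + m)) x (Ideal.mem_sup_left hx) hstep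
  have hcau : ∀ m m', m ≤ m' → y m - y m' ∈ P.mpow (n + m) := by
    intro m m' hmm
    induction m', hmm using Nat.le_induction with
    | base => simp
    | succ m' hmm ih =>
      have h1 := (hy m').2
      have h2 : y m' - y (m' + 1) ∈ P.mpow (n + m) := Ideal.pow_le_pow_right (by omega) h1
      have : y m - y (m' + 1) = (y m - y m') + (y m' - y (m' + 1)) := by ring
      rw [this]
      exact Ideal.add_mem _ ih h2
  haveI := P.isAdicComplete
  obtain ⟨L, hL⟩ := IsPrecomplete.prec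
    (inferInstance : IsPrecomplete (maximalIdeal P.carrier) P.carrier)
    (f := fun a => y (a - n)) (by
      intro a b hab
      rw [SModEq.sub_mem, smul_eq_mul, Ideal.mul_top]
      exact Ideal.pow_le_pow_right (by omega) (hcau (a - n) (b - n) (by omega)))
  have hL' : ∀ a, y (a - n) - L ∈ maximalIdeal P.carrier ^ a := fun a => by
    have := hL a
    rwa [SModEq.sub_mem, smul_eq_mul, Ideal.mul_top] at this
  have hLI : L ∈ ⨅ q, I q := by
    rw [Ideal.mem_iInf]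
    intro q
    obtain ⟨m₀, hm₀⟩ := hop q
    have h1 : y m₀ ∈ I q := by
      have := hQ (n + m₀) q ((hy m₀).1)
      refine (sup_le le_rfl ?_ : I q ⊔ P.mpow (n + m₀) ≤ I q) this
      exact (Ideal.pow_le_pow_right (by omega)).trans hm₀
    have h2 := hL' (n + m₀)
    rw [Nat.add_sub_cancel_left] at h2
    have h3 : y m₀ - L ∈ I q := hm₀ (Ideal.pow_le_pow_right (by omega) h2)
    have : L = y m₀ - (y m₀ - L) := by ring
    rw [this]
    exact Ideal.sub_mem _ h1 h3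
  have hxL : x - L ∈ P.mpow n := by
    have h1 := hL' (n + 1)
    rw [show n + 1 - n = 1 by omega] at h1
    have h2 := (hy 0).2
    rw [hy0] at h2
    have : x - L = (x - y 1) + (y 1 - L) := by ring
    rw [this]
    exact Ideal.add_mem _ (by simpa using h2) h1
  have : x = L + (x - L) := by ring
  rw [this]
  exact Ideal.add_mem _ (Ideal.mem_sup_left hLI) (Ideal.mem_sup_right hxL)

end Chevalley

end H6Art
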