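import Groth.Agent.Lib.helper6.ArtFormal3
import Groth.Agent.Lib.helper6.PSeriesComplete
import Groth.Agent.Lib.helper6.LocalSurj
import Groth.Agent.Lib.helper6.SchlA

/-! Relative power series rings over a coefficient ring and smoothness of `h_S → h_R` (helper6). -/

set_option autoImplicit false
universe u v
open CategoryTheory

namespace H6Rel

open ArtFun ArtFun.Art IsLocalRing

section Alg

lemma drop_gen {S : Type*} [CommRing S] (I m : Ideal S)
    {n' : ℕ} (x : Fin (n' + 1) → S) (hspan : I ⊔ Ideal.span (Set.range x) = m)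
    (a : Fin (n' + 1) → S) (ha : ∑ i, a i * x i ∈ I) (j : Fin (n' + 1)) (hj : IsUnit (a j)) :
    I ⊔ Ideal.span (Set.range (x ∘ j.succAbove)) = m := by
  apply le_antisymm
  · rw [← hspan]
    refine sup_le le_sup_left ?_
    rw [Ideal.span_le]
    rintro _ ⟨i, rfl⟩
    exact (le_sup_right : Ideal.span (Set.range x) ≤ I ⊔ Ideal.span (Set.range x))
      (Ideal.subset_span ⟨_, rfl⟩)
  · rw [← hspan]
    refine sup_le le_sup_left ?_
    rw [Ideal.span_le]
    rintro _ ⟨i, rfl⟩
    by_cases hij : i = j
    · subst hij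
      obtain ⟨w, hw⟩ := hj.exists_left_inv
      have hsum := Fin.sum_univ_succAbove (fun l => a l * x l) i
      have h1 : a i * x i = ∑ l, a l * x l - ∑ l : Fin n', a (i.succAbove l) * x (i.succAbove l) := by
        rw [hsum]; ring
      have h2 : a i * x i ∈ I ⊔ Ideal.span (Set.range (x ∘ i.succAbove)) := by
        rw [h1]
        refine Ideal.sub_mem _ (le_sup_left (a := I) ha) ?_
        refine Ideal.sum_mem _ fun l _ => ?_
        exact (le_sup_right : Ideal.span (Set.range (x ∘ i.succAbove)) ≤ _)
          (Ideal.mul_mem_left _ _ (Ideal.subset_span ⟨l, rfl⟩))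
      have h3 : x i = w * (a i * x i) := by rw [← mul_assoc, hw, one_mul]
      rw [SetLike.mem_coe, h3]
      exact Ideal.mul_mem_left _ _ h2
    · obtain ⟨i', rfl⟩ := Fin.exists_succAbove_eq hij
      exact (le_sup_right : Ideal.span (Set.range (x ∘ j.succAbove)) ≤ _)
        (Ideal.subset_span ⟨i', rfl⟩)

lemma exists_min_gens {S : Type*} [CommRing S] [IsNoetherianRing S] (K m : Ideal S) (hK : K ≤ m) :
    ∃ (n : ℕ) (x : Fin n → S), K ⊔ Ideal.span (Set.range x) = m ∧
      ∀ a : Fin n → S, ∑ i, a i * x i ∈ K → ∀ j, ¬ IsUnit (a j) := by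
  classical
  have hP : ∃ n : ℕ, ∃ x : Fin n → S, K ⊔ Ideal.span (Set.range x) = m := by
    obtain ⟨n, s, hs⟩ := Submodule.fg_iff_exists_fin_generating_family.1
      (IsNoetherian.noetherian m)
    refine ⟨n, s, ?_⟩
    have : Ideal.span (Set.range s) = m := hs
    rw [this]
    exact sup_eq_right.2 hK
  obtain ⟨n, ⟨x, hx⟩, hmin⟩ : ∃ n : ℕ, (∃ x : Fin n → S, K ⊔ Ideal.span (Set.range x) = m) ∧
      ∀ m' < n, ¬ ∃ x : Fin m' → S, K ⊔ Ideal.span (Set.range x) = m :=
    ⟨Nat.find hP, Nat.find_spec hP, fun m' h => Nat.find_min hP h⟩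
  refine ⟨n, x, hx, ?_⟩
  intro a ha j hj
  cases n with
  | zero => exact j.elim0
  | succ n' =>
    exact hmin n' (Nat.lt_succ_self _) ⟨x ∘ j.succAbove, drop_gen K m x hx a ha j hj⟩

end Alg

variable {Λ : Type u} {k : Type u} [CommRing Λ] [Field k] [Algebra Λ k]

section PsOver

variable (R : CRing Λ k) (n : ℕ)

/-- the constant coefficient as an algebra map -/
noncomputable def ccAlgHom : MvPowerSeries (Fin n) R.carrier →ₐ[Λ] R.carrier :=
  { (MvPowerSeries.constantCoeff : MvPowerSeries (Fin n) R.carrier →+* R.carrier) with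
    commutes' := fun l => by
      simp [MvPowerSeries.algebraMap_apply] }

lemma ccAlgHom_apply (t : MvPowerSeries (Fin n) R.carrier) :
    ccAlgHom R n t = MvPowerSeries.constantCoeff t := rfl

/-- the power series ring over a coefficient ring, as a coefficient ring -/
noncomputable def psOver : CRing Λ k :=
  haveI : IsAdicComplete (maximalIdeal R.carrier) R.carrier := R.isAdicComplete
  { carrier := MvPowerSeries (Fin n) R.carrier
    res := R.res.comp (ccAlgHom R n)
    res_surjective := fun c => by
      obtain ⟨a, rfl⟩ := R.res_surjective c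
      exact ⟨MvPowerSeries.C a, by
        rw [AlgHom.comp_apply, ccAlgHom_apply, MvPowerSeries.constantCoeff_C]⟩
    isAdicComplete :=
      { toIsHausdorff := inferInstance, toIsPrecomplete := H6PS.isPrecomplete } }

lemma psOver_res_apply (t : MvPowerSeries (Fin n) R.carrier) :
    (psOver R n).res t = R.res (MvPowerSeries.constantCoeff t) := rfl

lemma X_mem (i : Fin n) : (MvPowerSeries.X i : MvPowerSeries (Fin n) R.carrier) ∈
    maximalIdeal (MvPowerSeries (Fin n) R.carrier) := by
  rw [H6PS.mem_maximalIdeal_iff, MvPowerSeries.constantCoeff_X]; exact Ideal.zero_mem _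

lemma C_mem {a : R.carrier} (ha : a ∈ maximalIdeal R.carrier) :
    (MvPowerSeries.C a : MvPowerSeries (Fin n) R.carrier) ∈
    maximalIdeal (MvPowerSeries (Fin n) R.carrier) := by
  rw [H6PS.mem_maximalIdeal_iff, MvPowerSeries.constantCoeff_C]; exact ha

end PsOver


section Versal

variable (R S : CRing Λ k) [Algebra R.carrier S.carrier] [IsScalarTower Λ R.carrier S.carrier]
  (hRS : S.res.comp (IsScalarTower.toAlgHom Λ R.carrier S.carrier) = R.res)

include hRS in
lemma algebraMap_mem {a : R.carrier} (ha : a ∈ maximalIdeal R.carrier) :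
    algebraMap R.carrier S.carrier a ∈ maximalIdeal S.carrier := by
  rw [CRing.mem_maximalIdeal_iff]
  have h := DFunLike.congr_fun hRS a
  have h2 : S.res (algebraMap R.carrier S.carrier a) = R.res a := h
  rw [h2]
  exact (CRing.mem_maximalIdeal_iff R a).1 ha

/-- power series rings over `R` are smooth over `R` -/
theorem isVersal_of_equiv (n : ℕ) (e : S.carrier ≃ₐ[R.carrier] MvPowerSeries (Fin n) R.carrier) :
    IsVersal ((Family.self R.carrier R.res).along
      (IsScalarTower.toAlgHom Λ R.carrier S.carrier) hRS) := by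
  intro B A μ hμ φ y hy
  -- hy : HomSet.map μ y = ⟨φ.1.comp g, _⟩
  have hy' : ∀ r : R.carrier, μ.toAlgHom (y.1 r) = φ.1 (algebraMap R.carrier S.carrier r) := by
    intro r
    exact DFunLike.congr_fun (congrArg Subtype.val hy) r
  letI algB : Algebra R.carrier B := y.1.toRingHom.toAlgebra
  letI algA : Algebra R.carrier A := (μ.toAlgHom.comp y.1).toRingHom.toAlgebra
  -- the images of the variables
  have hsm : ∀ i, e.symm (MvPowerSeries.X i) ∈ maximalIdeal S.carrier := by
    intro i
    rw [mem_maximalIdeal, mem_nonunits_iff]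
    intro hu
    have hu' : IsUnit (e (e.symm (MvPowerSeries.X i))) := hu.map e
    rw [e.apply_symm_apply] at hu'
    exact (mem_nonunits_iff.1 ((mem_maximalIdeal _).1 (X_mem R n i))) hu'
  have hφs : ∀ i, φ.1 (e.symm (MvPowerSeries.X i)) ∈ maximalIdeal A := fun i =>
    H6Art.homSet_map_maximalIdeal φ (hsm i)
  have hb : ∀ i, ∃ b : B, μ b = φ.1 (e.symm (MvPowerSeries.X i)) := fun i => hμ _
  choose b hb using hb
  have hbm : ∀ i, b i ∈ maximalIdeal B := by
    intro i
    rw [Art.mem_maximalIdeal_iff, ← Art.res_app μ, hb]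
    exact (Art.mem_maximalIdeal_iff A _).1 (hφs i)
  obtain ⟨N, hN⟩ := H6Art.exists_pow_maximalIdeal_eq_bot B
  obtain ⟨N', hN'⟩ := H6Art.exists_pow_maximalIdeal_eq_bot A
  let ψ' : MvPowerSeries (Fin n) R.carrier →ₐ[R.carrier] B :=
    H6PS.evalNil (Λ := R.carrier) b (maximalIdeal B) (N + 1) hN hbm
  have hψ'X : ∀ i, ψ' (MvPowerSeries.X i) = b i := fun i => H6PS.evalNil_X _ _ _ _ _ i
  have hψ'c : ∀ r : R.carrier, ψ' (algebraMap R.carrier _ r) = y.1 r := fun r => ψ'.commutes r
  let ψ : S.carrier →ₐ[Λ] B :=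
    { toRingHom := (ψ' : MvPowerSeries (Fin n) R.carrier →+* B).comp (e : S.carrier →+* _)
      commutes' := fun l => by
        change ψ' (e (algebraMap Λ S.carrier l)) = algebraMap Λ B l
        rw [IsScalarTower.algebraMap_apply Λ R.carrier S.carrier, e.commutes, hψ'c,
          AlgHom.commutes] }
  have hψ : ∀ s, ψ s = ψ' (e s) := fun s => rfl
  have claim1 : ∀ r : R.carrier, ψ (algebraMap R.carrier S.carrier r) = y.1 r := by
    intro r
    rw [hψ, e.commutes, hψ'c]
  -- comparison of two `R`-algebra maps into `A`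
  let α₁ : MvPowerSeries (Fin n) R.carrier →ₐ[R.carrier] A :=
    { toRingHom := (μ.toAlgHom : B →+* A).comp (ψ' : MvPowerSeries (Fin n) R.carrier →+* B)
      commutes' := fun r => by
        change μ.toAlgHom (ψ' (algebraMap R.carrier _ r)) = μ.toAlgHom (y.1 r)
        rw [hψ'c] }
  let α₂ : MvPowerSeries (Fin n) R.carrier →ₐ[R.carrier] A :=
    { toRingHom := (φ.1 : S.carrier →+* A).comp (e.symm : MvPowerSeries (Fin n) R.carrier →+* _)
      commutes' := fun r => by
        change φ.1 (e.symm (algebraMap R.carrier _ r)) = μ.toAlgHom (y.1 r)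
        rw [e.symm.commutes, hy'] }
  have hα : α₁ = α₂ := by
    apply H6PS.algHom_ext_nil (maximalIdeal A) (N' + 1) hN'
    · intro i
      change μ.toAlgHom (ψ' (MvPowerSeries.X i)) ∈ _
      rw [hψ'X]
      change μ (b i) ∈ _
      rw [hb]
      exact hφs i
    · intro i
      change μ.toAlgHom (ψ' (MvPowerSeries.X i)) = φ.1 (e.symm (MvPowerSeries.X i))
      rw [hψ'X]
      exact hb i
  have claim2 : ∀ s, μ.toAlgHom (ψ s) = φ.1 s := by
    intro s
    have := DFunLike.congr_fun hα (e s)
    change μ.toAlgHom (ψ' (e s)) = φ.1 (e.symm (e s)) at this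
    rw [e.symm_apply_apply] at this
    exact this
  have hres : B.res.comp ψ = S.res := by
    apply AlgHom.ext
    intro s
    change B.res (ψ s) = S.res s
    have h1 : B.res (ψ s) = A.res (μ.toAlgHom (ψ s)) := (Art.res_app μ (ψ s)).symm
    rw [h1, claim2]
    exact DFunLike.congr_fun φ.2 s
  refine ⟨⟨ψ, hres⟩, ?_, ?_⟩
  · exact Subtype.ext (AlgHom.ext claim2)
  · exact Subtype.ext (AlgHom.ext claim1)


/-- a smooth `R`-algebra in the category of coefficient rings is a power series ring -/
theorem exists_equiv_of_isVersal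
    (hvers : IsVersal ((Family.self R.carrier R.res).along
      (IsScalarTower.toAlgHom Λ R.carrier S.carrier) hRS)) :
    ∃ n : ℕ, Nonempty (S.carrier ≃ₐ[R.carrier] MvPowerSeries (Fin n) R.carrier) := by
  classical
  haveI : IsAdicComplete (maximalIdeal S.carrier) S.carrier := S.isAdicComplete
  haveI : IsAdicComplete (maximalIdeal R.carrier) R.carrier := R.isAdicComplete
  set IR : Ideal S.carrier :=
    Ideal.map (algebraMap R.carrier S.carrier) (maximalIdeal R.carrier) with hIR
  have hIRle : IR ≤ maximalIdeal S.carrier := by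
    rw [hIR, Ideal.map_le_iff_le_comap]
    intro a ha
    exact algebraMap_mem R S hRS ha
  set K : Ideal S.carrier := IR ⊔ maximalIdeal S.carrier ^ 2 with hKdef
  have hK : K ≤ maximalIdeal S.carrier := sup_le hIRle (Ideal.pow_le_self (by norm_num))
  obtain ⟨n, x, hspan, hindep⟩ := exists_min_gens K (maximalIdeal S.carrier) hK
  have hx : ∀ i, x i ∈ maximalIdeal S.carrier := by
    intro i
    rw [← hspan]
    exact (le_sup_right : Ideal.span (Set.range x) ≤ _) (Ideal.subset_span ⟨i, rfl⟩)
  -- the power series ring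
  haveI : IsPrecomplete (maximalIdeal (MvPowerSeries (Fin n) R.carrier))
      (MvPowerSeries (Fin n) R.carrier) := H6PS.isPrecomplete
  let resT : MvPowerSeries (Fin n) R.carrier →ₐ[Λ] k := R.res.comp (ccAlgHom R n)
  have hresT : ∀ t, resT t = R.res (MvPowerSeries.constantCoeff t) := fun t => rfl
  have hresTsurj : Function.Surjective resT := (psOver R n).res_surjective
  have hmemT : ∀ a : MvPowerSeries (Fin n) R.carrier,
      a ∈ maximalIdeal (MvPowerSeries (Fin n) R.carrier) ↔ resT a = 0 :=
    CRing.mem_maximalIdeal_iff (psOver R n)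
  obtain ⟨v, hvX⟩ := H6PS.exists_algHom_X (Λ := R.carrier) (maximalIdeal S.carrier) x hx
  have hvC : ∀ a : R.carrier, v (MvPowerSeries.C a) = algebraMap R.carrier S.carrier a := by
    intro a
    rw [H6PS.C_eq_algebraMap, v.commutes]
  have hmT : maximalIdeal (MvPowerSeries (Fin n) R.carrier) =
      (maximalIdeal R.carrier).map (MvPowerSeries.C (σ := Fin n) (R := R.carrier)) ⊔
        Ideal.span (Set.range MvPowerSeries.X) := H6PS.maximalIdeal_eq
  have hvm : ∀ t ∈ maximalIdeal (MvPowerSeries (Fin n) R.carrier), v t ∈ maximalIdeal S.carrier := by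
    have hle : maximalIdeal (MvPowerSeries (Fin n) R.carrier) ≤
        (maximalIdeal S.carrier).comap (v : MvPowerSeries (Fin n) R.carrier →+* S.carrier) := by
      rw [hmT]
      refine sup_le ?_ ?_
      · rw [Ideal.map_le_iff_le_comap]
        intro a ha
        rw [Ideal.mem_comap, Ideal.mem_comap]
        change v (MvPowerSeries.C a) ∈ maximalIdeal S.carrier
        rw [hvC]
        exact algebraMap_mem R S hRS ha
      · rw [Ideal.span_le]
        rintro _ ⟨i, rfl⟩
        change v (MvPowerSeries.X i) ∈ maximalIdeal S.carrier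
        rw [hvX]
        exact hx i
    exact fun t ht => hle ht
  let vΛ : MvPowerSeries (Fin n) R.carrier →ₐ[Λ] S.carrier := v.restrictScalars Λ
  have hvΛ : ∀ t, vΛ t = v t := fun t => rfl
  have hvres : S.res.comp vΛ = resT := by
    apply AlgHom.ext
    intro t
    have h1 : t - MvPowerSeries.C (MvPowerSeries.constantCoeff t) ∈
        maximalIdeal (MvPowerSeries (Fin n) R.carrier) := by
      rw [H6PS.mem_maximalIdeal_iff, map_sub, MvPowerSeries.constantCoeff_C, sub_self]
      exact Ideal.zero_mem _
    have h2 : S.res (v (t - MvPowerSeries.C (MvPowerSeries.constantCoeff t))) = 0 :=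
      (CRing.mem_maximalIdeal_iff S _).1 (hvm _ h1)
    have h3 : S.res (v (MvPowerSeries.C (MvPowerSeries.constantCoeff t))) =
        R.res (MvPowerSeries.constantCoeff t) := by
      rw [hvC]
      exact DFunLike.congr_fun hRS _
    have h4 : v t = v (t - MvPowerSeries.C (MvPowerSeries.constantCoeff t)) +
        v (MvPowerSeries.C (MvPowerSeries.constantCoeff t)) := by
      rw [← map_add, sub_add_cancel]
    change S.res (v t) = R.res (MvPowerSeries.constantCoeff t)
    rw [h4, map_add, h2, h3, zero_add]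
  have hIRv : IR ≤ Ideal.map vΛ (maximalIdeal (MvPowerSeries (Fin n) R.carrier)) := by
    rw [hIR, Ideal.map_le_iff_le_comap]
    intro a ha
    rw [Ideal.mem_comap, ← hvC a]
    exact Ideal.mem_map_of_mem vΛ (C_mem R n ha)
  -- `v` is surjective
  have hvsurj : Function.Surjective vΛ := by
    have htfae := H6Loc.tfae_surjective resT S.res hresTsurj hmemT
      (CRing.mem_maximalIdeal_iff S) vΛ hvres
    refine (htfae.out 1 0).1 ?_
    apply le_antisymm
    · refine sup_le ?_ (Ideal.pow_le_self (by norm_num))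
      rw [Ideal.map_le_iff_le_comap]
      exact fun t ht => hvm t ht
    · have h1 : K ⊔ Ideal.span (Set.range x) ≤
          Ideal.map vΛ (maximalIdeal (MvPowerSeries (Fin n) R.carrier)) ⊔
            maximalIdeal S.carrier ^ 2 := by
        refine sup_le (sup_le (hIRv.trans le_sup_left) le_sup_right) ?_
        rw [Ideal.span_le]
        rintro _ ⟨i, rfl⟩
        refine (le_sup_left : Ideal.map vΛ _ ≤ _) ?_
        rw [← hvX i]
        exact Ideal.mem_map_of_mem vΛ (X_mem R n i)
      rw [hspan] at h1
      exact h1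
  -- the two families
  let c : R.carrier →ₐ[Λ] MvPowerSeries (Fin n) R.carrier :=
    IsScalarTower.toAlgHom Λ R.carrier (MvPowerSeries (Fin n) R.carrier)
  have hcC : ∀ r : R.carrier, c r = MvPowerSeries.C r := fun r => (H6PS.C_eq_algebraMap r).symm
  have hc : resT.comp c = R.res := by
    apply AlgHom.ext
    intro r
    change R.res (MvPowerSeries.constantCoeff (c r)) = R.res r
    rw [hcC, MvPowerSeries.constantCoeff_C]
  let ξ : Family S.carrier S.res (hR R.carrier R.res) :=
    (Family.self R.carrier R.res).along (IsScalarTower.toAlgHom Λ R.carrier S.carrier) hRS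
  let ηfam : Family (psOver R n).carrier (psOver R n).res (hR R.carrier R.res) :=
    ((Family.self R.carrier R.res).along c hc : Family (MvPowerSeries (Fin n) R.carrier) resT _)
  let η : FormalElt (hR R.carrier R.res) (psOver R n) := ηfam.toFormalElt
  -- the Artinian quotient `S / K`
  let K₀ : H6Art.OIdeal S := ⟨K, hK, ⟨2, le_sup_right⟩⟩
  let φ₀ : HomSet S.carrier S.res (H6Art.pq K₀) := H6Art.pqMk K₀
  have hμ₀ : (H6Art.pq K₀).res.comp (φ₀.1.comp vΛ) = resT := by
    rw [← AlgHom.comp_assoc, φ₀.2, hvres]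
  let μ₀ : HomSet (psOver R n).carrier (psOver R n).res (H6Art.pq K₀) :=
    (⟨φ₀.1.comp vΛ, hμ₀⟩ : HomSet (MvPowerSeries (Fin n) R.carrier) resT (H6Art.pq K₀))
  obtain ⟨N, hN⟩ := H6Art.exists_pow_maximalIdeal_eq_bot (H6Art.pq K₀)
  let μ₀' : (psOver R n).trunc N ⟶ H6Art.pq K₀ := H6Art.factorHom μ₀ N hN
  have hμsurj : Function.Surjective μ₀' := by
    intro a₀
    obtain ⟨s, rfl⟩ := Ideal.Quotient.mk_surjective (I := K) a₀
    obtain ⟨t, rfl⟩ := hvsurj s
    exact ⟨Ideal.Quotient.mk ((psOver R n).mpow N) t, rfl⟩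
  have hcompat : (hR R.carrier R.res).map μ₀' (η.elt N) = ξ.app (H6Art.pq K₀) φ₀ := by
    apply Subtype.ext
    apply AlgHom.ext
    intro r
    change Ideal.Quotient.mk K (v (c r)) = Ideal.Quotient.mk K (algebraMap R.carrier S.carrier r)
    rw [hcC, hvC]
  obtain ⟨φN, h1, h2⟩ := hvers μ₀' hμsurj φ₀ (η.elt N) hcompat
  obtain ⟨u₀, hu₀, hη, hNu⟩ := H6Art.exists_along_from_level S ξ hvers (psOver R n) η N φN h2
  let u : S.carrier →ₐ[Λ] MvPowerSeries (Fin n) R.carrier := u₀
  have hu : resT.comp u = S.res := hu₀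
  -- `u` is `R`-linear
  have huR : ∀ r : R.carrier, u (algebraMap R.carrier S.carrier r) = MvPowerSeries.C r := by
    intro r
    rw [← hcC]
    rw [IsHausdorff.eq_iff_smodEq (I := maximalIdeal (MvPowerSeries (Fin n) R.carrier))]
    intro m
    rw [SModEq.sub_mem, smul_eq_mul, Ideal.mul_top]
    have h3 := congrArg (fun z : FormalElt (hR R.carrier R.res) (psOver R n) => (z.elt m).1 r) hη
    have h4 : Ideal.Quotient.mk (maximalIdeal (MvPowerSeries (Fin n) R.carrier) ^ (m + 1))
          (u (algebraMap R.carrier S.carrier r)) =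
        Ideal.Quotient.mk (maximalIdeal (MvPowerSeries (Fin n) R.carrier) ^ (m + 1)) (c r) := h3
    have h5 := Ideal.Quotient.eq.1 h4
    exact Ideal.pow_le_pow_right (Nat.le_succ m) h5
  -- `v ∘ u` is the identity modulo `K`
  have hvu : ∀ s : S.carrier, v (u s) - s ∈ K := by
    intro s
    have e1 : μ₀' (φN.1 s) = Ideal.Quotient.mk K s :=
      congrArg (fun z : HomSet S.carrier S.res (H6Art.pq K₀) => z.1 s) h1
    have e2 : φN.1 s = Ideal.Quotient.mk ((psOver R n).mpow N) (u s) :=
      (DFunLike.congr_fun hNu s).symm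
    rw [e2] at e1
    have e3 : Ideal.Quotient.mk K (v (u s)) = Ideal.Quotient.mk K s := e1
    exact Ideal.Quotient.eq.1 e3
  have hum : ∀ s ∈ maximalIdeal S.carrier, u s ∈ maximalIdeal (MvPowerSeries (Fin n) R.carrier) := by
    intro s hs
    have : resT (u s) = S.res s := DFunLike.congr_fun hu s
    rw [hmemT, this]
    exact (CRing.mem_maximalIdeal_iff S s).1 hs
  -- the error terms
  have hIRC : (maximalIdeal R.carrier).map (MvPowerSeries.C (σ := Fin n) (R := R.carrier)) ≤
      IR.comap (v : MvPowerSeries (Fin n) R.carrier →+* S.carrier) := by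
    rw [Ideal.map_le_iff_le_comap]
    intro a ha
    rw [Ideal.mem_comap, Ideal.mem_comap]
    change v (MvPowerSeries.C a) ∈ IR
    rw [hvC]
    exact Ideal.mem_map_of_mem _ ha
  have hterr : ∀ i, u (x i) - MvPowerSeries.X i ∈
      (maximalIdeal R.carrier).map (MvPowerSeries.C (σ := Fin n) (R := R.carrier)) ⊔
        maximalIdeal (MvPowerSeries (Fin n) R.carrier) ^ 2 := by
    intro i
    have htm : u (x i) - MvPowerSeries.X i ∈ maximalIdeal (MvPowerSeries (Fin n) R.carrier) :=
      Ideal.sub_mem _ (hum _ (hx i)) (X_mem R n i)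
    have hvt : v (u (x i) - MvPowerSeries.X i) ∈ K := by
      rw [map_sub, hvX]
      exact hvu (x i)
    rw [hmT] at htm
    obtain ⟨r, hr, q, hq, hrq⟩ := Submodule.mem_sup.1 htm
    obtain ⟨cf, hcf⟩ := Ideal.mem_span_range_iff_exists_fun.1 hq
    have hvr : v r ∈ K := (le_sup_left : IR ≤ K) (hIRC hr)
    have hvq : v q ∈ K := by
      have : v q = v (u (x i) - MvPowerSeries.X i) - v r := by
        rw [← hrq, map_add]; ring
      rw [this]
      exact Ideal.sub_mem _ hvt hvr
    have hsum : ∑ j, v (cf j) * x j ∈ K := by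
      have : v q = ∑ j, v (cf j) * x j := by
        rw [← hcf, map_sum]
        refine Finset.sum_congr rfl fun j _ => ?_
        rw [map_mul, hvX]
      rw [← this]
      exact hvq
    have hcfm : ∀ j, cf j ∈ maximalIdeal (MvPowerSeries (Fin n) R.carrier) := by
      intro j
      rw [mem_maximalIdeal, mem_nonunits_iff]
      intro hunit
      exact hindep (fun j => v (cf j)) hsum j (hunit.map v)
    have hq2 : q ∈ maximalIdeal (MvPowerSeries (Fin n) R.carrier) ^ 2 := by
      rw [← hcf, pow_two]
      refine Ideal.sum_mem _ fun j _ => ?_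
      exact Ideal.mul_mem_mul (hcfm j) (X_mem R n j)
    rw [← hrq]
    exact Ideal.add_mem _ (Ideal.mem_sup_left hr) (Ideal.mem_sup_right hq2)
  -- `u ∘ v` is surjective, hence injective
  let f : MvPowerSeries (Fin n) R.carrier →ₐ[Λ] MvPowerSeries (Fin n) R.carrier := u.comp vΛ
  have hfres : resT.comp f = resT := by
    change resT.comp (u.comp vΛ) = resT
    rw [← AlgHom.comp_assoc, hu, hvres]
  have hfC : ∀ a : R.carrier, f (MvPowerSeries.C a) = MvPowerSeries.C a := by
    intro a
    change u (v (MvPowerSeries.C a)) = _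
    rw [hvC, huR]
  have hfX : ∀ i, f (MvPowerSeries.X i) = u (x i) := by
    intro i
    change u (v (MvPowerSeries.X i)) = _
    rw [hvX]
  have hfsurj : Function.Surjective f := by
    have htfae := H6Loc.tfae_surjective resT resT hresTsurj hmemT hmemT f hfres
    refine (htfae.out 1 0).1 ?_
    apply le_antisymm
    · refine sup_le ?_ (Ideal.pow_le_self (by norm_num))
      rw [Ideal.map_le_iff_le_comap]
      intro t ht
      rw [Ideal.mem_comap, hmemT]
      have : resT (f t) = resT t := DFunLike.congr_fun hfres t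
      rw [this]
      exact (hmemT t).1 ht
    · have hCle : (maximalIdeal R.carrier).map (MvPowerSeries.C (σ := Fin n) (R := R.carrier)) ≤
          Ideal.map f (maximalIdeal (MvPowerSeries (Fin n) R.carrier)) := by
        rw [Ideal.map_le_iff_le_comap]
        intro a ha
        rw [Ideal.mem_comap, ← hfC a]
        exact Ideal.mem_map_of_mem f (C_mem R n ha)
      have hge : (maximalIdeal R.carrier).map (MvPowerSeries.C (σ := Fin n) (R := R.carrier)) ⊔
          Ideal.span (Set.range MvPowerSeries.X) ≤
          Ideal.map f (maximalIdeal (MvPowerSeries (Fin n) R.carrier)) ⊔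
            maximalIdeal (MvPowerSeries (Fin n) R.carrier) ^ 2 := by
        refine sup_le (hCle.trans le_sup_left) ?_
        rw [Ideal.span_le]
        rintro _ ⟨i, rfl⟩
        have e : (MvPowerSeries.X i : MvPowerSeries (Fin n) R.carrier) =
            f (MvPowerSeries.X i) - (u (x i) - MvPowerSeries.X i) := by
          rw [hfX]; ring
        rw [SetLike.mem_coe, e]
        refine Ideal.sub_mem _ ?_ ?_
        · exact Ideal.mem_sup_left (Ideal.mem_map_of_mem f (X_mem R n i))
        · exact (sup_le_sup_right hCle _) (hterr i)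
      rw [← hmT] at hge
      exact hge
  have hfinj : Function.Injective f :=
    H6Loc.injective_of_surjective_ringEnd
      (f : MvPowerSeries (Fin n) R.carrier →+* MvPowerSeries (Fin n) R.carrier) hfsurj
  have hvinj : Function.Injective v := by
    intro a b hab
    apply hfinj
    change u (v a) = u (v b)
    rw [hab]
  exact ⟨n, ⟨(AlgEquiv.ofBijective v ⟨hvinj, hvsurj⟩).symm⟩⟩

end Versal


section Maps

variable (R S : CRing Λ k) [Algebra R.carrier S.carrier] [IsScalarTower Λ R.carrier S.carrier]
  (hRS : S.res.comp (IsScalarTower.toAlgHom Λ R.carrier S.carrier) = R.res)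
  {n : ℕ} (v : MvPowerSeries (Fin n) R.carrier →ₐ[R.carrier] S.carrier)
  (hvX : ∀ i, v (MvPowerSeries.X i) ∈ maximalIdeal S.carrier)

include hRS hvX in
lemma algHom_map_mem : ∀ t ∈ maximalIdeal (MvPowerSeries (Fin n) R.carrier),
    v t ∈ maximalIdeal S.carrier := by
  have hvC : ∀ a : R.carrier, v (MvPowerSeries.C a) = algebraMap R.carrier S.carrier a := by
    intro a
    rw [H6PS.C_eq_algebraMap, v.commutes]
  have hle : maximalIdeal (MvPowerSeries (Fin n) R.carrier) ≤
      (maximalIdeal S.carrier).comap (v : MvPowerSeries (Fin n) R.carrier →+* S.carrier) := by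
    rw [H6PS.maximalIdeal_eq]
    refine sup_le ?_ ?_
    · rw [Ideal.map_le_iff_le_comap]
      intro a ha
      rw [Ideal.mem_comap, Ideal.mem_comap]
      change v (MvPowerSeries.C a) ∈ maximalIdeal S.carrier
      rw [hvC]
      exact algebraMap_mem R S hRS ha
    · rw [Ideal.span_le]
      rintro _ ⟨i, rfl⟩
      exact hvX i
  exact fun t ht => hle ht

include hRS hvX in
lemma res_comp_restrictScalars :
    S.res.comp (v.restrictScalars Λ) = R.res.comp (ccAlgHom R n) := by
  have hvC : ∀ a : R.carrier, v (MvPowerSeries.C a) = algebraMap R.carrier S.carrier a := by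
    intro a
    rw [H6PS.C_eq_algebraMap, v.commutes]
  apply AlgHom.ext
  intro t
  have h1 : t - MvPowerSeries.C (MvPowerSeries.constantCoeff t) ∈
      maximalIdeal (MvPowerSeries (Fin n) R.carrier) := by
    rw [H6PS.mem_maximalIdeal_iff, map_sub, MvPowerSeries.constantCoeff_C, sub_self]
    exact Ideal.zero_mem _
  have h2 : S.res (v (t - MvPowerSeries.C (MvPowerSeries.constantCoeff t))) = 0 :=
    (CRing.mem_maximalIdeal_iff S _).1 (algHom_map_mem R S hRS v hvX _ h1)
  have h3 : S.res (v (MvPowerSeries.C (MvPowerSeries.constantCoeff t))) =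
      R.res (MvPowerSeries.constantCoeff t) := by
    rw [hvC]
    exact DFunLike.congr_fun hRS _
  have h4 : v t = v (t - MvPowerSeries.C (MvPowerSeries.constantCoeff t)) +
      v (MvPowerSeries.C (MvPowerSeries.constantCoeff t)) := by
    rw [← map_add, sub_add_cancel]
  change S.res (v t) = R.res (MvPowerSeries.constantCoeff t)
  rw [h4, map_add, h2, h3, zero_add]

include hRS hvX in
/-- a map from a relative power series ring is surjective as soon as it is so on the relative
cotangent space -/
lemma surjective_of_le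
    (h : maximalIdeal S.carrier ≤
      Ideal.map v (maximalIdeal (MvPowerSeries (Fin n) R.carrier)) ⊔ maximalIdeal S.carrier ^ 2) :
    Function.Surjective v := by
  haveI : IsAdicComplete (maximalIdeal R.carrier) R.carrier := R.isAdicComplete
  haveI : IsPrecomplete (maximalIdeal (MvPowerSeries (Fin n) R.carrier))
      (MvPowerSeries (Fin n) R.carrier) := H6PS.isPrecomplete
  have htfae := H6Loc.tfae_surjective (R.res.comp (ccAlgHom R n)) S.res (psOver R n).res_surjective
    (CRing.mem_maximalIdeal_iff (psOver R n))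
    (CRing.mem_maximalIdeal_iff S) (v.restrictScalars Λ) (res_comp_restrictScalars R S hRS v hvX)
  refine (htfae.out 1 0).1 ?_
  apply le_antisymm
  · refine sup_le ?_ (Ideal.pow_le_self (by norm_num))
    rw [Ideal.map_le_iff_le_comap]
    exact fun t ht => algHom_map_mem R S hRS v hvX t ht
  · exact h

end Maps

end H6Rel
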