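import Groth.Agent.Lib.helper6.SchlB
import Groth.Agent.Lib.helper6.RelPS
import Groth.Agent.Lib.helper6.ArtTorsor
import Groth.Agent.Lib.helper6.ArtDual

/-! One step of the construction of a hull: the universal semismall prolongation (helper6). -/

set_option autoImplicit false
universe u v
open CategoryTheory

namespace H6Step

open ArtFun ArtFun.Art IsLocalRing

variable {Λ k : Type u} [CommRing Λ] [Field k] [Algebra Λ k]

/-- the family attached to an element over an object -/
def yFam {F : Art Λ k ⥤ Type v} (R' : Art Λ k) (a' : F.obj R') : Family R'.carrier R'.res F where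
  app A ψ := F.map (Art.homMk ψ.1 ψ.2) a'
  natural f ψ := by
    change F.map (Art.homMk ψ.1 ψ.2 ≫ f) a' = F.map f (F.map (Art.homMk ψ.1 ψ.2) a')
    rw [Functor.map_comp_apply]

section Gen

lemma map_mem_sq {A B : Type*} [CommRing A] [CommRing B] (g : A →+* B) (I : Ideal A) (I' : Ideal B)
    (h : ∀ a ∈ I, g a ∈ I') {s : A} (hs : s ∈ I ^ 2) : g s ∈ I' ^ 2 := by
  have h1 : Ideal.map g (I ^ 2) ≤ I' ^ 2 := by
    rw [Ideal.map_pow]
    exact Ideal.pow_right_mono (Ideal.map_le_iff_le_comap.2 h) 2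
  exact h1 (Ideal.mem_map_of_mem g hs)

lemma map_mem_of_C {Λ : Type*} [CommRing Λ] {r : ℕ} {B : Type*} [CommRing B] [Algebra Λ B]
    (I : Ideal Λ) (g : MvPowerSeries (Fin r) Λ →+* B)
    (hg : ∀ l, g (MvPowerSeries.C l) = algebraMap Λ B l) {l : MvPowerSeries (Fin r) Λ}
    (hl : l ∈ I.map (MvPowerSeries.C (σ := Fin r) (R := Λ))) : g l ∈ I.map (algebraMap Λ B) := by
  have h1 : I.map (MvPowerSeries.C (σ := Fin r) (R := Λ)) ≤ (I.map (algebraMap Λ B)).comap g := by
    rw [Ideal.map_le_iff_le_comap]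
    intro l hl
    rw [Ideal.mem_comap, Ideal.mem_comap, hg]
    exact Ideal.mem_map_of_mem _ hl
  exact h1 hl

lemma map_mem_sup_of {A B : Type*} [CommRing A] [CommRing B] (g : A →+* B) {I₁ I₂ : Ideal A}
    {J₁ J₂ : Ideal B} (h1 : ∀ a ∈ I₁, g a ∈ J₁) (h2 : ∀ a ∈ I₂, g a ∈ J₂) {p : A}
    (hp : p ∈ I₁ ⊔ I₂) : g p ∈ J₁ ⊔ J₂ := by
  have : I₁ ⊔ I₂ ≤ (J₁ ⊔ J₂).comap g :=
    sup_le (fun a ha => Ideal.mem_sup_left (h1 a ha)) (fun a ha => Ideal.mem_sup_right (h2 a ha))
  exact this hp

end Gen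

section Present

variable [IsLocalRing Λ] [IsNoetherianRing Λ] [IsAdicComplete (maximalIdeal Λ) Λ]
  (hk : Function.Surjective (algebraMap Λ k))

include hk in
lemma algebraMap_eq_zero {l : Λ} (hl : l ∈ maximalIdeal Λ) : algebraMap Λ k l = 0 := by
  have hmax : (RingHom.ker (algebraMap Λ k)).IsMaximal :=
    RingHom.ker_isMaximal_of_surjective _ hk
  have : RingHom.ker (algebraMap Λ k) = maximalIdeal Λ := IsLocalRing.eq_maximalIdeal hmax
  rw [← this] at hl
  exact RingHom.mem_ker.1 hl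

include hk in
/-- minimal presentation of an Artinian object -/
theorem exists_presentation (R : Art Λ k) :
    ∃ (r : ℕ) (φ : HomSet (MvPowerSeries (Fin r) Λ) (H6Art.psRes Λ k r) R),
      Function.Surjective φ.1 ∧
      (∀ p, φ.1 p = 0 → p ∈ (maximalIdeal Λ).map (MvPowerSeries.C (σ := Fin r) (R := Λ)) ⊔
        maximalIdeal (MvPowerSeries (Fin r) Λ) ^ 2) ∧
      (∀ p, φ.1 p ∈ (maximalIdeal (R : Type u)) ^ 2 ⊔ (maximalIdeal Λ).map (algebraMap Λ R) →
        p ∈ maximalIdeal (MvPowerSeries (Fin r) Λ) ^ 2 ⊔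
          (maximalIdeal Λ).map (MvPowerSeries.C (σ := Fin r) (R := Λ))) := by
  classical
  set mΛR : Ideal R := Ideal.map (algebraMap Λ R) (maximalIdeal Λ) with hmΛR
  have hmΛRle : mΛR ≤ maximalIdeal R := by
    rw [hmΛR, Ideal.map_le_iff_le_comap]
    intro l hl
    rw [Ideal.mem_comap, Art.mem_maximalIdeal_iff, AlgHom.commutes]
    exact algebraMap_eq_zero hk hl
  set K : Ideal R := mΛR ⊔ maximalIdeal R ^ 2 with hKdef
  have hK : K ≤ maximalIdeal R := sup_le hmΛRle (Ideal.pow_le_self (by norm_num))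
  obtain ⟨r, x, hspan, hindep⟩ := H6Rel.exists_min_gens K (maximalIdeal R) hK
  have hx : ∀ i, x i ∈ maximalIdeal R := by
    intro i
    rw [← hspan]
    exact (le_sup_right : Ideal.span (Set.range x) ≤ _) (Ideal.subset_span ⟨i, rfl⟩)
  haveI : IsPrecomplete (maximalIdeal (MvPowerSeries (Fin r) Λ)) (MvPowerSeries (Fin r) Λ) :=
    H6PS.isPrecomplete
  obtain ⟨φ, hφX⟩ := H6Art.exists_homSet_ps r R x hx
  have hφC : ∀ l : Λ, φ.1 (MvPowerSeries.C l) = algebraMap Λ R l := by
    intro l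
    rw [H6PS.C_eq_algebraMap, φ.1.commutes]
  have hmemP : ∀ p : MvPowerSeries (Fin r) Λ,
      p ∈ maximalIdeal (MvPowerSeries (Fin r) Λ) ↔ H6Art.psRes Λ k r p = 0 :=
    CRing.mem_maximalIdeal_iff (H6Art.psCRing Λ k hk r)
  have hφres : ∀ p, R.res (φ.1 p) = H6Art.psRes Λ k r p := fun p => DFunLike.congr_fun φ.2 p
  have hφm : ∀ p ∈ maximalIdeal (MvPowerSeries (Fin r) Λ), φ.1 p ∈ maximalIdeal R := by
    intro p hp
    rw [Art.mem_maximalIdeal_iff, hφres]
    exact (hmemP p).1 hp
  have hCm : ∀ l ∈ maximalIdeal Λ, (MvPowerSeries.C l : MvPowerSeries (Fin r) Λ) ∈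
      maximalIdeal (MvPowerSeries (Fin r) Λ) := by
    intro l hl
    rw [H6PS.mem_maximalIdeal_iff, MvPowerSeries.constantCoeff_C]
    exact hl
  have hXm : ∀ i, (MvPowerSeries.X i : MvPowerSeries (Fin r) Λ) ∈
      maximalIdeal (MvPowerSeries (Fin r) Λ) := by
    intro i
    rw [H6PS.mem_maximalIdeal_iff, MvPowerSeries.constantCoeff_X]
    exact Ideal.zero_mem _
  have hCle : (maximalIdeal Λ).map (MvPowerSeries.C (σ := Fin r) (R := Λ)) ≤
      mΛR.comap (φ.1 : MvPowerSeries (Fin r) Λ →+* R) := by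
    rw [Ideal.map_le_iff_le_comap]
    intro l hl
    rw [Ideal.mem_comap, Ideal.mem_comap]
    change φ.1 (MvPowerSeries.C l) ∈ mΛR
    rw [hφC]
    exact Ideal.mem_map_of_mem _ hl
  have hsurj : Function.Surjective φ.1 := by
    have htfae := H6Loc.tfae_surjective (H6Art.psRes Λ k r) R.res
      (H6Art.psCRing Λ k hk r).res_surjective hmemP (Art.mem_maximalIdeal_iff R) φ.1 φ.2
    refine (htfae.out 1 0).1 ?_
    apply le_antisymm
    · refine sup_le ?_ (Ideal.pow_le_self (by norm_num))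
      rw [Ideal.map_le_iff_le_comap]
      exact fun p hp => hφm p hp
    · have h1 : K ⊔ Ideal.span (Set.range x) ≤
          Ideal.map φ.1 (maximalIdeal (MvPowerSeries (Fin r) Λ)) ⊔ maximalIdeal R ^ 2 := by
        refine sup_le (sup_le ?_ le_sup_right) ?_
        · refine le_trans ?_ le_sup_left
          rw [hmΛR, Ideal.map_le_iff_le_comap]
          intro l hl
          rw [Ideal.mem_comap, ← hφC l]
          exact Ideal.mem_map_of_mem φ.1 (hCm l hl)
        · refine le_trans ?_ le_sup_left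
          rw [Ideal.span_le]
          rintro _ ⟨i, rfl⟩
          rw [SetLike.mem_coe, ← hφX i]
          exact Ideal.mem_map_of_mem φ.1 (hXm i)
      rw [hspan] at h1
      exact h1
  have hkerb : ∀ p, φ.1 p = 0 → p ∈ (maximalIdeal Λ).map (MvPowerSeries.C (σ := Fin r) (R := Λ)) ⊔
      maximalIdeal (MvPowerSeries (Fin r) Λ) ^ 2 := by
    intro p hp0
    have hpm : p ∈ maximalIdeal (MvPowerSeries (Fin r) Λ) := by
      rw [hmemP, ← hφres, hp0, map_zero]
    rw [H6PS.maximalIdeal_eq] at hpm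
    obtain ⟨l, hl, q, hq, hlq⟩ := Submodule.mem_sup.1 hpm
    obtain ⟨cf, hcf⟩ := Ideal.mem_span_range_iff_exists_fun.1 hq
    have hφl : φ.1 l ∈ mΛR := hCle hl
    have hφq : φ.1 q ∈ K := by
      have h2 : φ.1 l + φ.1 q = 0 := by rw [← map_add, hlq, hp0]
      have : φ.1 q = - φ.1 l := eq_neg_of_add_eq_zero_right h2
      rw [this]
      exact K.neg_mem ((le_sup_left : mΛR ≤ K) hφl)
    have hsum : ∑ j, φ.1 (cf j) * x j ∈ K := by
      have : φ.1 q = ∑ j, φ.1 (cf j) * x j := by
        rw [← hcf, map_sum]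
        refine Finset.sum_congr rfl fun j _ => ?_
        rw [map_mul, hφX]
      rw [← this]
      exact hφq
    have hcfm : ∀ j, cf j ∈ maximalIdeal (MvPowerSeries (Fin r) Λ) := by
      intro j
      rw [mem_maximalIdeal, mem_nonunits_iff]
      intro hunit
      exact hindep (fun j => φ.1 (cf j)) hsum j (hunit.map φ.1)
    have hq2 : q ∈ maximalIdeal (MvPowerSeries (Fin r) Λ) ^ 2 := by
      rw [← hcf, pow_two]
      refine Ideal.sum_mem _ fun j _ => ?_
      exact Ideal.mul_mem_mul (hcfm j) (hXm j)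
    rw [← hlq]
    exact Ideal.add_mem _ (Ideal.mem_sup_left hl) (Ideal.mem_sup_right hq2)
  refine ⟨r, φ, hsurj, hkerb, ?_⟩
  intro p hqx'
  have hmR : maximalIdeal (R : Type u) ≤
      Ideal.map φ.1 (maximalIdeal (MvPowerSeries (Fin r) Λ)) := by
    intro y hy
    obtain ⟨p', rfl⟩ := hsurj y
    refine Ideal.mem_map_of_mem φ.1 ?_
    rw [hmemP, ← hφres]
    exact (Art.mem_maximalIdeal_iff R _).1 hy
  have hle1 : (maximalIdeal (R : Type u)) ^ 2 ⊔ (maximalIdeal Λ).map (algebraMap Λ R) ≤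
      Ideal.map φ.1 (maximalIdeal (MvPowerSeries (Fin r) Λ) ^ 2 ⊔
        (maximalIdeal Λ).map (MvPowerSeries.C (σ := Fin r) (R := Λ))) := by
    rw [Ideal.map_sup, Ideal.map_pow]
    refine sup_le_sup (Ideal.pow_right_mono hmR 2) ?_
    rw [Ideal.map_le_iff_le_comap]
    intro l hl
    rw [Ideal.mem_comap, ← hφC l]
    exact Ideal.mem_map_of_mem φ.1 (Ideal.mem_map_of_mem _ hl)
  obtain ⟨p', hp', hpp'⟩ := (Ideal.mem_map_iff_of_surjective φ.1 hsurj).1 (hle1 hqx')
  have hdiff : φ.1 (p - p') = 0 := by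
    rw [map_sub, sub_eq_zero]
    exact hpp'.symm
  have h3 := hkerb _ hdiff
  have : p = (p - p') + p' := by ring
  rw [this]
  refine Ideal.add_mem _ ?_ hp'
  rw [sup_comm]
  exact h3

end Present


section Step

variable [IsLocalRing Λ] [IsNoetherianRing Λ] [IsAdicComplete (maximalIdeal Λ) Λ]
  (hk : Function.Surjective (algebraMap Λ k))

include hk in
theorem step (F : Art Λ k ⥤ Type v) (h0 : H0 F) (hS1 : S1 F) (hE : Heps F)
    (R : Art Λ k) (a : F.obj R)
    (hvers : ∀ (R₀ : Art Λ k), IsSmallExt (toBase R₀) →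
      ∀ b : F.obj R₀, ∃ φ : R ⟶ R₀, F.map φ a = b) :
    ∃ (R' : Art Λ k) (q : R' ⟶ R) (a' : F.obj R'), F.map q a' = a ∧
      IsSemismallExt q ∧
      (∀ x' : R', x' ∈ maximalIdeal (R' : Type u) →
        q x' ∈ (maximalIdeal (R : Type u)) ^ 2 ⊔ (maximalIdeal Λ).map (algebraMap Λ R) →
        x' ∈ (maximalIdeal (R' : Type u)) ^ 2 ⊔ (maximalIdeal Λ).map (algebraMap Λ R')) ∧
      ∀ (R₁ : Art Λ k) (π₁ : R₁ ⟶ R), IsSmallExt π₁ →
        ∀ a₁ : F.obj R₁, F.map π₁ a₁ = a → ∃ f : R' ⟶ R₁, f ≫ π₁ = q ∧ F.map f a' = a₁ := by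
  classical
  haveI : Module.Finite Λ k := Module.Finite.of_surjective (Algebra.linearMap Λ k) hk
  obtain ⟨r, φ, hφsurj, hφker, hφcot⟩ := exists_presentation hk R
  set P : CRing Λ k := H6Art.psCRing Λ k hk r with hPdef
  let φP : HomSet P.carrier P.res R := φ
  have hP : IsSmoothFunctor (hR P.carrier P.res) := H6Art.isSmoothFunctor_hR_ps r
  obtain ⟨N, hN⟩ := H6Art.exists_pow_maximalIdeal_eq_bot R
  have hmemP : ∀ p : P.carrier, p ∈ maximalIdeal P.carrier ↔ P.res p = 0 :=
    CRing.mem_maximalIdeal_iff P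
  have hφres : ∀ p : P.carrier, R.res (φP.1 p) = P.res p := fun p => DFunLike.congr_fun φP.2 p
  have hJm : RingHom.ker (φP.1 : P.carrier →+* R) ≤ maximalIdeal P.carrier := by
    intro p hp
    have hp0 : φP.1 p = 0 := RingHom.mem_ker.1 hp
    rw [hmemP, ← hφres, hp0, map_zero]
  have hop : maximalIdeal P.carrier ^ (N + 1) ≤ RingHom.ker (φP.1 : P.carrier →+* R) :=
    fun p hp => RingHom.mem_ker.2 (H6Art.mpow_le_ker φP N hN p hp)
  let KJ : H6Art.OIdeal P := ⟨RingHom.ker (φP.1 : P.carrier →+* R), hJm, ⟨N + 1, hop⟩⟩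
  let e : H6Art.pq KJ ⟶ R := H6Art.pqLift KJ φP le_rfl
  have he : Function.Bijective e := by
    constructor
    · intro x₁ x₂ h12
      obtain ⟨a₁, rfl⟩ := Ideal.Quotient.mk_surjective (I := KJ.J) x₁
      obtain ⟨a₂, rfl⟩ := Ideal.Quotient.mk_surjective (I := KJ.J) x₂
      have h12' : φP.1 a₁ = φP.1 a₂ := h12
      refine Ideal.Quotient.eq.2 ?_
      change a₁ - a₂ ∈ RingHom.ker (φP.1 : P.carrier →+* R)
      rw [RingHom.mem_ker, map_sub, sub_eq_zero]
      exact h12'
    · intro y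
      obtain ⟨p, hp⟩ := hφsurj y
      exact ⟨Ideal.Quotient.mk KJ.J p, hp⟩
  haveI : IsIso e := H6Art.isIso_of_bijective e he
  let s : H6Art.Stage P F := ⟨KJ, F.map (inv e) a⟩
  obtain ⟨K', ⟨hmK, hK'J, ξ', hξ'⟩, hleast⟩ := H6Art.exists_least hS1 s
  have hK'J' : K'.J ≤ RingHom.ker (φP.1 : P.carrier →+* R) := hK'J
  let q : H6Art.pq K' ⟶ R := H6Art.pqLift K' φP hK'J'
  have hqmk : ∀ p : P.carrier, q (Ideal.Quotient.mk K'.J p) = φP.1 p := fun p => rfl
  have hqe : q = H6Art.pqHom hK'J ≫ e := (H6Art.pqHom_pqLift hK'J φP le_rfl).symm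
  have hqa : F.map q ξ' = a := by
    rw [hqe, Functor.map_comp_apply, hξ' hK'J]
    change F.map e (F.map (inv e) a) = a
    rw [← Functor.map_comp_apply, IsIso.inv_hom_id, Functor.map_id_apply]
  have hmkm : ∀ p : P.carrier, p ∈ maximalIdeal P.carrier →
      Ideal.Quotient.mk K'.J p ∈ maximalIdeal (H6Art.pq K' : Type u) := by
    intro p hp
    exact (Art.mem_maximalIdeal_iff (H6Art.pq K') _).2 ((hmemP p).1 hp)
  have hmkm' : ∀ p : P.carrier, Ideal.Quotient.mk K'.J p ∈ maximalIdeal (H6Art.pq K' : Type u) →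
      p ∈ maximalIdeal P.carrier := by
    intro p hp
    rw [hmemP]
    exact (Art.mem_maximalIdeal_iff _ _).1 hp
  refine ⟨H6Art.pq K', q, ξ', hqa, ⟨?_, ?_⟩, ?_, ?_⟩
  · -- surjective
    intro y
    obtain ⟨p, hp⟩ := hφsurj y
    exact ⟨Ideal.Quotient.mk K'.J p, hp⟩
  · -- kernel killed by the maximal ideal
    rw [eq_bot_iff, Ideal.mul_le]
    intro a' ha' b' hb'
    obtain ⟨pa, rfl⟩ := Ideal.Quotient.mk_surjective (I := K'.J) a'
    obtain ⟨pb, rfl⟩ := Ideal.Quotient.mk_surjective (I := K'.J) b'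
    have hpa : pa ∈ maximalIdeal P.carrier := hmkm' pa ha'
    have hpb : pb ∈ KJ.J := by
      change pb ∈ RingHom.ker (φP.1 : P.carrier →+* R)
      rw [RingHom.mem_ker]
      exact RingHom.mem_ker.1 hb'
    have : pa * pb ∈ K'.J := hmK (Ideal.mul_mem_mul hpa hpb)
    have h0 : Ideal.Quotient.mk K'.J (pa * pb) = 0 := Ideal.Quotient.eq_zero_iff_mem.2 this
    rw [Ideal.mem_bot]
    exact (map_mul (Ideal.Quotient.mk K'.J) pa pb).symm.trans h0
  · -- relative cotangent spaces
    intro x' hx' hqx'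
    obtain ⟨p, rfl⟩ := Ideal.Quotient.mk_surjective (I := K'.J) x'
    have hp2 := hφcot p hqx'
    exact map_mem_sup_of (A := MvPowerSeries (Fin r) Λ) (B := (H6Art.pq K' : Type u))
      (Ideal.Quotient.mk K'.J)
      (fun s hs => map_mem_sq (A := MvPowerSeries (Fin r) Λ) (B := (H6Art.pq K' : Type u))
        (Ideal.Quotient.mk K'.J) _ _ (fun a ha => hmkm a ha) hs)
      (fun l hl => map_mem_of_C (B := (H6Art.pq K' : Type u)) (maximalIdeal Λ)
        (Ideal.Quotient.mk K'.J) (fun l => by rw [H6PS.C_eq_algebraMap]; rfl) hl) hp2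
  · -- versality for small prolongations
    intro R₁ π₁ hπ₁ a₁ ha₁
    obtain ⟨w, hw⟩ := hP π₁ hπ₁.1 φP
    have hw' : ∀ p : P.carrier, π₁ ((w : HomSet P.carrier P.res R₁).1 p) = φP.1 p := fun p =>
      DFunLike.congr_fun (congrArg Subtype.val hw) p
    have hker : ∀ c ∈ maximalIdeal R₁, ∀ t ∈ RingHom.ker π₁.toAlgHom, c * t = 0 := by
      intro c hc t ht
      have : c * t ∈ maximalIdeal R₁ * RingHom.ker π₁.toAlgHom := Ideal.mul_mem_mul hc ht
      rw [hπ₁.2.2.2] at this
      exact this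
    have hresw : ∀ p : P.carrier, R₁.res ((w : HomSet P.carrier P.res R₁).1 p) = P.res p :=
      fun p => DFunLike.congr_fun (w : HomSet P.carrier P.res R₁).2 p
    have hwker : ∀ j ∈ KJ.J, (w : HomSet P.carrier P.res R₁).1 j ∈ RingHom.ker π₁.toAlgHom := by
      intro j hj
      rw [RingHom.mem_ker]
      change π₁ ((w : HomSet P.carrier P.res R₁).1 j) = 0
      rw [hw']
      exact RingHom.mem_ker.1 hj
    have hKle : RingHom.ker ((w : HomSet P.carrier P.res R₁).1 : P.carrier →+* R₁) ≤ KJ.J := by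
      intro p hp
      have h1 : (w : HomSet P.carrier P.res R₁).1 p = 0 := RingHom.mem_ker.1 hp
      have h2 : φP.1 p = 0 := by
        rw [← hw', h1]
        exact map_zero π₁.toAlgHom
      exact RingHom.mem_ker.2 h2
    have hmK' : maximalIdeal P.carrier * KJ.J ≤
        RingHom.ker ((w : HomSet P.carrier P.res R₁).1 : P.carrier →+* R₁) := by
      rw [Ideal.mul_le]
      intro c hc j hj
      rw [RingHom.mem_ker]
      change (w : HomSet P.carrier P.res R₁).1 (c * j) = 0
      rw [map_mul]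
      refine hker _ ?_ _ (hwker j hj)
      rw [Art.mem_maximalIdeal_iff, hresw]
      exact (hmemP c).1 hc
    have key : K'.J ≤ RingHom.ker ((w : HomSet P.carrier P.res R₁).1 : P.carrier →+* R₁) := by
      by_cases hcase : ∀ x ∈ KJ.J, (w : HomSet P.carrier P.res R₁).1 x = 0
      · exact hK'J.trans (fun x hx => RingHom.mem_ker.2 (hcase x hx))
      · push Not at hcase
        obtain ⟨x₀, hx₀, hwx₀⟩ := hcase
        have ht₀mem := hwker x₀ hx₀
        obtain ⟨t, ht⟩ := hπ₁.2.2.1
        have htmem : t ∈ RingHom.ker π₁.toAlgHom := by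
          rw [ht]; exact Submodule.mem_span_singleton_self t
        obtain ⟨b, hb⟩ : ∃ b : R₁, b * t = (w : HomSet P.carrier P.res R₁).1 x₀ := by
          have := ht₀mem
          rw [ht] at this
          exact Ideal.mem_span_singleton'.1 this
        have hbu : IsUnit b := by
          by_contra hnu
          apply hwx₀
          rw [← hb]
          exact hker b ((mem_maximalIdeal b).2 hnu) t htmem
        obtain ⟨v, hv⟩ := hbu.exists_left_inv
        have hwsurj : Function.Surjective (w : HomSet P.carrier P.res R₁).1 := by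
          intro c
          obtain ⟨p, hp⟩ : ∃ p : P.carrier, φP.1 p = π₁ c := hφsurj (π₁ c)
          have hc'mem : c - (w : HomSet P.carrier P.res R₁).1 p ∈ RingHom.ker π₁.toAlgHom := by
            rw [RingHom.mem_ker, map_sub]
            change π₁ c - π₁ ((w : HomSet P.carrier P.res R₁).1 p) = 0
            rw [hw', hp, sub_self]
          obtain ⟨b', hb'⟩ : ∃ b' : R₁, b' * t = c - (w : HomSet P.carrier P.res R₁).1 p := by
            have := hc'mem
            rw [ht] at this
            exact Ideal.mem_span_singleton'.1 this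
          obtain ⟨a', ha'⟩ := P.res_surjective (R₁.res (b' * v))
          refine ⟨p + a' * x₀, ?_⟩
          rw [map_add, map_mul]
          have e2 : (w : HomSet P.carrier P.res R₁).1 a' * (w : HomSet P.carrier P.res R₁).1 x₀ =
              (b' * v) * (w : HomSet P.carrier P.res R₁).1 x₀ := by
            have hdiff : (w : HomSet P.carrier P.res R₁).1 a' - b' * v ∈ maximalIdeal R₁ := by
              rw [Art.mem_maximalIdeal_iff, map_sub, hresw a', ha', sub_self]
            have := hker _ hdiff _ ht₀mem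
            rw [sub_mul, sub_eq_zero] at this
            exact this
          rw [e2, ← hb]
          have e3 : b' * v * (b * t) = b' * t := by
            have : b' * v * (b * t) = b' * ((v * b) * t) := by ring
            rw [this, hv, one_mul]
          rw [e3, hb']
          ring
        have hopt : maximalIdeal P.carrier ^ (N + 1 + 1) ≤
            RingHom.ker ((w : HomSet P.carrier P.res R₁).1 : P.carrier →+* R₁) := by
          refine le_trans ?_ hmK'
          rw [pow_succ']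
          exact Ideal.mul_mono_right hop
        let Kt : H6Art.OIdeal P :=
          ⟨RingHom.ker ((w : HomSet P.carrier P.res R₁).1 : P.carrier →+* R₁),
            hKle.trans KJ.le, ⟨N + 1 + 1, hopt⟩⟩
        let et : H6Art.pq Kt ⟶ R₁ := H6Art.pqLift Kt w le_rfl
        have het : Function.Bijective et := by
          constructor
          · intro x₁ x₂ h12
            obtain ⟨a₁', rfl⟩ := Ideal.Quotient.mk_surjective (I := Kt.J) x₁
            obtain ⟨a₂', rfl⟩ := Ideal.Quotient.mk_surjective (I := Kt.J) x₂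
            have h12' : (w : HomSet P.carrier P.res R₁).1 a₁' =
                (w : HomSet P.carrier P.res R₁).1 a₂' := h12
            refine Ideal.Quotient.eq.2 ?_
            change a₁' - a₂' ∈
              RingHom.ker ((w : HomSet P.carrier P.res R₁).1 : P.carrier →+* R₁)
            rw [RingHom.mem_ker, map_sub, sub_eq_zero]
            exact h12'
          · intro c
            obtain ⟨p, hp⟩ := hwsurj c
            exact ⟨Ideal.Quotient.mk Kt.J p, hp⟩
        haveI : IsIso et := H6Art.isIso_of_bijective et het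
        have hLift : H6Art.Lifts s Kt := by
          refine ⟨hmK', hKle, F.map (inv et) a₁, fun h => ?_⟩
          have e1 : H6Art.pqHom h ≫ e = et ≫ π₁ := H6Art.pq_hom_ext fun p => (hw' p).symm
          have h2 : F.map (H6Art.pqHom h ≫ e) (F.map (inv et) a₁) = a := by
            rw [e1, Functor.map_comp_apply, ← Functor.map_comp_apply (f := inv et),
              IsIso.inv_hom_id, Functor.map_id_apply, ha₁]
          calc F.map (H6Art.pqHom h) (F.map (inv et) a₁)
              = F.map (inv e) (F.map e (F.map (H6Art.pqHom h) (F.map (inv et) a₁))) := by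
                rw [← Functor.map_comp_apply (f := e), IsIso.hom_inv_id, Functor.map_id_apply]
            _ = F.map (inv e) a := by
                rw [← Functor.map_comp_apply (f := H6Art.pqHom h), h2]
        exact hleast Kt hLift
    let f₀ : H6Art.pq K' ⟶ R₁ := H6Art.pqLift K' w key
    have hf₀ : f₀ ≫ π₁ = q := H6Art.pq_hom_ext fun p => hw' p
    -- correct `f₀` by a tangent vector
    have hd : Function.Surjective ((H6Art.GNat.ofFamily (yFam (H6Art.pq K') ξ')).app (dual Λ k)) := by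
      intro b
      obtain ⟨φ', hφ'⟩ := hvers (dual Λ k) H6Art.isSmallExt_toBase_dual b
      refine ⟨⟨(q ≫ φ').toAlgHom, (q ≫ φ').res_comp⟩, ?_⟩
      change F.map (q ≫ φ') ξ' = b
      rw [Functor.map_comp_apply, hqa, hφ']
    obtain ⟨w₂, hw₂1, hw₂2⟩ := H6Art.GNat.exists_lift_of_tangent_surjective
      (H6Art.GNat.ofFamily (yFam (H6Art.pq K') ξ'))
      ⟨fun a b => by rw [H6Art.homSet_base_eq a, H6Art.homSet_base_eq b]⟩
      (fun P B p' p'' h => by
        rintro ⟨⟨g', g''⟩, hg⟩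
        obtain ⟨s, hs1, hs2⟩ := H6Art.IsFibreProd.exists_homSet_lift h g' g'' hg
        exact ⟨s, Subtype.ext (Prod.ext hs1 hs2)⟩)
      hS1
      (fun _ _ p' p'' h => (hE p' p'' h).1)
      hd π₁ hπ₁ ⟨f₀.toAlgHom, f₀.res_comp⟩ a₁ (by
        change F.map π₁ (F.map f₀ ξ') = F.map π₁ a₁
        rw [← Functor.map_comp_apply, hf₀, hqa, ha₁])
    refine ⟨Art.homMk w₂.1 w₂.2, ?_, hw₂2⟩
    rw [← hf₀]
    apply Art.hom_ext
    exact congrArg Subtype.val hw₂1

end Step

end H6Step
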