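import Groth.Prelude.Def_Exal
import Groth.Agent.Lib.helper6.SGA7Step
import Groth.Agent.Lib.helper6.LocalSurj
import Groth.Agent.Lib.helper6.ArtFibreSep

/-! A local Artinian `k`-algebra with residue field `k` other than `k` has a nontrivial extension by
its residue field (helper6). -/

set_option autoImplicit false
universe u v
open CategoryTheory

namespace H6Exal

open IsLocalRing ArtFun ArtFun.Art

/-- A functional to the residue field not killing a given element outside `m M`. -/
theorem exists_linearMap_module {S k : Type*} [CommRing S] [IsLocalRing S] [Field k] [Algebra S k]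
    (hres : Function.Surjective (algebraMap S k)) {M : Type*} [AddCommGroup M] [Module S M]
    (x : M) (hx : x ∉ (maximalIdeal S • ⊤ : Submodule S M)) :
    ∃ ℓ : M →ₗ[S] k, ℓ x ≠ 0 := by
  classical
  set m := maximalIdeal S with hm
  letI : Field (S ⧸ m) := Ideal.Quotient.field m
  set N : Submodule S M := m • ⊤ with hN
  have hM : Module.IsTorsionBySet S (M ⧸ N) m := by
    intro v a
    obtain ⟨y, rfl⟩ := Submodule.mkQ_surjective N v
    rw [← map_smul, Submodule.mkQ_apply, Submodule.Quotient.mk_eq_zero, hN]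
    exact Submodule.smul_mem_smul a.2 Submodule.mem_top
  letI := hM.module
  have hxV : N.mkQ x ∉ (⊥ : Submodule (S ⧸ m) (M ⧸ N)) := by
    rw [Submodule.mem_bot, Submodule.mkQ_apply, Submodule.Quotient.mk_eq_zero]
    exact hx
  obtain ⟨φ, hφ, -⟩ := Submodule.exists_le_ker_of_notMem hxV
  have hker : ∀ a : S, a ∈ m → algebraMap S k a = 0 := by
    intro a ha
    have hmax : (RingHom.ker (algebraMap S k)).IsMaximal :=
      RingHom.ker_isMaximal_of_surjective _ hres
    have := IsLocalRing.eq_maximalIdeal hmax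
    rw [← RingHom.mem_ker, this]
    exact ha
  let ι : S ⧸ m →+* k := Ideal.Quotient.lift m (algebraMap S k) hker
  refine ⟨{ toFun := fun y => ι (φ (N.mkQ y)), map_add' := ?_, map_smul' := ?_ }, ?_⟩
  · intro y z
    rw [map_add, map_add, map_add]
  · intro s y
    have h1 : N.mkQ (s • y) = (Ideal.Quotient.mk m s) • N.mkQ y := by
      rw [map_smul]
      rfl
    rw [h1, map_smul, smul_eq_mul, map_mul, RingHom.id_apply, Algebra.smul_def]
    rfl
  · change ι (φ (N.mkQ x)) ≠ 0
    rw [Ne, map_eq_zero]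
    exact hφ

section

variable {k : Type u} [Field k] {A : Type u} [CommRing A] [Algebra k A] [IsLocalRing A]
  [IsArtinianRing A]

theorem exists_nontrivial_ext
    (hres : ∀ a : A, ∃ c : k, a - algebraMap k A c ∈ maximalIdeal A)
    (hA : maximalIdeal A ≠ ⊥) :
    ∃ X : Exal.Ext k A (ResidueField A), ¬ X.IsTrivial := by
  classical
  have hbij : Function.Bijective (algebraMap k (ResidueField A)) := by
    refine ⟨(algebraMap k (ResidueField A)).injective, fun z => ?_⟩
    obtain ⟨a, rfl⟩ := IsLocalRing.residue_surjective z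
    obtain ⟨c, hc⟩ := hres a
    refine ⟨c, ?_⟩
    rw [IsScalarTower.algebraMap_apply k A (ResidueField A), IsLocalRing.ResidueField.algebraMap_eq]
    symm
    rw [← sub_eq_zero, ← map_sub]
    exact (IsLocalRing.residue_eq_zero_iff _).2 hc
  let eqv : k ≃ₐ[k] ResidueField A :=
    AlgEquiv.ofBijective (Algebra.ofId k (ResidueField A)) hbij
  let resA : A →ₐ[k] k := eqv.symm.toAlgHom.comp (IsScalarTower.toAlgHom k A (ResidueField A))
  have hresA_def : ∀ a, resA a = eqv.symm (algebraMap A (ResidueField A) a) := fun a => rfl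
  have hresA : ∀ a, resA a = 0 ↔ a ∈ maximalIdeal A := by
    intro a
    rw [hresA_def, map_eq_zero_iff _ eqv.symm.injective, IsLocalRing.ResidueField.algebraMap_eq,
      IsLocalRing.residue_eq_zero_iff]
  have hresA_surj : Function.Surjective resA := fun c =>
    ⟨algebraMap k A c, by rw [AlgHom.commutes]; rfl⟩
  let R : Art k k := Art.of A resA hresA_surj
  haveI : IsAdicComplete (maximalIdeal k) k :=
    H6Art.isAdicComplete_of_pow_eq_bot _ 1 (by rw [pow_one]; exact IsLocalRing.maximalIdeal_eq_bot)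
  have hk : Function.Surjective (algebraMap k k) := Function.surjective_id
  obtain ⟨r, φ, hφs, hφk, -⟩ := H6Step.exists_presentation hk R
  let φA : MvPowerSeries (Fin r) k →ₐ[k] A := φ.1
  have hφA_surj : Function.Surjective φA := hφs
  have hφres : ∀ p, resA (φA p) = H6Art.psRes k k r p := fun p => AlgHom.congr_fun φ.2 p
  letI iPk : Algebra (MvPowerSeries (Fin r) k) k := (H6Art.psRes k k r).toRingHom.toAlgebra
  have hpsC : ∀ c : k, H6Art.psRes k k r (MvPowerSeries.C c) = c := by
    intro c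
    rw [H6PS.C_eq_algebraMap, AlgHom.commutes]
    rfl
  have hPk_surj : Function.Surjective (algebraMap (MvPowerSeries (Fin r) k) k) :=
    fun c => ⟨MvPowerSeries.C c, hpsC c⟩
  have hmP : ∀ p, p ∈ maximalIdeal (MvPowerSeries (Fin r) k) ↔ H6Art.psRes k k r p = 0 := by
    intro p
    have hmax : (RingHom.ker (algebraMap (MvPowerSeries (Fin r) k) k)).IsMaximal :=
      RingHom.ker_isMaximal_of_surjective _ hPk_surj
    rw [← IsLocalRing.eq_maximalIdeal hmax, RingHom.mem_ker]
    rfl
  set I : Ideal (MvPowerSeries (Fin r) k) := RingHom.ker (φA : MvPowerSeries (Fin r) k →+* A)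
    with hIdef
  have hI2 : I ≤ maximalIdeal (MvPowerSeries (Fin r) k) ^ 2 := by
    intro p hp
    have := hφk p (RingHom.mem_ker.1 hp)
    rwa [IsLocalRing.maximalIdeal_eq_bot, Ideal.map_bot, bot_sup_eq] at this
  have hIm : I ≤ maximalIdeal (MvPowerSeries (Fin r) k) := hI2.trans (Ideal.pow_le_self (by norm_num))
  -- `I ≠ m I`
  have hInot : ¬ I ≤ maximalIdeal (MvPowerSeries (Fin r) k) * I := by
    intro hle
    have hbot : I = ⊥ := by
      apply Submodule.eq_bot_of_le_smul_of_le_jacobson_bot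
        (maximalIdeal (MvPowerSeries (Fin r) k)) I (IsNoetherian.noetherian I) hle
      exact IsLocalRing.maximalIdeal_le_jacobson ⊥
    apply hA
    rw [eq_bot_iff]
    intro a ha
    obtain ⟨n, hn⟩ := H6Art.exists_pow_maximalIdeal_eq_bot R
    obtain ⟨p, rfl⟩ := hφA_surj a
    have h1 : φA p ^ (n + 1) = 0 := by
      have : φA p ^ (n + 1) ∈ maximalIdeal A ^ (n + 1) := Ideal.pow_mem_pow ha _
      have hn' : maximalIdeal A ^ (n + 1) = ⊥ := hn
      rw [hn'] at this
      exact this
    have h2 : p ^ (n + 1) ∈ I := by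
      rw [hIdef, RingHom.mem_ker, map_pow]
      exact h1
    rw [hbot, Ideal.mem_bot] at h2
    have h3 : p = 0 := pow_eq_zero_iff (Nat.succ_ne_zero n) |>.1 h2
    rw [h3, map_zero]
    exact Ideal.zero_mem _
  obtain ⟨t, htI, htmI⟩ := SetLike.not_le_iff_exists.1 hInot
  have htx : (⟨t, htI⟩ : I) ∉ (maximalIdeal (MvPowerSeries (Fin r) k) • ⊤ : Submodule (MvPowerSeries (Fin r) k) I) := by
    intro hmem
    apply htmI
    have h1 : I.subtype ⟨t, htI⟩ ∈ Submodule.map I.subtype
        (maximalIdeal (MvPowerSeries (Fin r) k) • ⊤ : Submodule (MvPowerSeries (Fin r) k) I) :=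
      Submodule.mem_map_of_mem hmem
    rw [Submodule.map_smul'', Submodule.map_subtype_top] at h1
    exact h1
  obtain ⟨ℓ, hℓt⟩ := exists_linearMap_module hPk_surj (⟨t, htI⟩ : I) htx
  set d : k := ℓ ⟨t, htI⟩ with hd
  have hℓsmul : ∀ (a : MvPowerSeries (Fin r) k) (i : I), ℓ (a • i) = H6Art.psRes k k r a * ℓ i := by
    intro a i
    rw [map_smul, Algebra.smul_def]
    rfl
  let H : Ideal (MvPowerSeries (Fin r) k) := Submodule.map I.subtype (LinearMap.ker ℓ)
  have hHI : H ≤ I := by
    rintro _ ⟨y, -, rfl⟩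
    exact y.2
  have hH : ∀ (i : MvPowerSeries (Fin r) k) (hi : i ∈ I), i ∈ H ↔ ℓ ⟨i, hi⟩ = 0 := by
    intro i hi
    constructor
    · rintro ⟨y, hy, hyi⟩
      have : y = ⟨i, hi⟩ := Subtype.ext hyi
      rw [← this]
      exact LinearMap.mem_ker.1 hy
    · intro h0
      exact ⟨⟨i, hi⟩, LinearMap.mem_ker.2 h0, rfl⟩
  have hkill : ∀ a ∈ maximalIdeal (MvPowerSeries (Fin r) k), ∀ i ∈ I, a * i ∈ H := by
    intro a ha i hi
    rw [hH (a * i) (I.mul_mem_left a hi)]
    have : (⟨a * i, I.mul_mem_left a hi⟩ : I) = a • ⟨i, hi⟩ := rfl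
    rw [this, hℓsmul, (hmP a).1 ha, zero_mul]
  have hφH : ∀ p ∈ H, φA p = 0 := fun p hp => RingHom.mem_ker.1 (hHI hp)
  let proj : (MvPowerSeries (Fin r) k ⧸ H) →ₐ[k] A := Ideal.Quotient.liftₐ H φA hφH
  have hproj : ∀ p, proj (Ideal.Quotient.mk H p) = φA p := fun p => rfl
  let ρ : ResidueField A →+* (MvPowerSeries (Fin r) k ⧸ H) :=
    (Ideal.Quotient.mk H).comp ((MvPowerSeries.C : k →+* MvPowerSeries (Fin r) k).comp
      (eqv.symm.toAlgHom : ResidueField A →ₐ[k] k).toRingHom)
  have hρ : ∀ z, ρ z = Ideal.Quotient.mk H (MvPowerSeries.C (eqv.symm z)) := fun z => rfl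
  let incl : ResidueField A →+ (MvPowerSeries (Fin r) k ⧸ H) :=
    (AddMonoidHom.mulRight (Ideal.Quotient.mk H t)).comp ρ.toAddMonoidHom
  have hincl : ∀ z, incl z = Ideal.Quotient.mk H (MvPowerSeries.C (eqv.symm z) * t) := by
    intro z
    change ρ z * Ideal.Quotient.mk H t = _
    rw [hρ, ← map_mul]
  have hCtI : ∀ c : k, MvPowerSeries.C c * t ∈ I := fun c => I.mul_mem_left _ htI
  have hℓCt : ∀ c : k, ℓ ⟨MvPowerSeries.C c * t, hCtI c⟩ = c * d := by
    intro c
    have : (⟨MvPowerSeries.C c * t, hCtI c⟩ : I) = (MvPowerSeries.C c : MvPowerSeries (Fin r) k) • ⟨t, htI⟩ :=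
      rfl
    rw [this, hℓsmul, hpsC]
  have hext : Exal.IsExtension proj incl := by
    refine ⟨?_, ?_, ?_, ?_⟩
    · intro a
      obtain ⟨p, rfl⟩ := hφA_surj a
      exact ⟨Ideal.Quotient.mk H p, rfl⟩
    · rw [injective_iff_map_eq_zero]
      intro z hz
      rw [hincl, Ideal.Quotient.eq_zero_iff_mem, hH _ (hCtI _), hℓCt] at hz
      have h0 : eqv.symm z = 0 := (mul_eq_zero.1 hz).resolve_right hℓt
      exact (map_eq_zero_iff _ eqv.symm.injective).1 h0
    · intro x
      obtain ⟨p, rfl⟩ := Ideal.Quotient.mk_surjective x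
      rw [hproj]
      constructor
      · intro hp
        have hpI : p ∈ I := RingHom.mem_ker.2 hp
        refine ⟨eqv (ℓ ⟨p, hpI⟩ / d), ?_⟩
        rw [hincl, AlgEquiv.symm_apply_apply, eq_comm, ← sub_eq_zero, ← map_sub,
          Ideal.Quotient.eq_zero_iff_mem, hH _ (I.sub_mem hpI (hCtI _))]
        have : (⟨p - MvPowerSeries.C (ℓ ⟨p, hpI⟩ / d) * t, I.sub_mem hpI (hCtI _)⟩ : I) =
            ⟨p, hpI⟩ - ⟨MvPowerSeries.C (ℓ ⟨p, hpI⟩ / d) * t, hCtI _⟩ := rfl
        rw [this, map_sub, hℓCt, div_mul_cancel₀ _ hℓt, sub_self]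
      · rintro ⟨z, hz⟩
        have := congrArg proj hz
        rw [hproj, hincl, hproj] at this
        rw [← this]
        exact RingHom.mem_ker.1 (hCtI _)
    · intro x z
      obtain ⟨p, rfl⟩ := Ideal.Quotient.mk_surjective x
      rw [hincl, hincl, hproj, ← map_mul, eq_comm, ← sub_eq_zero, ← map_sub,
        Ideal.Quotient.eq_zero_iff_mem]
      have h1 : eqv.symm (φA p • z) = H6Art.psRes k k r p * eqv.symm z := by
        rw [Algebra.smul_def, map_mul, ← hφres, hresA_def]
      rw [h1, map_mul]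
      have h2 : MvPowerSeries.C (H6Art.psRes k k r p) * MvPowerSeries.C (eqv.symm z) * t -
          p * (MvPowerSeries.C (eqv.symm z) * t) =
          (MvPowerSeries.C (H6Art.psRes k k r p) - p) * (MvPowerSeries.C (eqv.symm z) * t) := by
        ring
      rw [h2]
      apply hkill _ _ _ (hCtI _)
      rw [hmP, map_sub, hpsC, sub_self]
  refine ⟨{ E := MvPowerSeries (Fin r) k ⧸ H, proj := proj, incl := incl, isExtension := hext }, ?_⟩
  rintro ⟨s, hs⟩
  change ∀ b : A, proj (s b) = b at hs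
  let ψ : MvPowerSeries (Fin r) k →ₐ[k] (MvPowerSeries (Fin r) k ⧸ H) := s.comp φA
  have hdiff : ∀ p, ∃ i ∈ I, ψ p = Ideal.Quotient.mk H (p - i) := by
    intro p
    obtain ⟨q, hq⟩ := Ideal.Quotient.mk_surjective (Ideal.Quotient.mk H p - ψ p)
    refine ⟨q, ?_, ?_⟩
    · rw [hIdef, RingHom.mem_ker]
      have := congrArg proj hq
      rw [hproj, map_sub, hproj] at this
      change φA q = φA p - proj (s (φA p)) at this
      change φA q = 0
      rw [this, hs, sub_self]
    · rw [map_sub, hq]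
      ring
  have hsq : ∀ p ∈ maximalIdeal (MvPowerSeries (Fin r) k) ^ 2, Ideal.Quotient.mk H p = ψ p := by
    intro p hp
    rw [pow_two] at hp
    refine Submodule.mul_induction_on hp ?_ ?_
    · intro a ha b hb
      obtain ⟨ia, hia, ea⟩ := hdiff a
      obtain ⟨ib, hib, eb⟩ := hdiff b
      rw [map_mul ψ, ea, eb, ← map_mul, ← sub_eq_zero, ← map_sub, Ideal.Quotient.eq_zero_iff_mem]
      have e : a * b - (a - ia) * (b - ib) = a * ib + (b - ib) * ia := by ring
      rw [e]
      exact H.add_mem (hkill a ha ib hib)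
        (hkill (b - ib) (Ideal.sub_mem _ hb (hIm hib)) ia hia)
    · intro x y hx hy
      rw [map_add, map_add, hx, hy]
  have h1 := hsq t (hI2 htI)
  have h2 : ψ t = 0 := by
    change s (φA t) = 0
    have h0 : φA t = 0 := RingHom.mem_ker.1 htI
    rw [h0, map_zero]
  rw [h2, Ideal.Quotient.eq_zero_iff_mem, hH t htI] at h1
  exact hℓt h1

end

end H6Exal
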