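import Mathlib
import Groth.Agent.Lib.helper6.CSASplit

/-!
Descent of a finite-dimensional division algebra to a subfield containing its structure constants.
-/

namespace H6FD

open TensorProduct

universe u

theorem exists_descent {K F' : Type u} [Field K] [Field F'] [Algebra K F']
    {D : Type u} [DivisionRing D] [Algebra F' D] {N : ℕ} (b : Module.Basis (Fin N) F' D)
    (E : IntermediateField K F')
    (hc : ∀ i j l, b.repr (b i * b j) l ∈ E) (h1 : ∀ l, b.repr 1 l ∈ E) :
    ∃ (D₀ : Type u) (_ : DivisionRing D₀) (_ : Algebra E D₀) (_ : Module.Finite E D₀),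
      Nonempty (F' ⊗[E] D₀ ≃ₐ[F'] D) := by
  classical
  have hbW : ∀ i, b i ∈ Submodule.span E (Set.range b) :=
    fun i => Submodule.subset_span ⟨i, rfl⟩
  have hsm : ∀ (c : F') (_ : c ∈ E) (x : D), x ∈ Submodule.span E (Set.range b) →
      c • x ∈ Submodule.span E (Set.range b) := by
    intro c hc x hx
    have h : c • x = (⟨c, hc⟩ : E) • x := rfl
    rw [h]
    exact Submodule.smul_mem _ _ hx
  have hbb : ∀ i j, b i * b j ∈ Submodule.span E (Set.range b) := by
    intro i j
    rw [← b.sum_repr (b i * b j)]
    exact Submodule.sum_mem _ fun l _ => hsm _ (hc i j l) _ (hbW l)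
  have h1W : (1 : D) ∈ Submodule.span E (Set.range b) := by
    rw [← b.sum_repr 1]
    exact Submodule.sum_mem _ fun l _ => hsm _ (h1 l) _ (hbW l)
  have hbmul : ∀ i, ∀ y ∈ Submodule.span E (Set.range b),
      b i * y ∈ Submodule.span E (Set.range b) := by
    intro i y hy
    induction hy using Submodule.span_induction with
    | mem y hy =>
      obtain ⟨j, rfl⟩ := hy
      exact hbb i j
    | zero =>
      rw [mul_zero]
      exact Submodule.zero_mem _
    | add x y _ _ hx hy =>
      rw [mul_add]
      exact Submodule.add_mem _ hx hy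
    | smul c x _ hx =>
      rw [mul_smul_comm]
      exact Submodule.smul_mem _ c hx
  have hWmul : ∀ x y, x ∈ Submodule.span E (Set.range b) →
      y ∈ Submodule.span E (Set.range b) → x * y ∈ Submodule.span E (Set.range b) := by
    intro x y hx hy
    induction hx using Submodule.span_induction with
    | mem x hx =>
      obtain ⟨i, rfl⟩ := hx
      exact hbmul i y hy
    | zero =>
      rw [zero_mul]
      exact Submodule.zero_mem _
    | add x z _ _ hx hz =>
      rw [add_mul]
      exact Submodule.add_mem _ hx hz
    | smul c x _ hx =>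
      rw [smul_mul_assoc]
      exact Submodule.smul_mem _ c hx
  let D₀ : Subalgebra E D := (Submodule.span E (Set.range b)).toSubalgebra h1W hWmul
  have hD₀ : Subalgebra.toSubmodule D₀ = Submodule.span E (Set.range b) :=
    Submodule.toSubalgebra_toSubmodule _ _ _
  haveI hfin : Module.Finite E D₀ := by
    apply FiniteDimensional.of_subalgebra_toSubmodule
    rw [hD₀]
    exact Module.Finite.span_of_finite E (Set.finite_range b)
  have hbD : ∀ i, b i ∈ D₀ := fun i => hbW i
  let ψ : F' ⊗[E] D₀ →ₐ[F'] D :=
    Algebra.TensorProduct.lift (Algebra.ofId F' D) (D₀.val)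
      (fun x y => Algebra.commute_algebraMap_left x (D₀.val y))
  have hψ : ∀ (f : F') (x : D₀), ψ (f ⊗ₜ[E] x) = algebraMap F' D f * (x : D) :=
    fun f x => Algebra.TensorProduct.lift_tmul _ _ _ f x
  have hsurj : Function.Surjective ψ := by
    have hr : LinearMap.range ψ.toLinearMap = ⊤ := by
      rw [eq_top_iff, ← b.span_eq, Submodule.span_le]
      rintro _ ⟨i, rfl⟩
      refine ⟨(1 : F') ⊗ₜ[E] (⟨b i, hbD i⟩ : D₀), ?_⟩
      show ψ ((1 : F') ⊗ₜ[E] (⟨b i, hbD i⟩ : D₀)) = b i
      rw [hψ, map_one, one_mul]
    intro y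
    have hy : y ∈ LinearMap.range ψ.toLinearMap := hr ▸ Submodule.mem_top
    exact hy
  have hle : Module.finrank F' (F' ⊗[E] D₀) ≤ N := by
    rw [Module.finrank_baseChange]
    have h2 : Module.finrank E D₀ = Module.finrank E (Submodule.span E (Set.range b)) := by
      rw [← hD₀]
      rfl
    rw [h2]
    have h3 := finrank_range_le_card (R := E) (b : Fin N → D)
    simpa [Set.finrank] using h3
  haveI : Module.Finite F' D := Module.Finite.of_basis b
  have hinj : Function.Injective ψ := by
    have hge := LinearMap.finrank_le_finrank_of_surjective (f := ψ.toLinearMap) hsurj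
    have hND : Module.finrank F' D = N := by
      rw [Module.finrank_eq_card_basis b, Fintype.card_fin]
    have hdim : Module.finrank F' (F' ⊗[E] D₀) = Module.finrank F' D := by omega
    exact (LinearMap.injective_iff_surjective_of_finrank_eq_finrank
      (f := ψ.toLinearMap) hdim).mpr hsurj
  exact ⟨D₀, divisionRingOfFiniteDimensional E D₀, (inferInstance : Algebra E D₀), hfin,
    ⟨AlgEquiv.ofBijective ψ ⟨hinj, hsurj⟩⟩⟩

end H6FD
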