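import Mathlib
/-! Evaluation of binary products of Type-valued functors (helper6). -/
set_option autoImplicit false
namespace H6Cat
open CategoryTheory CategoryTheory.Limits
universe v u w
variable {C : Type u} [Category.{w} C] {F G : C ⥤ Type v}

noncomputable def prodAppIso (X : C) : (F ⨯ G).obj X ≅ (F.obj X × G.obj X) :=
  PreservesLimitPair.iso ((evaluation C (Type v)).obj X) F G ≪≫ Types.binaryProductIso (F.obj X) (G.obj X)

lemma prodAppIso_hom_fst (X : C) (z : (F ⨯ G).obj X) :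
    ((prodAppIso X).hom z).1 = (prod.fst : F ⨯ G ⟶ F).app X z := by
  have h1 : (prodAppIso (F := F) (G := G) X).hom ≫ ↾_root_.Prod.fst = (prod.fst : F ⨯ G ⟶ F).app X := by
    unfold prodAppIso
    rw [Iso.trans_hom, Category.assoc, Types.binaryProductIso_hom_comp_fst, PreservesLimitPair.iso_hom]
    exact prodComparison_fst _ _ _
  exact ConcreteCategory.congr_hom h1 z

lemma prodAppIso_hom_snd (X : C) (z : (F ⨯ G).obj X) :
    ((prodAppIso X).hom z).2 = (prod.snd : F ⨯ G ⟶ G).app X z := by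
  have h1 : (prodAppIso (F := F) (G := G) X).hom ≫ ↾_root_.Prod.snd = (prod.snd : F ⨯ G ⟶ G).app X := by
    unfold prodAppIso
    rw [Iso.trans_hom, Category.assoc, Types.binaryProductIso_hom_comp_snd, PreservesLimitPair.iso_hom]
    exact prodComparison_snd _ _ _
  exact ConcreteCategory.congr_hom h1 z

lemma prod_app_ext (X : C) (z1 z2 : (F ⨯ G).obj X)
    (h1 : (prod.fst : F ⨯ G ⟶ F).app X z1 = (prod.fst : F ⨯ G ⟶ F).app X z2)
    (h2 : (prod.snd : F ⨯ G ⟶ G).app X z1 = (prod.snd : F ⨯ G ⟶ G).app X z2) : z1 = z2 := by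
  have : (prodAppIso X).hom z1 = (prodAppIso X).hom z2 := by
    apply Prod.ext
    · rw [prodAppIso_hom_fst, prodAppIso_hom_fst, h1]
    · rw [prodAppIso_hom_snd, prodAppIso_hom_snd, h2]
  have h3 := congrArg (prodAppIso X).inv this
  simpa using h3

lemma prod_app_exists (X : C) (x : F.obj X) (y : G.obj X) :
    ∃ z : (F ⨯ G).obj X, (prod.fst : F ⨯ G ⟶ F).app X z = x ∧ (prod.snd : F ⨯ G ⟶ G).app X z = y := by
  refine ⟨(prodAppIso X).inv (x, y), ?_, ?_⟩
  · rw [← prodAppIso_hom_fst]; simp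
  · rw [← prodAppIso_hom_snd]; simp
end H6Cat
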