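import Mathlib

/-! Power series over a local ring: maximal-adic (pre)completeness, quotients,
universal property into targets with a nilpotent ideal. -/

namespace H6PS

open MvPowerSeries IsLocalRing Finsupp

section Decomp

variable {Λ : Type*} [CommRing Λ] {r : ℕ}

/-- leading-variable decomposition of a power series -/
theorem exists_decomp (f : MvPowerSeries (Fin r) Λ) :
    ∃ g : Fin r → MvPowerSeries (Fin r) Λ,
      f = C (coeff 0 f) + ∑ i, X i * g i ∧
      ∀ i e', coeff e' (g i) = 0 ∨ coeff e' (g i) = coeff (e' + single i 1) f := by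
  classical
  let gi : Fin r → MvPowerSeries (Fin r) Λ := fun i e' =>
    if (∀ j, j < i → e' j = 0) then coeff (e' + single i 1) f else 0
  have hgi : ∀ i e', coeff e' (gi i) =
      if (∀ j, j < i → e' j = 0) then coeff (e' + single i 1) f else 0 := fun _ _ => rfl
  refine ⟨gi, ?_, ?_⟩
  · ext e
    rw [map_add, map_sum]
    simp_rw [X_def, coeff_monomial_mul, one_mul, hgi]
    by_cases he : e = 0
    · subst he
      rw [coeff_zero_C, Finset.sum_eq_zero, add_zero]
      intro i _
      rw [if_neg]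
      rw [single_le_iff]
      simp
    · rw [coeff_C, if_neg he, zero_add]
      obtain ⟨i₀, hi₀⟩ := exists_minimal_of_wellFoundedLT (fun i : Fin r => e i ≠ 0)
        (by by_contra h; push Not at h; exact he (Finsupp.ext fun a => by simpa using h a))
      have h1 : e i₀ ≠ 0 := hi₀.1
      have h2 : ∀ j, j < i₀ → e j = 0 := fun j hj => by
        by_contra hne
        exact absurd (hi₀.2 hne hj.le) (not_le.2 hj)
      rw [Finset.sum_eq_single_of_mem i₀ (Finset.mem_univ _)]
      · have hle : single i₀ 1 ≤ e := by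
          rw [single_le_iff]; exact Nat.one_le_iff_ne_zero.2 h1
        rw [if_pos hle, if_pos, tsub_add_cancel_of_le hle]
        intro j hj
        rw [Finsupp.tsub_apply, single_apply, if_neg (ne_of_gt hj), h2 j hj]
        exact Nat.sub_zero 0
      · intro i _ hne
        by_cases hle : single i 1 ≤ e
        · rw [if_pos hle, if_neg]
          intro hall
          have hei : e i ≠ 0 := by
            rw [single_le_iff] at hle; exact Nat.one_le_iff_ne_zero.1 hle
          rcases lt_trichotomy i i₀ with h | h | h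
          · exact hei (h2 i h)
          · exact hne h
          · have := hall i₀ h
            rw [Finsupp.tsub_apply, single_apply, if_neg (ne_of_gt h)] at this
            exact h1 (by simpa using this)
        · rw [if_neg hle]
  · intro i e'
    rw [hgi]
    split_ifs
    · exact Or.inr rfl
    · exact Or.inl rfl

theorem mem_pow_of_coeff (𝔞 : Ideal Λ) : ∀ (N : ℕ) (f : MvPowerSeries (Fin r) Λ),
    (∀ e : Fin r →₀ ℕ, e.degree < N → coeff e f ∈ 𝔞 ^ (N - e.degree)) →
    f ∈ (𝔞.map (C (σ := Fin r) (R := Λ)) ⊔ Ideal.span (Set.range X)) ^ N := by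
  intro N
  induction N with
  | zero => intro f _; simp
  | succ N ih =>
    intro f hf
    obtain ⟨g, hfg, hg⟩ := exists_decomp f
    rw [hfg]
    refine Ideal.add_mem _ ?_ (Ideal.sum_mem _ fun i _ => ?_)
    · have h0 : coeff 0 f ∈ 𝔞 ^ (N + 1) := by
        have := hf 0 (by simp)
        simpa using this
      have : C (coeff 0 f) ∈ (𝔞.map (C (σ := Fin r) (R := Λ))) ^ (N + 1) := by
        rw [← Ideal.map_pow]; exact Ideal.mem_map_of_mem _ h0
      exact Ideal.pow_right_mono le_sup_left _ this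
    · rw [pow_succ']
      refine Ideal.mul_mem_mul (le_sup_right (a := 𝔞.map (C (σ := Fin r) (R := Λ)))
        (Ideal.subset_span ⟨i, rfl⟩)) (ih _ ?_)
      intro e' he'
      rcases hg i e' with h | h
      · rw [h]; exact Ideal.zero_mem _
      · rw [h]
        have := hf (e' + single i 1) (by rw [map_add, degree_single]; omega)
        rw [map_add, degree_single] at this
        have hexp : N + 1 - (e'.degree + 1) = N - e'.degree := by omega
        rwa [hexp] at this

/-- the ideal of power series whose coefficient at `e` lies in `𝔞 ^ (N - |e|)` -/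
def cI (𝔞 : Ideal Λ) (N : ℕ) : Ideal (MvPowerSeries (Fin r) Λ) where
  carrier := {f | ∀ e : Fin r →₀ ℕ, coeff e f ∈ 𝔞 ^ (N - e.degree)}
  add_mem' := fun {f g} hf hg e => by rw [map_add]; exact Ideal.add_mem _ (hf e) (hg e)
  zero_mem' := fun e => by rw [map_zero]; exact Ideal.zero_mem _
  smul_mem' := fun c f hf e => by
    classical
    rw [smul_eq_mul, coeff_mul]
    refine Ideal.sum_mem _ fun p hp => ?_
    have hp' : p.1 + p.2 = e := by simpa using hp
    have hd : p.2.degree ≤ e.degree := by rw [← hp', map_add]; exact Nat.le_add_left _ _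
    exact Ideal.mul_mem_left _ _ (Ideal.pow_le_pow_right (by omega) (hf p.2))

theorem cI_mul_mem {𝔞 : Ideal Λ} {M N : ℕ} {f g : MvPowerSeries (Fin r) Λ}
    (hf : f ∈ cI 𝔞 M) (hg : g ∈ cI 𝔞 N) : f * g ∈ cI 𝔞 (M + N) := by
  classical
  intro e
  rw [coeff_mul]
  refine Ideal.sum_mem _ fun p hp => ?_
  have hp' : p.1 + p.2 = e := by simpa using hp
  have hd : p.1.degree + p.2.degree = e.degree := by rw [← hp', map_add]
  have := Ideal.mul_mem_mul (hf p.1) (hg p.2)
  rw [← pow_add] at this
  exact Ideal.pow_le_pow_right (by omega) this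

end Decomp

section Local

variable {Λ : Type*} [CommRing Λ] [IsLocalRing Λ] {r : ℕ}

theorem mem_maximalIdeal_iff (f : MvPowerSeries (Fin r) Λ) :
    f ∈ maximalIdeal (MvPowerSeries (Fin r) Λ) ↔ constantCoeff f ∈ maximalIdeal Λ := by
  rw [mem_maximalIdeal, mem_maximalIdeal, mem_nonunits_iff, mem_nonunits_iff,
    isUnit_iff_constantCoeff]

theorem maximalIdeal_eq :
    maximalIdeal (MvPowerSeries (Fin r) Λ) =
      (maximalIdeal Λ).map (C (σ := Fin r) (R := Λ)) ⊔ Ideal.span (Set.range X) := by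
  apply le_antisymm
  · intro f hf
    have key : ∀ e : Fin r →₀ ℕ, e.degree < 1 →
        coeff e f ∈ maximalIdeal Λ ^ (1 - e.degree) := by
      intro e he
      have he0 : e = 0 := by
        have : e.degree = 0 := by omega
        exact (degree_eq_zero_iff _).1 this
      subst he0
      rw [mem_maximalIdeal_iff] at hf
      simpa [coeff_zero_eq_constantCoeff_apply] using hf
    have := mem_pow_of_coeff (maximalIdeal Λ) 1 f key
    simpa using this
  · refine sup_le ?_ ?_
    · rw [Ideal.map_le_iff_le_comap]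
      intro a ha
      rw [Ideal.mem_comap, mem_maximalIdeal_iff, constantCoeff_C]; exact ha
    · rw [Ideal.span_le]
      rintro _ ⟨i, rfl⟩
      rw [SetLike.mem_coe, mem_maximalIdeal_iff, constantCoeff_X]; exact Ideal.zero_mem _

theorem pow_le_cI (N : ℕ) :
    maximalIdeal (MvPowerSeries (Fin r) Λ) ^ N ≤ cI (maximalIdeal Λ) N := by
  induction N with
  | zero => intro f _ e; simp
  | succ N ih =>
    rw [pow_succ]
    refine Ideal.mul_le.2 fun f hf g hg => cI_mul_mem (ih hf) ?_
    intro e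
    by_cases he : e = 0
    · subst he
      rw [mem_maximalIdeal_iff] at hg
      simpa [coeff_zero_eq_constantCoeff_apply] using hg
    · have : 1 - e.degree = 0 := by
        have : e.degree ≠ 0 := fun h => he ((degree_eq_zero_iff _).1 h)
        omega
      rw [this, pow_zero, Ideal.one_eq_top]; trivial

theorem isPrecomplete [IsPrecomplete (maximalIdeal Λ) Λ] :
    IsPrecomplete (maximalIdeal (MvPowerSeries (Fin r) Λ)) (MvPowerSeries (Fin r) Λ) := by
  rw [isPrecomplete_iff]
  intro f hf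
  have hf' : ∀ {m n}, m ≤ n → f m - f n ∈ maximalIdeal (MvPowerSeries (Fin r) Λ) ^ m := by
    intro m n hmn
    have := hf hmn
    rwa [SModEq.sub_mem, smul_eq_mul, Ideal.mul_top] at this
  have hcau : ∀ e : Fin r →₀ ℕ, ∃ L : Λ, ∀ n, coeff e (f (n + e.degree)) ≡ L
      [SMOD (maximalIdeal Λ ^ n • ⊤ : Submodule Λ Λ)] := by
    intro e
    apply IsPrecomplete.prec (inferInstance : IsPrecomplete (maximalIdeal Λ) Λ)
    intro m n hmn
    rw [SModEq.sub_mem, smul_eq_mul, Ideal.mul_top, ← map_sub]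
    have := pow_le_cI _ (hf' (Nat.add_le_add_right hmn e.degree)) e
    rwa [Nat.add_sub_cancel] at this
  choose L hL using hcau
  refine ⟨fun e => L e, fun n => ?_⟩
  rw [SModEq.sub_mem, smul_eq_mul, Ideal.mul_top, maximalIdeal_eq]
  apply mem_pow_of_coeff
  intro e he
  have := hL e (n - e.degree)
  rw [SModEq.sub_mem, smul_eq_mul, Ideal.mul_top, Nat.sub_add_cancel he.le] at this
  rw [map_sub]
  exact this

end Local

section Quot

theorem isPrecomplete_quotient {R : Type*} [CommRing R] (I J : Ideal R) [IsPrecomplete I R] :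
    IsPrecomplete (I.map (Ideal.Quotient.mk J)) (R ⧸ J) := by
  rw [isPrecomplete_iff]
  intro f hf
  have hf' : ∀ n, f (n + 1) - f n ∈ (I ^ n).map (Ideal.Quotient.mk J) := by
    intro n
    have := (hf (Nat.le_succ n)).symm
    rwa [SModEq.sub_mem, smul_eq_mul, Ideal.mul_top, ← Ideal.map_pow] at this
  have hd : ∀ n, ∃ d ∈ I ^ n, Ideal.Quotient.mk J d = f (n + 1) - f n := fun n =>
    (Ideal.mem_map_iff_of_surjective _ Ideal.Quotient.mk_surjective).1 (hf' n)
  choose d hdI hd using hd
  obtain ⟨g₀, hg₀⟩ := Ideal.Quotient.mk_surjective (f 0)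
  let g : ℕ → R := fun n => g₀ + ∑ i ∈ Finset.range n, d i
  have hgs : ∀ n, g (n + 1) = g n + d n := fun n => by
    simp only [g, Finset.sum_range_succ, add_assoc]
  have hg : ∀ n, Ideal.Quotient.mk J (g n) = f n := by
    intro n
    induction n with
    | zero => simp [g, hg₀]
    | succ n ih =>
      rw [hgs, map_add, ih, hd]; ring
  have hgc : ∀ {m n}, m ≤ n → g m ≡ g n [SMOD (I ^ m • ⊤ : Submodule R R)] := by
    intro m n hmn
    rw [SModEq.sub_mem, smul_eq_mul, Ideal.mul_top]
    induction n, hmn using Nat.le_induction with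
    | base => simp
    | succ n hmn ih =>
      have : g m - g (n + 1) = (g m - g n) - d n := by rw [hgs]; ring
      rw [this]
      exact Ideal.sub_mem _ ih (Ideal.pow_le_pow_right hmn (hdI n))
  obtain ⟨L, hL⟩ := IsPrecomplete.prec (inferInstance : IsPrecomplete I R) hgc
  refine ⟨Ideal.Quotient.mk J L, fun n => ?_⟩
  rw [SModEq.sub_mem, smul_eq_mul, Ideal.mul_top, ← Ideal.map_pow, ← hg n, ← map_sub]
  apply Ideal.mem_map_of_mem
  have := hL n
  rwa [SModEq.sub_mem, smul_eq_mul, Ideal.mul_top] at this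

end Quot

section Eval

variable {Λ : Type*} [CommRing Λ] {r : ℕ} {A : Type*} [CommRing A] [Algebra Λ A]

theorem C_eq_algebraMap (a : Λ) :
    (C a : MvPowerSeries (Fin r) Λ) = algebraMap Λ (MvPowerSeries (Fin r) Λ) a := by
  simp [MvPowerSeries.algebraMap_apply]

theorem algHom_coe (φ : MvPowerSeries (Fin r) Λ →ₐ[Λ] A) (p : MvPolynomial (Fin r) Λ) :
    φ (p : MvPowerSeries (Fin r) Λ) = MvPolynomial.aeval (fun i => φ (X i)) p := by
  induction p using MvPolynomial.induction_on with
  | C a => rw [MvPolynomial.coe_C, MvPolynomial.aeval_C, C_eq_algebraMap, φ.commutes]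
  | add p q hp hq => rw [MvPolynomial.coe_add, map_add, map_add, hp, hq]
  | mul_X p i hp =>
    rw [MvPolynomial.coe_mul, MvPolynomial.coe_X, map_mul, map_mul, hp, MvPolynomial.aeval_X]

theorem sub_truncTotal_mem (N : ℕ) (g : MvPowerSeries (Fin r) Λ) :
    g - ((truncTotal N g : MvPolynomial (Fin r) Λ) : MvPowerSeries (Fin r) Λ) ∈
      (Ideal.span (Set.range (X : Fin r → MvPowerSeries (Fin r) Λ))) ^ N := by
  have key : ∀ e : Fin r →₀ ℕ, e.degree < N →
      coeff e (g - ((truncTotal N g : MvPolynomial (Fin r) Λ) : MvPowerSeries (Fin r) Λ)) ∈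
        (⊥ : Ideal Λ) ^ (N - e.degree) := by
    intro e he
    rw [map_sub, MvPolynomial.coeff_coe, coeff_truncTotal _ he, sub_self]; exact Ideal.zero_mem _
  have := mem_pow_of_coeff (⊥ : Ideal Λ) N _ key
  simpa using this

theorem map_pow_span_X_eq_zero (I : Ideal A) (N : ℕ) (hI : I ^ N = ⊥)
    (χ : MvPowerSeries (Fin r) Λ →ₐ[Λ] A) (hχ : ∀ i, χ (X i) ∈ I)
    (t : MvPowerSeries (Fin r) Λ)
    (ht : t ∈ (Ideal.span (Set.range (X : Fin r → MvPowerSeries (Fin r) Λ))) ^ N) : χ t = 0 := by
  have h1 : (Ideal.span (Set.range (X : Fin r → MvPowerSeries (Fin r) Λ))).map χ ≤ I := by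
    rw [Ideal.map_span, Ideal.span_le]
    rintro _ ⟨_, ⟨i, rfl⟩, rfl⟩
    exact hχ i
  have : χ t ∈ I ^ N :=
    Ideal.pow_right_mono h1 N (by rw [← Ideal.map_pow]; exact Ideal.mem_map_of_mem _ ht)
  rw [hI] at this
  simpa using this

theorem algHom_ext_nil (I : Ideal A) (N : ℕ) (hI : I ^ N = ⊥)
    (φ ψ : MvPowerSeries (Fin r) Λ →ₐ[Λ] A)
    (hφ : ∀ i, φ (X i) ∈ I) (h : ∀ i, φ (X i) = ψ (X i)) : φ = ψ := by
  apply AlgHom.ext
  intro g
  have hdec := sub_truncTotal_mem N g
  have e1 := map_pow_span_X_eq_zero I N hI φ hφ _ hdec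
  have e2 := map_pow_span_X_eq_zero I N hI ψ (fun i => h i ▸ hφ i) _ hdec
  rw [map_sub, sub_eq_zero] at e1 e2
  rw [e1, e2, algHom_coe, algHom_coe]
  congr 2
  funext i
  exact h i

theorem idealOfVars_pow_le_ker (s : Fin r → A) (I : Ideal A) (N : ℕ) (hI : I ^ N = ⊥)
    (hs : ∀ i, s i ∈ I) (p : MvPolynomial (Fin r) Λ)
    (hp : p ∈ MvPolynomial.idealOfVars (Fin r) Λ ^ N) :
    (MvPolynomial.aeval s : MvPolynomial (Fin r) Λ →ₐ[Λ] A) p = 0 := by
  have h1 : (MvPolynomial.idealOfVars (Fin r) Λ).map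
      (MvPolynomial.aeval s : MvPolynomial (Fin r) Λ →ₐ[Λ] A) ≤ I := by
    rw [Ideal.map_span, Ideal.span_le]
    rintro _ ⟨_, ⟨i, rfl⟩, rfl⟩
    simpa using hs i
  have : (MvPolynomial.aeval s : MvPolynomial (Fin r) Λ →ₐ[Λ] A) p ∈ I ^ N :=
    Ideal.pow_right_mono h1 N (by rw [← Ideal.map_pow]; exact Ideal.mem_map_of_mem _ hp)
  rw [hI] at this
  simpa using this

/-- evaluation of power series at elements of a nilpotent ideal, as a ring hom -/
noncomputable def evalNilRing (s : Fin r → A) (I : Ideal A) (N : ℕ) (hI : I ^ N = ⊥)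
    (hs : ∀ i, s i ∈ I) : MvPowerSeries (Fin r) Λ →+* A :=
  (Ideal.Quotient.lift (MvPolynomial.idealOfVars (Fin r) Λ ^ N)
      ((MvPolynomial.aeval s : MvPolynomial (Fin r) Λ →ₐ[Λ] A) : MvPolynomial (Fin r) Λ →+* A)
      (fun p hp => idealOfVars_pow_le_ker s I N hI hs p hp)).comp
    ((truncTotalAlgHom (Fin r) Λ N).toRingHom)

theorem evalNilRing_coe (s : Fin r → A) (I : Ideal A) (N : ℕ) (hI : I ^ N = ⊥)
    (hs : ∀ i, s i ∈ I) (p : MvPolynomial (Fin r) Λ) :
    evalNilRing s I N hI hs (p : MvPowerSeries (Fin r) Λ) = MvPolynomial.aeval s p := by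
  have h : (Ideal.Quotient.mk (MvPolynomial.idealOfVars (Fin r) Λ ^ N))
      (truncTotal N (p : MvPowerSeries (Fin r) Λ)) =
      (Ideal.Quotient.mk (MvPolynomial.idealOfVars (Fin r) Λ ^ N)) p := by
    rw [Ideal.Quotient.eq, MvPolynomial.mem_pow_idealOfVars_iff']
    intro x h
    rw [MvPolynomial.coeff_sub, sub_eq_zero, coeff_truncTotal _ h, MvPolynomial.coeff_coe]
  unfold evalNilRing
  rw [RingHom.comp_apply]
  have h2 : (truncTotalAlgHom (Fin r) Λ N).toRingHom (p : MvPowerSeries (Fin r) Λ) =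
      (Ideal.Quotient.mk (MvPolynomial.idealOfVars (Fin r) Λ ^ N)) p := h
  rw [h2, Ideal.Quotient.lift_mk]
  rfl

/-- evaluation of power series at elements of a nilpotent ideal -/
noncomputable def evalNil (s : Fin r → A) (I : Ideal A) (N : ℕ) (hI : I ^ N = ⊥)
    (hs : ∀ i, s i ∈ I) : MvPowerSeries (Fin r) Λ →ₐ[Λ] A :=
  { evalNilRing s I N hI hs with
    commutes' := fun a => by
      change evalNilRing s I N hI hs (algebraMap Λ (MvPowerSeries (Fin r) Λ) a) = _
      rw [← C_eq_algebraMap, ← MvPolynomial.coe_C, evalNilRing_coe, MvPolynomial.aeval_C] }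

theorem evalNil_X (s : Fin r → A) (I : Ideal A) (N : ℕ) (hI : I ^ N = ⊥)
    (hs : ∀ i, s i ∈ I) (i : Fin r) : evalNil (Λ := Λ) s I N hI hs (X i) = s i := by
  change evalNilRing s I N hI hs (X i) = s i
  rw [← MvPolynomial.coe_X, evalNilRing_coe, MvPolynomial.aeval_X]

end Eval

end H6PS
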