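import Groth.Agent.Lib.helper6.PSeries

/-! Formal inverse function theorem for power series rings in finitely many variables over an
arbitrary commutative ring (identity or diagonal-unit linear part). -/

set_option autoImplicit false

namespace H6PSInv

open MvPowerSeries

variable {R : Type*} [CommRing R] {r : ℕ}

theorem le_order_add' {n : ℕ∞} {f g : MvPowerSeries (Fin r) R} (hf : n ≤ f.order)
    (hg : n ≤ g.order) : n ≤ (f + g).order :=
  le_trans (le_min hf hg) min_order_le_add

theorem le_order_sub' {n : ℕ∞} {f g : MvPowerSeries (Fin r) R} (hf : n ≤ f.order)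
    (hg : n ≤ g.order) : n ≤ (f - g).order := by
  rw [sub_eq_add_neg]
  exact le_order_add' hf (by rwa [order_neg])

theorem le_order_sum' {ι : Type*} {n : ℕ∞} (s : Finset ι) (F : ι → MvPowerSeries (Fin r) R)
    (h : ∀ i ∈ s, n ≤ (F i).order) : n ≤ (∑ i ∈ s, F i).order := by
  classical
  induction s using Finset.induction_on with
  | empty => simp
  | insert a s ha ih =>
    rw [Finset.sum_insert ha]
    exact le_order_add' (h a (Finset.mem_insert_self a s))
      (ih fun i hi => h i (Finset.mem_insert_of_mem hi))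

theorem le_order_mul' {m n : ℕ∞} {f g : MvPowerSeries (Fin r) R} (hf : m ≤ f.order)
    (hg : n ≤ g.order) : m + n ≤ (f * g).order :=
  le_trans (add_le_add hf hg) le_order_mul

theorem one_le_order_X (j : Fin r) : (1 : ℕ∞) ≤ (X j : MvPowerSeries (Fin r) R).order :=
  one_le_order_iff_constCoeff_eq_zero.2 (constantCoeff_X j)

theorem substAlgHom_C' {f : Fin r → MvPowerSeries (Fin r) R} (hfs : HasSubst f) (c : R) :
    substAlgHom hfs (C c : MvPowerSeries (Fin r) R) = C c := by
  rw [substAlgHom_apply, subst_C]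

theorem le_order_substAlgHom {f : Fin r → MvPowerSeries (Fin r) R} (hfs : HasSubst f)
    (hf : ∀ j, constantCoeff (f j) = 0) (g : MvPowerSeries (Fin r) R) :
    g.order ≤ (substAlgHom hfs g).order := by
  rw [substAlgHom_apply]
  refine le_trans ?_ (le_order_subst hfs g)
  have h1 : (1 : ℕ∞) ≤ ⨅ i, (f i).order :=
    le_iInf fun i => one_le_order_iff_constCoeff_eq_zero.2 (hf i)
  calc g.order = 1 * g.order := (one_mul _).symm
    _ ≤ (⨅ i, (f i).order) * g.order := mul_le_mul' h1 le_rfl

theorem constantCoeff_eq_zero_of_order {f : Fin r → MvPowerSeries (Fin r) R}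
    (hf : ∀ j, (2 : ℕ∞) ≤ (f j - X j).order) (j : Fin r) : constantCoeff (f j) = 0 := by
  have h1 : constantCoeff (f j - X j) = 0 :=
    one_le_order_iff_constCoeff_eq_zero.1 (le_trans (by norm_num) (hf j))
  rw [map_sub, constantCoeff_X, sub_zero] at h1
  exact h1

/-- a substitution which is the identity modulo terms of order `≥ 2` is the identity on the
associated graded ring -/
theorem order_subst_sub {f : Fin r → MvPowerSeries (Fin r) R} (hfs : HasSubst f)
    (hf : ∀ j, (2 : ℕ∞) ≤ (f j - X j).order) :
    ∀ (n : ℕ) (g : MvPowerSeries (Fin r) R), (n : ℕ∞) ≤ g.order →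
      ((n : ℕ∞) + 1) ≤ (substAlgHom hfs g - g).order := by
  have hf0 := constantCoeff_eq_zero_of_order hf
  have key : ∀ g : MvPowerSeries (Fin r) R, ∀ G : Fin r → MvPowerSeries (Fin r) R,
      g = C (coeff 0 g) + ∑ i, X i * G i →
      substAlgHom hfs g - g = ∑ i, ((f i - X i) * substAlgHom hfs (G i) +
        X i * (substAlgHom hfs (G i) - G i)) := by
    intro g G hdec
    have h1 : substAlgHom hfs g = C (coeff 0 g) + ∑ i, f i * substAlgHom hfs (G i) := by
      conv_lhs => rw [hdec]
      rw [map_add, map_sum, substAlgHom_C']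
      congr 1
      refine Finset.sum_congr rfl fun i _ => ?_
      rw [map_mul, substAlgHom_X]
    calc substAlgHom hfs g - g
        = (C (coeff 0 g) + ∑ i, f i * substAlgHom hfs (G i)) -
            (C (coeff 0 g) + ∑ i, X i * G i) := by rw [h1, ← hdec]
      _ = _ := by
          rw [add_sub_add_left_eq_sub, ← Finset.sum_sub_distrib]
          refine Finset.sum_congr rfl fun i _ => by ring
  intro n
  induction n with
  | zero =>
    intro g _
    obtain ⟨G, hdec, -⟩ := H6PS.exists_decomp g
    rw [key g G hdec]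
    refine le_order_sum' _ _ fun i _ => ?_
    refine le_order_add' ?_ ?_
    · have := le_order_mul' (hf i) (zero_le (a := (substAlgHom hfs (G i)).order))
      exact le_trans (by norm_num) this
    · have := le_order_mul' (one_le_order_X (R := R) i)
        (zero_le (a := (substAlgHom hfs (G i) - G i).order))
      exact le_trans (by norm_num) this
  | succ n ih =>
    intro g hg
    obtain ⟨G, hdec, hG⟩ := H6PS.exists_decomp g
    have hGo : ∀ i, (n : ℕ∞) ≤ (G i).order := by
      intro i
      refine nat_le_order fun d hd => ?_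
      rcases hG i d with h | h
      · exact h
      · rw [h]
        have hlt : ((Finsupp.degree (d + Finsupp.single i 1) : ℕ) : ℕ∞) <
            ((n + 1 : ℕ) : ℕ∞) := by
          rw [map_add, Finsupp.degree_single]
          exact_mod_cast Nat.succ_lt_succ hd
        exact coeff_of_lt_order (lt_of_lt_of_le hlt hg)
    rw [key g G hdec]
    refine le_order_sum' _ _ fun i _ => ?_
    refine le_order_add' ?_ ?_
    · have := le_order_mul' (hf i) (le_trans (hGo i) (le_order_substAlgHom hfs hf0 (G i)))
      refine le_trans (le_of_eq ?_) this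
      push_cast; ring
    · have := le_order_mul' (one_le_order_X (R := R) i) (ih (G i) (hGo i))
      refine le_trans (le_of_eq ?_) this
      push_cast; ring

/-- completeness of the power series ring for the order filtration -/
theorem exists_limit (s : ℕ → MvPowerSeries (Fin r) R)
    (hs : ∀ k : ℕ, (k : ℕ∞) ≤ (s (k + 1) - s k).order) :
    ∃ t : MvPowerSeries (Fin r) R, ∀ k : ℕ, (k : ℕ∞) ≤ (t - s k).order := by
  have hs' : ∀ m k : ℕ, m ≤ k → (m : ℕ∞) ≤ (s k - s m).order := by
    intro m k hmk
    induction k, hmk using Nat.le_induction with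
    | base => simp
    | succ k hmk ih =>
      have : s (k + 1) - s m = (s (k + 1) - s k) + (s k - s m) := by ring
      rw [this]
      exact le_order_add' (le_trans (by exact_mod_cast hmk) (hs k)) ih
  refine ⟨fun e => coeff e (s (Finsupp.degree e + 1)), fun k => ?_⟩
  refine nat_le_order fun d hd => ?_
  have h1 : coeff d (s k - s (Finsupp.degree d + 1)) = 0 :=
    coeff_of_lt_order (lt_of_lt_of_le (by exact_mod_cast Nat.lt_succ_self _)
      (hs' _ _ (Nat.succ_le_of_lt hd)))
  rw [map_sub] at h1 ⊢
  have h2 : coeff d (fun e => coeff e (s (Finsupp.degree e + 1)) : MvPowerSeries (Fin r) R) =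
      coeff d (s (Finsupp.degree d + 1)) := rfl
  rw [h2]
  rw [sub_eq_zero] at h1 ⊢
  exact h1.symm

theorem eq_zero_of_forall_le_order {x : MvPowerSeries (Fin r) R}
    (h : ∀ k : ℕ, (k : ℕ∞) ≤ x.order) : x = 0 := by
  rw [← order_eq_top_iff]
  exact ENat.eq_top_iff_forall_ge.2 h

theorem exists_preimage_aux
    (ψ : MvPowerSeries (Fin r) R →ₐ[R] MvPowerSeries (Fin r) R)
    (hord : ∀ x, x.order ≤ (ψ x).order)
    (L1 : ∀ (n : ℕ) (x : MvPowerSeries (Fin r) R), (n : ℕ∞) ≤ x.order →
      ((n : ℕ∞) + 1) ≤ (ψ x - x).order)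
    (n : ℕ) (g : MvPowerSeries (Fin r) R) (hg : (n : ℕ∞) ≤ g.order) :
    ∃ t, ψ t = g ∧ ((n : ℕ∞) + 1) ≤ (t - g).order := by
  let s : ℕ → MvPowerSeries (Fin r) R := fun k => Nat.rec g (fun _ x => x + (g - ψ x)) k
  have hs0 : s 0 = g := rfl
  have hsk : ∀ k, s (k + 1) = s k + (g - ψ (s k)) := fun k => rfl
  have he : ∀ k : ℕ, (n : ℕ∞) + (k : ℕ∞) + 1 ≤ (g - ψ (s k)).order := by
    intro k
    induction k with
    | zero =>
      rw [hs0, Nat.cast_zero, add_zero, ← order_neg, neg_sub]
      exact L1 n g hg
    | succ k ih =>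
      have h1 : g - ψ (s (k + 1)) = -(ψ (g - ψ (s k)) - (g - ψ (s k))) := by
        rw [hsk, map_add]; ring
      rw [h1, order_neg]
      have := L1 (n + k + 1) (g - ψ (s k)) (by push_cast; exact ih)
      refine le_trans (le_of_eq ?_) this
      push_cast; ring
  have hk : ∀ k : ℕ, (k : ℕ∞) ≤ (n : ℕ∞) + (k : ℕ∞) + 1 := fun k =>
    calc (k : ℕ∞) ≤ (n : ℕ∞) + k := le_add_self
      _ ≤ (n : ℕ∞) + k + 1 := le_self_add
  have hstep : ∀ k : ℕ, (k : ℕ∞) ≤ (s (k + 1) - s k).order := by
    intro k
    have : s (k + 1) - s k = g - ψ (s k) := by rw [hsk]; ring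
    rw [this]
    exact le_trans (hk k) (he k)
  obtain ⟨t, ht⟩ := exists_limit s hstep
  refine ⟨t, ?_, ?_⟩
  · rw [← sub_eq_zero]
    apply eq_zero_of_forall_le_order
    intro k
    have : ψ t - g = ψ (t - s k) - (g - ψ (s k)) := by rw [map_sub]; ring
    rw [this]
    exact le_order_sub' (le_trans (ht k) (hord _)) (le_trans (hk k) (he k))
  · have hsg : ∀ k, (n : ℕ∞) + 1 ≤ (s k - g).order := by
      intro k
      induction k with
      | zero => rw [hs0, sub_self, order_zero]; exact le_top
      | succ k ih =>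
        have : s (k + 1) - g = (s k - g) + (g - ψ (s k)) := by rw [hsk]; ring
        rw [this]
        exact le_order_add' ih (le_trans (add_le_add le_self_add le_rfl) (he k))
    have : t - g = (t - s (n + 1)) + (s (n + 1) - g) := by ring
    rw [this]
    exact le_order_add' (le_trans (le_of_eq (by push_cast; rfl)) (ht (n + 1))) (hsg (n + 1))

theorem exists_preimage {f : Fin r → MvPowerSeries (Fin r) R} (hfs : HasSubst f)
    (hf : ∀ j, (2 : ℕ∞) ≤ (f j - X j).order) (n : ℕ) (g : MvPowerSeries (Fin r) R)
    (hg : (n : ℕ∞) ≤ g.order) :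
    ∃ t, substAlgHom hfs t = g ∧ ((n : ℕ∞) + 1) ≤ (t - g).order :=
  exists_preimage_aux (substAlgHom hfs)
    (le_order_substAlgHom hfs (constantCoeff_eq_zero_of_order hf)) (order_subst_sub hfs hf) n g hg

/-- formal inverse function theorem, identity linear part -/
theorem bijective_of_order {f : Fin r → MvPowerSeries (Fin r) R} (hfs : HasSubst f)
    (hf : ∀ j, (2 : ℕ∞) ≤ (f j - X j).order) :
    Function.Bijective (substAlgHom (R := R) hfs) := by
  have hX : ∀ j : Fin r, ((1 : ℕ) : ℕ∞) ≤ (X j : MvPowerSeries (Fin r) R).order := fun j => by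
    rw [Nat.cast_one]; exact one_le_order_X j
  choose g hg1 hg2 using fun j => exists_preimage hfs hf 1 (X j) (hX j)
  have hg2' : ∀ j, (2 : ℕ∞) ≤ (g j - X j).order := fun j => by
    have := hg2 j
    rwa [Nat.cast_one, one_add_one_eq_two] at this
  have hg0 := constantCoeff_eq_zero_of_order hg2'
  have hgs : HasSubst g := hasSubst_of_constantCoeff_zero hg0
  have hcomp : ∀ x, substAlgHom hfs (substAlgHom (R := R) hgs x) = x := by
    intro x
    rw [substAlgHom_comp_substAlgHom_apply hgs hfs, substAlgHom_apply]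
    have : (fun s => substAlgHom hfs (g s)) = X := funext hg1
    rw [this, subst_self]; rfl
  have hsurjχ : Function.Surjective (substAlgHom (R := R) hgs) := fun y => by
    obtain ⟨t, ht, -⟩ := exists_preimage hgs hg2' 0 y (by simp)
    exact ⟨t, ht⟩
  refine ⟨fun x y hxy => ?_, fun y => ?_⟩
  · obtain ⟨x', rfl⟩ := hsurjχ x
    obtain ⟨y', rfl⟩ := hsurjχ y
    rw [hcomp, hcomp] at hxy
    rw [hxy]
  · obtain ⟨t, ht, -⟩ := exists_preimage hfs hf 0 y (by simp)
    exact ⟨t, ht⟩

/-- formal inverse function theorem, diagonal linear part with unit entries -/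
theorem bijective_of_order_diag {f : Fin r → MvPowerSeries (Fin r) R} (hfs : HasSubst f)
    (d : Fin r → R) (hd : ∀ j, IsUnit (d j))
    (hf : ∀ j, (2 : ℕ∞) ≤ (f j - C (d j) * X j).order) :
    Function.Bijective (substAlgHom (R := R) hfs) := by
  choose di hdi using fun j => (hd j).exists_right_inv
  have hCd : ∀ j, (C (d j) * C (di j) : MvPowerSeries (Fin r) R) = 1 := fun j => by
    rw [← map_mul, hdi, map_one]
  let ρf : Fin r → MvPowerSeries (Fin r) R := fun j => C (di j) * X j
  have hρ0 : ∀ j, constantCoeff (ρf j) = 0 := fun j => by simp [ρf]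
  have hρs : HasSubst ρf := hasSubst_of_constantCoeff_zero hρ0
  have h1 : Function.Bijective (substAlgHom (R := R) (hρs.comp hfs)) := by
    apply bijective_of_order
    intro j
    show (2 : ℕ∞) ≤ (substAlgHom hfs (ρf j) - X j).order
    have : substAlgHom hfs (ρf j) - X j = C (di j) * (f j - C (d j) * X j) := by
      simp only [ρf, map_mul, substAlgHom_X, substAlgHom_C']
      linear_combination (X j) * hCd j
    rw [this]
    exact le_trans (by simp) (le_order_mul' (zero_le (a := (C (di j) : MvPowerSeries (Fin r) R).order)) (hf j))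
  have h2 : Function.Bijective (substAlgHom (R := R) (hfs.comp hρs)) := by
    apply bijective_of_order
    intro j
    show (2 : ℕ∞) ≤ (substAlgHom hρs (f j) - X j).order
    have : substAlgHom hρs (f j) - X j = substAlgHom hρs (f j - C (d j) * X j) := by
      rw [map_sub, map_mul, substAlgHom_X, substAlgHom_C']
      simp only [ρf]
      linear_combination (X j) * hCd j
    rw [this]
    exact le_trans (hf j) (le_order_substAlgHom hρs hρ0 _)
  constructor
  · intro x y hxy
    apply h2.1
    rw [← substAlgHom_comp_substAlgHom_apply hfs hρs,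
      ← substAlgHom_comp_substAlgHom_apply hfs hρs, hxy]
  · intro y
    obtain ⟨x, hx⟩ := h1.2 y
    exact ⟨substAlgHom hρs x, by rw [substAlgHom_comp_substAlgHom_apply hρs hfs, hx]⟩

end H6PSInv
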