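import Mathlib

/-! Parity decomposition of `R[u, v]` over `R[u², v²]`, and presentation of the subalgebra
`R[u², v², g]` by one equation. -/

set_option autoImplicit false

namespace H6Par

open MvPolynomial

variable {R : Type*} [CommRing R]

theorem forall_fin3 {P : Fin 3 → Prop} (h0 : P 0) (h1 : P 1) (h2 : P 2) : ∀ j, P j := by
  intro j; fin_cases j
  · exact h0
  · exact h1
  · exact h2

theorem coeff_E_mul_monomial (p : MvPolynomial (Fin 2) R) (m δ ε : Fin 2 →₀ ℕ)
    (hδ : ∀ i, δ i ≤ 1) (hε : ∀ i, ε i ≤ 1) :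
    coeff (2 • m + ε) (expand 2 p * monomial δ 1) = if δ = ε then coeff m p else 0 := by
  classical
  rw [coeff_mul_monomial', mul_one]
  by_cases h : δ = ε
  · subst h
    rw [if_pos rfl, if_pos le_add_self, add_tsub_cancel_right, coeff_expand_smul 2 two_ne_zero]
  · rw [if_neg h]
    split_ifs with hle
    · obtain ⟨i, hi⟩ := DFunLike.ne_iff.1 h
      refine coeff_expand_of_not_dvd _ (i := i) ?_
      have h1 := hδ i
      have h2 := hε i
      have h3 : δ i ≤ (2 • m + ε) i := hle i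
      simp only [Finsupp.tsub_apply, Finsupp.add_apply, Finsupp.smul_apply, smul_eq_mul] at h3 ⊢
      omega
    · rfl

theorem parity_indep (p00 p10 p01 p11 : MvPolynomial (Fin 2) R)
    (h : expand 2 p00 + expand 2 p10 * X 0 + expand 2 p01 * X 1 +
      expand 2 p11 * (X 0 * X 1) = 0) :
    p00 = 0 ∧ p10 = 0 ∧ p01 = 0 ∧ p11 = 0 := by
  classical
  have h' : expand 2 p00 * monomial (0 : Fin 2 →₀ ℕ) 1 +
      expand 2 p10 * monomial (Finsupp.single 0 1) 1 +
      expand 2 p01 * monomial (Finsupp.single 1 1) 1 +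
      expand 2 p11 * monomial (Finsupp.single 0 1 + Finsupp.single 1 1) 1 = 0 := by
    rw [← h]
    have hx : (X 0 * X 1 : MvPolynomial (Fin 2) R) =
        monomial (Finsupp.single 0 1 + Finsupp.single 1 1) 1 := by
      rw [X, X, monomial_mul, mul_one]
    rw [hx, ← MvPolynomial.one_def, mul_one]
    rfl
  have b0 : ∀ i, (0 : Fin 2 →₀ ℕ) i ≤ 1 := fun i => by simp
  have b1 : ∀ i, (Finsupp.single 0 1 : Fin 2 →₀ ℕ) i ≤ 1 := fun i => by
    rw [Finsupp.single_apply]; split_ifs <;> omega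
  have b2 : ∀ i, (Finsupp.single 1 1 : Fin 2 →₀ ℕ) i ≤ 1 := fun i => by
    rw [Finsupp.single_apply]; split_ifs <;> omega
  have b3 : ∀ i, (Finsupp.single 0 1 + Finsupp.single 1 1 : Fin 2 →₀ ℕ) i ≤ 1 := by
    intro i
    fin_cases i <;> simp
  have key : ∀ (ε : Fin 2 →₀ ℕ) (_ : ∀ i, ε i ≤ 1) (m : Fin 2 →₀ ℕ),
      (if (0 : Fin 2 →₀ ℕ) = ε then coeff m p00 else 0) +
        (if (Finsupp.single 0 1 : Fin 2 →₀ ℕ) = ε then coeff m p10 else 0) +
        (if (Finsupp.single 1 1 : Fin 2 →₀ ℕ) = ε then coeff m p01 else 0) +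
        (if (Finsupp.single 0 1 + Finsupp.single 1 1 : Fin 2 →₀ ℕ) = ε then coeff m p11
          else 0) = 0 := by
    intro ε hε m
    have := congrArg (coeff (2 • m + ε)) h'
    rw [coeff_add, coeff_add, coeff_add, coeff_E_mul_monomial _ _ _ _ b0 hε,
      coeff_E_mul_monomial _ _ _ _ b1 hε, coeff_E_mul_monomial _ _ _ _ b2 hε,
      coeff_E_mul_monomial _ _ _ _ b3 hε, coeff_zero] at this
    exact this
  refine ⟨?_, ?_, ?_, ?_⟩
  · ext m
    have := key 0 b0 m
    simpa [Finsupp.ext_iff, Fin.forall_fin_two] using this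
  · ext m
    have := key _ b1 m
    simpa [Finsupp.ext_iff, Fin.forall_fin_two] using this
  · ext m
    have := key _ b2 m
    simpa [Finsupp.ext_iff, Fin.forall_fin_two] using this
  · ext m
    have := key _ b3 m
    simpa [Finsupp.ext_iff, Fin.forall_fin_two] using this

/-- presentation of `R[u², v², g]` for `g` with odd parities and regular `uv`-component -/
theorem ker_aeval_eq_span (A₂ B₂ T₂ G₂ : MvPolynomial (Fin 2) R)
    (hT : ∀ p : MvPolynomial (Fin 2) R, p * T₂ = 0 → p = 0)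
    (hG : (expand 2 A₂ * X 0 + expand 2 B₂ * X 1 + expand 2 T₂ * (X 0 * X 1)) ^ 2 +
      expand 2 G₂ = 0) :
    RingHom.ker (aeval (R := R) (S₁ := MvPolynomial (Fin 2) R)
        ![X 0 ^ 2, X 1 ^ 2,
          expand 2 A₂ * X 0 + expand 2 B₂ * X 1 + expand 2 T₂ * (X 0 * X 1)]) =
      Ideal.span {(X 2 ^ 2 + rename Fin.castSucc G₂ : MvPolynomial (Fin 3) R)} := by
  obtain ⟨g, hg⟩ : ∃ g, g = expand 2 A₂ * X 0 + expand 2 B₂ * X 1 +
    expand 2 T₂ * (X 0 * X 1) := ⟨_, rfl⟩
  rw [← hg] at hG ⊢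
  obtain ⟨φ, hφ⟩ : ∃ φ, φ = aeval (R := R) (S₁ := MvPolynomial (Fin 2) R)
    ![X 0 ^ 2, X 1 ^ 2, g] := ⟨_, rfl⟩
  rw [← hφ]
  have hφ0 : φ (X 0) = X 0 ^ 2 := by rw [hφ, aeval_X]; rfl
  have hφ1 : φ (X 1) = X 1 ^ 2 := by rw [hφ, aeval_X]; rfl
  have hφ2 : φ (X 2) = g := by rw [hφ, aeval_X]; rfl
  have hι0 : rename Fin.castSucc (X 0 : MvPolynomial (Fin 2) R) =
      (X 0 : MvPolynomial (Fin 3) R) := by rw [rename_X]; rfl
  have hι1 : rename Fin.castSucc (X 1 : MvPolynomial (Fin 2) R) =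
      (X 1 : MvPolynomial (Fin 3) R) := by rw [rename_X]; rfl
  have hφι : ∀ p : MvPolynomial (Fin 2) R, φ (rename Fin.castSucc p) = expand 2 p := by
    intro p
    have : (φ.comp (rename Fin.castSucc)) = expand 2 := by
      apply algHom_ext
      intro i
      fin_cases i
      · show φ (rename Fin.castSucc (X 0)) = expand 2 (X 0)
        rw [hι0, hφ0, expand_X]
      · show φ (rename Fin.castSucc (X 1)) = expand 2 (X 1)
        rw [hι1, hφ1, expand_X]
    exact DFunLike.congr_fun this p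
  have hφF : φ (X 2 ^ 2 + rename Fin.castSucc G₂) = 0 := by
    rw [map_add, map_pow, hφ2, hφι]; exact hG
  have hspan : Ideal.span {(X 2 ^ 2 + rename Fin.castSucc G₂ : MvPolynomial (Fin 3) R)} ≤
      RingHom.ker φ := by
    rw [Ideal.span_le, Set.singleton_subset_iff]
    exact hφF
  apply le_antisymm
  · intro P hP
    have hX : ∀ (p : MvPolynomial (Fin 3) R) (p0 p1 : MvPolynomial (Fin 2) R),
        p - (rename Fin.castSucc p0 + rename Fin.castSucc p1 * X 2) ∈
          Ideal.span {(X 2 ^ 2 + rename Fin.castSucc G₂ : MvPolynomial (Fin 3) R)} →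
        ∀ i : Fin 3, ∃ P₀ P₁ : MvPolynomial (Fin 2) R,
          p * X i - (rename Fin.castSucc P₀ + rename Fin.castSucc P₁ * X 2) ∈
            Ideal.span {(X 2 ^ 2 + rename Fin.castSucc G₂ : MvPolynomial (Fin 3) R)} := by
      intro p p0 p1 hp
      refine forall_fin3 ?_ ?_ ?_
      · refine ⟨p0 * X 0, p1 * X 0, ?_⟩
        have := Ideal.mul_mem_right (X 0) _ hp
        convert this using 1
        rw [map_mul, map_mul, hι0]; ring
      · refine ⟨p0 * X 1, p1 * X 1, ?_⟩
        have := Ideal.mul_mem_right (X 1) _ hp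
        convert this using 1
        rw [map_mul, map_mul, hι1]; ring
      · refine ⟨-(p1 * G₂), p0, ?_⟩
        have := Ideal.add_mem _ (Ideal.mul_mem_right (X 2) _ hp)
          (Ideal.mul_mem_left _ (rename Fin.castSucc p1)
            (Ideal.subset_span (Set.mem_singleton _)))
        convert this using 1
        rw [map_neg, map_mul]; ring
    have hnf : ∀ P : MvPolynomial (Fin 3) R, ∃ P₀ P₁ : MvPolynomial (Fin 2) R,
        P - (rename Fin.castSucc P₀ + rename Fin.castSucc P₁ * X 2) ∈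
          Ideal.span {(X 2 ^ 2 + rename Fin.castSucc G₂ : MvPolynomial (Fin 3) R)} := by
      intro P
      induction P using MvPolynomial.induction_on with
      | C r =>
        refine ⟨C r, 0, ?_⟩
        rw [rename_C, map_zero, zero_mul, add_zero, sub_self]
        exact Ideal.zero_mem _
      | add p q hp hq =>
        obtain ⟨p0, p1, hp⟩ := hp
        obtain ⟨q0, q1, hq⟩ := hq
        refine ⟨p0 + q0, p1 + q1, ?_⟩
        have := Ideal.add_mem _ hp hq
        convert this using 1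
        rw [map_add, map_add]; ring
      | mul_X p i hp =>
        obtain ⟨p0, p1, hp⟩ := hp
        exact hX p p0 p1 hp i
    obtain ⟨P₀, P₁, hP01⟩ := hnf P
    have h1 : φ (P - (rename Fin.castSucc P₀ + rename Fin.castSucc P₁ * X 2)) = 0 := hspan hP01
    rw [map_sub, RingHom.mem_ker.1 hP, zero_sub, neg_eq_zero, map_add, map_mul, hφι, hφι, hφ2,
      hg] at h1
    have h2 : expand 2 P₀ + expand 2 (P₁ * A₂) * X 0 + expand 2 (P₁ * B₂) * X 1 +
        expand 2 (P₁ * T₂) * (X 0 * X 1) = 0 := by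
      rw [map_mul, map_mul, map_mul, ← h1]; ring
    obtain ⟨e0, -, -, e3⟩ := parity_indep _ _ _ _ h2
    have e1 := hT _ e3
    rw [e0, e1, map_zero, zero_mul, add_zero, sub_zero] at hP01
    exact hP01
  · exact hspan

theorem exists_decomp (p : MvPolynomial (Fin 2) R) :
    ∃ p00 p10 p01 p11 : MvPolynomial (Fin 2) R,
      p = expand 2 p00 + expand 2 p10 * X 0 + expand 2 p01 * X 1 +
        expand 2 p11 * (X 0 * X 1) := by
  induction p using MvPolynomial.induction_on with
  | C r => exact ⟨C r, 0, 0, 0, by simp⟩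
  | add p q hp hq =>
    obtain ⟨a0, a1, a2, a3, rfl⟩ := hp
    obtain ⟨b0, b1, b2, b3, rfl⟩ := hq
    exact ⟨a0 + b0, a1 + b1, a2 + b2, a3 + b3, by simp only [map_add]; ring⟩
  | mul_X p i hp =>
    obtain ⟨a0, a1, a2, a3, rfl⟩ := hp
    revert i
    refine Fin.forall_fin_two.2 ⟨?_, ?_⟩
    · exact ⟨a1 * X 0, a0, a3 * X 0, a2, by simp only [map_mul, expand_X]; ring⟩
    · exact ⟨a2 * X 1, a3 * X 1, a0, a1, by simp only [map_mul, expand_X]; ring⟩

theorem two_eq_zero_of (h2R : (2 : R) = 0) {σ : Type*} : (2 : MvPolynomial σ R) = 0 := by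
  have h := congrArg (C (σ := σ)) h2R
  rw [map_zero] at h
  rw [← h]; exact (map_ofNat (C (σ := σ) (R := R)) 2).symm

theorem derivation_expand_two (h2R : (2 : R) = 0)
    (D : Derivation R (MvPolynomial (Fin 2) R) (MvPolynomial (Fin 2) R))
    (q : MvPolynomial (Fin 2) R) : D (expand 2 q) = 0 := by
  have h2 : (2 : MvPolynomial (Fin 2) R) = 0 := two_eq_zero_of h2R
  induction q using MvPolynomial.induction_on with
  | C r => rw [expand_C, ← algebraMap_eq, D.map_algebraMap]
  | add p q hp hq => rw [map_add, map_add, hp, hq, add_zero]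
  | mul_X p i hp =>
    rw [map_mul, expand_X, D.leibniz, hp, smul_zero, add_zero, pow_two, D.leibniz, ← two_smul
      (MvPolynomial (Fin 2) R), h2, zero_smul, smul_zero]

theorem derivation_aeval_eq_zero
    (D : Derivation R (MvPolynomial (Fin 2) R) (MvPolynomial (Fin 2) R))
    (f : Fin 3 → MvPolynomial (Fin 2) R) (hf : ∀ i, D (f i) = 0)
    (q : MvPolynomial (Fin 3) R) : D (aeval f q) = 0 := by
  induction q using MvPolynomial.induction_on with
  | C r => rw [aeval_C, D.map_algebraMap]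
  | add p q hp hq => rw [map_add, map_add, hp, hq, add_zero]
  | mul_X p i hp => rw [map_mul, aeval_X, D.leibniz, hp, hf, smul_zero, smul_zero, add_zero]

theorem aeval_rename_castSucc (g p : MvPolynomial (Fin 2) R) :
    aeval (R := R) (S₁ := MvPolynomial (Fin 2) R) ![X 0 ^ 2, X 1 ^ 2, g]
      (rename Fin.castSucc p) = expand 2 p := by
  have : ((aeval (R := R) (S₁ := MvPolynomial (Fin 2) R) ![X 0 ^ 2, X 1 ^ 2, g]).comp
      (rename Fin.castSucc)) = expand 2 := by
    apply algHom_ext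
    refine Fin.forall_fin_two.2 ⟨?_, ?_⟩
    · rw [AlgHom.comp_apply, rename_X, aeval_X, expand_X]; rfl
    · rw [AlgHom.comp_apply, rename_X, aeval_X, expand_X]; rfl
  exact DFunLike.congr_fun this p

theorem aeval_X_two (g : MvPolynomial (Fin 2) R) :
    aeval (R := R) (S₁ := MvPolynomial (Fin 2) R) ![X 0 ^ 2, X 1 ^ 2, g] (X 2) = g := by
  rw [aeval_X]; rfl

theorem le_one_zero : ∀ i, (0 : Fin 2 →₀ ℕ) i ≤ 1 := fun i => by simp

theorem le_one_e0 : ∀ i, (Finsupp.single 0 1 : Fin 2 →₀ ℕ) i ≤ 1 := fun i => by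
  rw [Finsupp.single_apply]; split_ifs <;> omega

theorem le_one_e1 : ∀ i, (Finsupp.single 1 1 : Fin 2 →₀ ℕ) i ≤ 1 := fun i => by
  rw [Finsupp.single_apply]; split_ifs <;> omega

theorem le_one_e01 : ∀ i, (Finsupp.single 0 1 + Finsupp.single 1 1 : Fin 2 →₀ ℕ) i ≤ 1 := by
  intro i
  fin_cases i <;> simp

theorem coeff_decomp (p00 p10 p01 p11 : MvPolynomial (Fin 2) R) (ε : Fin 2 →₀ ℕ)
    (hε : ∀ i, ε i ≤ 1) (m : Fin 2 →₀ ℕ) :
    coeff (2 • m + ε) (expand 2 p00 + expand 2 p10 * X 0 + expand 2 p01 * X 1 +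
      expand 2 p11 * (X 0 * X 1)) =
      (if (0 : Fin 2 →₀ ℕ) = ε then coeff m p00 else 0) +
        (if (Finsupp.single 0 1 : Fin 2 →₀ ℕ) = ε then coeff m p10 else 0) +
        (if (Finsupp.single 1 1 : Fin 2 →₀ ℕ) = ε then coeff m p01 else 0) +
        (if (Finsupp.single 0 1 + Finsupp.single 1 1 : Fin 2 →₀ ℕ) = ε then coeff m p11
          else 0) := by
  classical
  have h' : expand 2 p00 + expand 2 p10 * X 0 + expand 2 p01 * X 1 +
      expand 2 p11 * (X 0 * X 1) = expand 2 p00 * monomial (0 : Fin 2 →₀ ℕ) 1 +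
      expand 2 p10 * monomial (Finsupp.single 0 1) 1 +
      expand 2 p01 * monomial (Finsupp.single 1 1) 1 +
      expand 2 p11 * monomial (Finsupp.single 0 1 + Finsupp.single 1 1) 1 := by
    have hx : (X 0 * X 1 : MvPolynomial (Fin 2) R) =
        monomial (Finsupp.single 0 1 + Finsupp.single 1 1) 1 := by
      rw [X, X, monomial_mul, mul_one]
    rw [hx, ← MvPolynomial.one_def, mul_one]
    rfl
  rw [h', coeff_add, coeff_add, coeff_add, coeff_E_mul_monomial _ _ _ _ le_one_zero hε,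
    coeff_E_mul_monomial _ _ _ _ le_one_e0 hε, coeff_E_mul_monomial _ _ _ _ le_one_e1 hε,
    coeff_E_mul_monomial _ _ _ _ le_one_e01 hε]

theorem coeff_decomp_10 (p00 p10 p01 p11 : MvPolynomial (Fin 2) R) (m : Fin 2 →₀ ℕ) :
    coeff (2 • m + Finsupp.single 0 1) (expand 2 p00 + expand 2 p10 * X 0 + expand 2 p01 * X 1 +
      expand 2 p11 * (X 0 * X 1)) = coeff m p10 := by
  rw [coeff_decomp _ _ _ _ _ le_one_e0 m]
  simp [Finsupp.ext_iff, Fin.forall_fin_two]

theorem coeff_decomp_01 (p00 p10 p01 p11 : MvPolynomial (Fin 2) R) (m : Fin 2 →₀ ℕ) :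
    coeff (2 • m + Finsupp.single 1 1) (expand 2 p00 + expand 2 p10 * X 0 + expand 2 p01 * X 1 +
      expand 2 p11 * (X 0 * X 1)) = coeff m p01 := by
  rw [coeff_decomp _ _ _ _ _ le_one_e1 m]
  simp [Finsupp.ext_iff, Fin.forall_fin_two]

theorem coeff_decomp_11 (p00 p10 p01 p11 : MvPolynomial (Fin 2) R) (m : Fin 2 →₀ ℕ) :
    coeff (2 • m + (Finsupp.single 0 1 + Finsupp.single 1 1))
      (expand 2 p00 + expand 2 p10 * X 0 + expand 2 p01 * X 1 +
      expand 2 p11 * (X 0 * X 1)) = coeff m p11 := by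
  rw [coeff_decomp _ _ _ _ _ le_one_e01 m]
  simp [Finsupp.ext_iff, Fin.forall_fin_two]

theorem exists_eq_monomial_mul (x : MvPolynomial (Fin 2) R) (s : Fin 2 →₀ ℕ)
    (h : ∀ m, coeff m x ≠ 0 → s ≤ m) : ∃ c, x = monomial s 1 * c := by
  have : monomial s (1 : R) ∣ x := by
    rw [monomial_one_dvd_iff_modMonomial_eq_zero]
    ext m
    by_cases hs : s ≤ m
    · rw [coeff_modMonomial_of_le _ hs, coeff_zero]
    · rw [coeff_modMonomial_of_not_le _ hs, coeff_zero]
      by_contra hne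
      exact hs (h m hne)
  exact this

theorem mul_X_cancel {p : MvPolynomial (Fin 2) R} {i : Fin 2} (h : p * X i = 0) : p = 0 := by
  ext m
  have := congrArg (coeff (m + Finsupp.single i 1)) h
  rwa [coeff_mul_X, coeff_zero] at this

theorem expand_mem_adjoin (g x : MvPolynomial (Fin 2) R) :
    expand 2 x ∈ Algebra.adjoin R ({X 0 ^ 2, X 1 ^ 2, g} : Set (MvPolynomial (Fin 2) R)) := by
  induction x using MvPolynomial.induction_on with
  | C r => rw [expand_C, ← algebraMap_eq]; exact Subalgebra.algebraMap_mem _ r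
  | add p q hp hq => rw [map_add]; exact Subalgebra.add_mem _ hp hq
  | mul_X p i hp =>
    rw [map_mul, expand_X]
    refine Subalgebra.mul_mem _ hp (Algebra.subset_adjoin ?_)
    revert i
    refine Fin.forall_fin_two.2 ⟨?_, ?_⟩
    · simp
    · simp

end H6Par
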