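import Mathlib
import Groth.Agent.Lib.helper6.BrauerBasics2

/-! A central division algebra of dimension 4 in characteristic ≠ 2 is a quaternion algebra. -/

namespace H6Quat

universe u v

theorem exists_quaternion_equiv (k : Type u) [Field k] (h2 : (2 : k) ≠ 0) (D : Type v)
    [DivisionRing D] [Algebra k D] [Algebra.IsCentral k D] [FiniteDimensional k D]
    (hD : Module.finrank k D = 2 ^ 2) :
    ∃ a b : k, Nonempty (QuaternionAlgebra k a 0 b ≃ₐ[k] D) := by
  classical
  obtain ⟨L, instL, instAlgL, hdegL, ⟨ι⟩⟩ := H6Br2.exists_maxsubfield (k := k) (D := D) 2 hD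
  haveI : FiniteDimensional k L := Module.finite_of_finrank_pos (by rw [hdegL]; norm_num)
  have hιinj : Function.Injective ι := ι.toRingHom.injective
  obtain ⟨y, hy⟩ : ∃ y : L, y ∉ Set.range (algebraMap k L) := by
    by_contra hcon
    push_neg at hcon
    have hsurj : Function.Surjective (algebraMap k L) := fun y => hcon y
    have hbij : Function.Bijective (Algebra.linearMap k L) :=
      ⟨(algebraMap k L).injective, hsurj⟩
    have h1 := (LinearEquiv.ofBijective (Algebra.linearMap k L) hbij).finrank_eq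
    rw [Module.finrank_self, hdegL] at h1
    norm_num at h1
  obtain ⟨c0, c1, hrel⟩ : ∃ c0 c1 : k,
      algebraMap k L c0 + algebraMap k L c1 * y + y ^ 2 = 0 := by
    have hpm : (LinearMap.mulLeft k y).charpoly.Monic := LinearMap.charpoly_monic _
    have hpd : (LinearMap.mulLeft k y).charpoly.natDegree = 2 := by
      rw [LinearMap.charpoly_natDegree, hdegL]
    have hp0 : Polynomial.aeval y (LinearMap.mulLeft k y).charpoly = 0 := by
      have h1 := LinearMap.aeval_self_charpoly (LinearMap.mulLeft k y)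
      have h2 := Polynomial.aeval_algHom_apply (Algebra.lmul k L) y
        (LinearMap.mulLeft k y).charpoly
      have h3 : Algebra.lmul k L y = LinearMap.mulLeft k y := rfl
      rw [h3, h1] at h2
      have h5 : (Algebra.lmul k L (Polynomial.aeval y (LinearMap.mulLeft k y).charpoly)) 1
          = Polynomial.aeval y (LinearMap.mulLeft k y).charpoly * 1 := rfl
      rw [← h2, mul_one] at h5
      exact h5.symm
    rw [Polynomial.aeval_eq_sum_range, hpd, Finset.sum_range_succ, Finset.sum_range_succ,
      Finset.sum_range_one] at hp0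
    have hlead : (LinearMap.mulLeft k y).charpoly.coeff 2 = 1 := by
      rw [← hpd]; exact hpm.coeff_natDegree
    refine ⟨(LinearMap.mulLeft k y).charpoly.coeff 0, (LinearMap.mulLeft k y).charpoly.coeff 1, ?_⟩
    rw [hlead, one_smul, pow_zero, pow_one, Algebra.smul_def, Algebra.smul_def, mul_one] at hp0
    exact hp0
  obtain ⟨γ, hγ⟩ : ∃ γ : L, γ = algebraMap k L (c1 / 2) := ⟨_, rfl⟩
  have h2γ : 2 * γ = algebraMap k L c1 := by
    have h2' : (2 : L) = algebraMap k L 2 := (map_ofNat (algebraMap k L) 2).symm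
    have h3 : (2 : k) * (c1 / 2) = c1 := by field_simp
    rw [hγ, h2', ← map_mul, h3]
  obtain ⟨a, ha⟩ : ∃ a : k, a = (c1 / 2) ^ 2 - c0 := ⟨_, rfl⟩
  have hα2 : (y + γ) * (y + γ) = algebraMap k L a := by
    rw [ha, map_sub, map_pow, ← hγ]
    linear_combination hrel + y * h2γ
  have hαk : (y + γ) ∉ Set.range (algebraMap k L) := by
    rintro ⟨c, hc⟩
    apply hy
    refine ⟨c - c1 / 2, ?_⟩
    rw [map_sub, hc, ← hγ, add_sub_cancel_right]
  have hα0 : (y + γ) ≠ 0 := by
    intro h
    apply hαk
    exact ⟨0, by rw [map_zero, h]⟩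
  have ha0 : a ≠ 0 := by
    rintro rfl
    rw [map_zero] at hα2
    exact hα0 (mul_self_eq_zero.mp hα2)
  obtain ⟨i, hi⟩ : ∃ i : D, i = ι (y + γ) := ⟨_, rfl⟩
  have hii : i * i = algebraMap k D a := by rw [hi, ← map_mul, hα2, AlgHom.commutes]
  have hik : ∀ c : k, i ≠ algebraMap k D c := by
    intro c hc
    apply hαk
    refine ⟨c, ?_⟩
    apply hιinj
    rw [AlgHom.commutes, ← hc, hi]
  have hi0 : i ≠ 0 := fun h => hik 0 (by rw [h, map_zero])
  obtain ⟨z, hz⟩ : ∃ z : D, i * z ≠ z * i := by
    by_contra hcon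
    push_neg at hcon
    have hcen : i ∈ Subalgebra.center k D := by
      rw [Subalgebra.mem_center_iff]
      intro w; exact (hcon w).symm
    rw [Algebra.IsCentral.center_eq_bot, Algebra.mem_bot] at hcen
    obtain ⟨c, hc⟩ := hcen
    exact hik c hc.symm
  have e1 : i * (i * z * i) = a • (z * i) := by
    rw [Algebra.smul_def, ← hii]; simp only [mul_assoc]
  have e2 : (i * z * i) * i = a • (i * z) := by
    rw [Algebra.smul_def, Algebra.commutes, ← hii]; simp only [mul_assoc]
  obtain ⟨j, hj⟩ : ∃ j : D, j = z - a⁻¹ • (i * z * i) := ⟨_, rfl⟩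
  have hij : i * j = -(j * i) := by
    rw [hj, mul_sub, sub_mul, mul_smul_comm, smul_mul_assoc, e1, e2, smul_smul, smul_smul,
      inv_mul_cancel₀ ha0, one_smul, one_smul]
    abel
  have hji : j * i = -(i * j) := by rw [hij, neg_neg]
  have hj0 : j ≠ 0 := by
    intro h
    apply hz
    have h3 : i * j = 0 := by rw [h, mul_zero]
    rw [hj, mul_sub, mul_smul_comm, e1, smul_smul, inv_mul_cancel₀ ha0, one_smul] at h3
    exact sub_eq_zero.mp h3
  have hpair : ∀ u v : k, u • (1 : D) + v • i = 0 → u = 0 ∧ v = 0 := by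
    intro u v h
    by_cases hv : v = 0
    · subst hv
      rw [zero_smul, add_zero] at h
      refine ⟨?_, rfl⟩
      have : algebraMap k D u = 0 := by rw [Algebra.algebraMap_eq_smul_one]; exact h
      exact (map_eq_zero _).mp this
    · exfalso
      apply hik (v⁻¹ * -u)
      have h3 : v • i = -(u • (1 : D)) := eq_neg_of_add_eq_zero_right h
      have h4 : i = v⁻¹ • (v • i) := by rw [smul_smul, inv_mul_cancel₀ hv, one_smul]
      have h5 : v • i = algebraMap k D (-u) := by
        rw [h3, map_neg, Algebra.algebraMap_eq_smul_one]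
      rw [h4, h5, Algebra.smul_def, ← map_mul]
  have hcommE : ∀ u v : k, i * (u • (1 : D) + v • i) = (u • (1 : D) + v • i) * i := by
    intro u v
    rw [mul_add, add_mul, mul_smul_comm, mul_smul_comm, smul_mul_assoc, smul_mul_assoc,
      mul_one, one_mul]
  have hind : ∀ u v w t : k, u • (1 : D) + v • i + w • j + t • (i * j) = 0 →
      u = 0 ∧ v = 0 ∧ w = 0 ∧ t = 0 := by
    intro u v w t h
    obtain ⟨E1, hE1⟩ : ∃ E1 : D, E1 = u • (1 : D) + v • i := ⟨_, rfl⟩
    obtain ⟨E2, hE2⟩ : ∃ E2 : D, E2 = w • (1 : D) + t • i := ⟨_, rfl⟩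
    have hc1 : i * E1 = E1 * i := by rw [hE1]; exact hcommE u v
    have hc2 : i * E2 = E2 * i := by rw [hE2]; exact hcommE w t
    have hX : E1 + E2 * j = 0 := by
      rw [hE1, hE2, add_mul, smul_mul_assoc, one_mul, smul_mul_assoc, ← add_assoc]; exact h
    have h5 : (E1 - E2 * j) * i = 0 := by
      calc (E1 - E2 * j) * i = E1 * i - E2 * (j * i) := by rw [sub_mul, mul_assoc]
        _ = i * E1 + (E2 * i) * j := by rw [hji, mul_neg, sub_neg_eq_add, ← hc1, mul_assoc]
        _ = i * (E1 + E2 * j) := by rw [← hc2, mul_add, mul_assoc]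
        _ = 0 := by rw [hX, mul_zero]
    have h6 : E1 - E2 * j = 0 := by
      rcases mul_eq_zero.mp h5 with h | h
      · exact h
      · exact absurd h hi0
    have h7 : (2 : k) • E1 = 0 := by
      have : E1 + E1 = 0 := by
        calc E1 + E1 = (E1 + E2 * j) + (E1 - E2 * j) := by abel
          _ = 0 := by rw [hX, h6, add_zero]
      rw [two_smul]; exact this
    have hE1z : E1 = 0 := by
      rcases smul_eq_zero.mp h7 with h | h
      · exact absurd h h2
      · exact h
    have hE2z : E2 = 0 := by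
      rw [hE1z, zero_add] at hX
      rcases mul_eq_zero.mp hX with h | h
      · exact h
      · exact absurd h hj0
    obtain ⟨hu, hv⟩ := hpair u v (hE1 ▸ hE1z)
    obtain ⟨hw, ht⟩ := hpair w t (hE2 ▸ hE2z)
    exact ⟨hu, hv, hw, ht⟩
  let Ψ : (Fin 4 → k) →ₗ[k] D := Fintype.linearCombination k ![(1 : D), i, j, i * j]
  have hΨ : ∀ c, Ψ c = c 0 • (1 : D) + c 1 • i + c 2 • j + c 3 • (i * j) := by
    intro c
    simp [Ψ, Fintype.linearCombination_apply, Fin.sum_univ_four]
  have hΨinj : Function.Injective Ψ := by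
    rw [← LinearMap.ker_eq_bot, LinearMap.ker_eq_bot']
    intro c hc
    rw [hΨ] at hc
    obtain ⟨h0, h1, h2', h3⟩ := hind _ _ _ _ hc
    funext x
    fin_cases x
    · exact h0
    · exact h1
    · exact h2'
    · exact h3
  have hΨsurj : Function.Surjective Ψ :=
    (LinearMap.injective_iff_surjective_of_finrank_eq_finrank
      (by rw [Module.finrank_fin_fun, hD]; norm_num)).mp hΨinj
  have hjj_i : (j * j) * i = i * (j * j) := by
    calc (j * j) * i = j * (j * i) := mul_assoc _ _ _
      _ = -(j * (i * j)) := by rw [hji, mul_neg]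
      _ = -((j * i) * j) := by rw [mul_assoc]
      _ = (i * j) * j := by rw [hji, neg_mul, neg_neg]
      _ = i * (j * j) := mul_assoc _ _ _
  obtain ⟨b, hb⟩ : ∃ b : k, algebraMap k D b = j * j := by
    have hcen : j * j ∈ Subalgebra.center k D := by
      rw [Subalgebra.mem_center_iff]
      intro w
      obtain ⟨c, rfl⟩ := hΨsurj w
      rw [hΨ]
      have c1' : i * (j * j) = (j * j) * i := hjj_i.symm
      have c2' : j * (j * j) = (j * j) * j := (mul_assoc j j j).symm
      have c3' : (i * j) * (j * j) = (j * j) * (i * j) := by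
        rw [mul_assoc, c2', ← mul_assoc, c1', mul_assoc]
      simp only [add_mul, mul_add, smul_mul_assoc, mul_smul_comm, one_mul, mul_one]
      rw [c1', c2', c3']
    rw [Algebra.IsCentral.center_eq_bot, Algebra.mem_bot] at hcen
    exact hcen
  let q : QuaternionAlgebra.Basis D a 0 b :=
    { i := i, j := j, k := i * j
      i_mul_i := by rw [hii, zero_smul, add_zero, Algebra.algebraMap_eq_smul_one]
      j_mul_j := by rw [← hb, Algebra.algebraMap_eq_smul_one]
      i_mul_j := rfl
      j_mul_i := by rw [zero_smul, zero_sub, hji] }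
  have hqinj : Function.Injective q.liftHom := by
    rw [injective_iff_map_eq_zero]
    intro x hx
    rw [QuaternionAlgebra.Basis.liftHom_apply, QuaternionAlgebra.Basis.lift,
      Algebra.algebraMap_eq_smul_one] at hx
    obtain ⟨h0, h1, h2', h3⟩ := hind _ _ _ _ hx
    exact QuaternionAlgebra.ext h0 h1 h2' h3
  have hqsurj : Function.Surjective q.liftHom :=
    (LinearMap.injective_iff_surjective_of_finrank_eq_finrank (f := q.liftHom.toLinearMap)
      (by rw [QuaternionAlgebra.finrank_eq_four, hD]; norm_num)).mp hqinj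
  exact ⟨a, b, ⟨AlgEquiv.ofBijective q.liftHom ⟨hqinj, hqsurj⟩⟩⟩

end H6Quat
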