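import Mathlib

/-!
# Regular sequences: relations have coefficients in the ideal; `J/J²` is free

helper6 library.
-/

open RingTheory.Sequence

namespace H6Reg

variable {A : Type*} [CommRing A]

/-- the ideal generated by `x_j`, `j < m`. -/
def Ipre {p : ℕ} (x : Fin p → A) (m : ℕ) : Ideal A := Ideal.span (x '' {j | j.val < m})

theorem regA (p : ℕ) (x : Fin p → A)
    (hreg : IsWeaklyRegular A (List.ofFn x)) (i : Fin p) (a : A)
    (h : x i * a ∈ Ipre x i.val) : a ∈ Ipre x i.val := by
  unfold Ipre at h ⊢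
  have hi : i.val < (List.ofFn x).length := by simp
  have h1 := hreg.regular_mod_prev i.val hi
  have hset : {r | r ∈ (List.ofFn x).take i.val} = x '' {j | j.val < i.val} := by
    ext r
    constructor
    · intro hr
      have hr' : r ∈ (List.ofFn x).take i.val := hr
      rw [List.mem_take_iff_getElem] at hr'
      obtain ⟨k, hk, rfl⟩ := hr'
      simp only [List.length_ofFn, lt_inf_iff] at hk
      exact ⟨⟨k, hk.2⟩, hk.1, by simp⟩
    · rintro ⟨j, hj, rfl⟩
      show x j ∈ (List.ofFn x).take i.val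
      rw [List.mem_take_iff_getElem]
      refine ⟨j.val, ?_, by simp⟩
      simp only [List.length_ofFn, lt_inf_iff]
      exact ⟨hj, j.2⟩
  have hN : (Ideal.ofList ((List.ofFn x).take i.val) • ⊤ : Submodule A A) =
      Ideal.span (x '' {j | j.val < i.val}) := by
    rw [smul_eq_mul, Ideal.mul_top]
    show Ideal.span {r | r ∈ (List.ofFn x).take i.val} = _
    rw [hset]
  have h2 : (List.ofFn x)[i.val] = x i := by simp
  rw [h2] at h1
  have h3 := @h1 (Submodule.Quotient.mk a) 0 (by
    show x i • (Submodule.Quotient.mk a : A ⧸ _) = x i • 0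
    rw [smul_zero, ← Submodule.Quotient.mk_smul, Submodule.Quotient.mk_eq_zero, hN]
    exact h)
  rw [Submodule.Quotient.mk_eq_zero, hN] at h3
  exact h3

theorem exists_coeffs {p : ℕ} (x : Fin p → A) (m : ℕ) (b : A) (hb : b ∈ Ipre x m) :
    ∃ c : Fin p → A, (∀ j : Fin p, m ≤ j.val → c j = 0) ∧ b = ∑ j, c j * x j := by
  refine Submodule.span_induction (p := fun b _ => ∃ c : Fin p → A,
    (∀ j : Fin p, m ≤ j.val → c j = 0) ∧ b = ∑ j, c j * x j) ?_ ?_ ?_ ?_ hb
  · rintro _ ⟨j, hj, rfl⟩
    refine ⟨Pi.single j 1, ?_, ?_⟩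
    · intro k hk
      have : k ≠ j := by rintro rfl; exact absurd hj (not_lt.2 hk)
      simp [Pi.single_apply, this]
    · simp [Pi.single_apply]
  · exact ⟨0, fun _ _ => rfl, by simp⟩
  · rintro u v _ _ ⟨c, hc, rfl⟩ ⟨c', hc', rfl⟩
    refine ⟨c + c', fun j hj => by simp [hc j hj, hc' j hj], ?_⟩
    simp [add_mul, Finset.sum_add_distrib]
  · rintro r u _ ⟨c, hc, rfl⟩
    refine ⟨r • c, fun j hj => by simp [hc j hj], ?_⟩
    simp [Finset.mul_sum, mul_assoc]

theorem sum_mem_Ipre {p : ℕ} (x : Fin p → A) (m : ℕ) (c : Fin p → A)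
    (hc : ∀ j : Fin p, m ≤ j.val → c j = 0) : ∑ j, c j * x j ∈ Ipre x m := by
  refine Ideal.sum_mem _ fun j _ => ?_
  by_cases hj : j.val < m
  · exact Ideal.mul_mem_left _ _ (Ideal.subset_span ⟨j, hj, rfl⟩)
  · rw [hc j (not_lt.1 hj), zero_mul]; exact zero_mem _

theorem Ipre_mono {p : ℕ} (x : Fin p → A) {m n : ℕ} (h : m ≤ n) : Ipre x m ≤ Ipre x n :=
  Ideal.span_mono (Set.image_mono fun j (hj : j.val < m) => lt_of_lt_of_le hj h)

theorem core {p : ℕ} (x : Fin p → A)
    (hreg : ∀ (i : Fin p) (a : A), x i * a ∈ Ipre x i.val → a ∈ Ipre x i.val) :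
    ∀ (m : ℕ), m ≤ p → ∀ a : Fin p → A, (∀ j : Fin p, m ≤ j.val → a j = 0) →
      ∑ j, a j * x j = 0 → ∀ j, a j ∈ Ipre x m := by
  intro m
  induction m with
  | zero =>
    intro _ a ha _ j
    rw [ha j (Nat.zero_le _)]; exact zero_mem _
  | succ m ih =>
    intro hm a ha hsum j
    have hmp : m < p := hm
    set im : Fin p := ⟨m, hmp⟩ with him
    set a0 : Fin p → A := fun j => if j = im then 0 else a j with ha0
    have hsplit : ∑ j, a j * x j = a im * x im + ∑ j, a0 j * x j := by
      have : ∀ j, a j * x j = (if j = im then a im * x im else 0) + a0 j * x j := by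
        intro j
        by_cases h : j = im
        · simp [ha0, h]
        · simp [ha0, h]
      rw [Finset.sum_congr rfl (fun j _ => this j), Finset.sum_add_distrib,
        Finset.sum_ite_eq' Finset.univ im]
      simp
    have ha0s : ∀ j : Fin p, m ≤ j.val → a0 j = 0 := by
      intro j hj
      by_cases hjm : j = im
      · simp [ha0, hjm]
      · simp only [ha0, if_neg hjm]
        apply ha
        have : j.val ≠ m := fun h => hjm (Fin.ext h)
        omega
    have h1 : x im * a im ∈ Ipre x m := by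
      have : x im * a im = - ∑ j, a0 j * x j := by
        rw [hsum] at hsplit
        linear_combination -hsplit
      rw [this]
      exact neg_mem (sum_mem_Ipre x m a0 ha0s)
    have h2 : a im ∈ Ipre x m := hreg im (a im) h1
    obtain ⟨c, hc, hac⟩ := exists_coeffs x m (a im) h2
    set a' : Fin p → A := fun j => a0 j + c j * x im with ha'
    have ha's : ∀ j : Fin p, m ≤ j.val → a' j = 0 := by
      intro j hj; simp [ha', ha0s j hj, hc j hj]
    have hsum' : ∑ j, a' j * x j = 0 := by
      have : ∑ j, a' j * x j = ∑ j, a0 j * x j + x im * ∑ j, c j * x j := by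
        rw [Finset.mul_sum, ← Finset.sum_add_distrib]
        refine Finset.sum_congr rfl fun j _ => ?_
        simp only [ha']; ring
      rw [this, ← hac]
      rw [hsum] at hsplit
      linear_combination -hsplit
    have ih' := ih (Nat.le_of_succ_le hm) a' ha's hsum'
    by_cases hjm : j = im
    · rw [hjm]; exact Ipre_mono x (Nat.le_succ m) h2
    · have hj0 : a j = a' j - c j * x im := by simp [ha', ha0, hjm]
      rw [hj0]
      refine sub_mem (Ipre_mono x (Nat.le_succ m) (ih' j))
        (Ideal.mul_mem_left _ _ (Ideal.subset_span ⟨im, ?_, rfl⟩))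
      show m < m + 1
      exact Nat.lt_succ_self m

/-- Relations among a weakly regular sequence have coefficients in the ideal. -/
theorem coeff_mem {p : ℕ} (x : Fin p → A) (hreg : IsWeaklyRegular A (List.ofFn x))
    (a : Fin p → A) (h : ∑ j, a j * x j = 0) (j : Fin p) : a j ∈ Ideal.span (Set.range x) := by
  have := core x (fun i b hb => regA p x hreg i b hb) p le_rfl a
    (fun j hj => absurd j.2 (not_lt.2 hj)) h j
  exact Ideal.span_mono (Set.image_subset_range _ _) this

theorem exists_coeffs_sq {p : ℕ} (x : Fin p → A) (y : A)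
    (hy : y ∈ (Ideal.span (Set.range x)) ^ 2) :
    ∃ c : Fin p → A, (∀ j, c j ∈ Ideal.span (Set.range x)) ∧ y = ∑ j, c j * x j := by
  rw [pow_two] at hy
  refine Submodule.mul_induction_on hy ?_ ?_
  · intro u hu w hw
    obtain ⟨d, rfl⟩ := Ideal.mem_span_range_iff_exists_fun.1 hw
    exact ⟨fun j => u * d j, fun j => Ideal.mul_mem_right _ _ hu,
      by simp [Finset.mul_sum, mul_assoc]⟩
  · rintro u w ⟨c, hc, rfl⟩ ⟨c', hc', rfl⟩
    exact ⟨c + c', fun j => add_mem (hc j) (hc' j), by simp [add_mul, Finset.sum_add_distrib]⟩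

/-- `J/J²` is free on the classes of a weakly regular sequence generating `J`. -/
theorem exists_basis {p : ℕ} (x : Fin p → A) (hreg : IsWeaklyRegular A (List.ofFn x)) :
    ∃ b : Module.Basis (Fin p) (A ⧸ Ideal.span (Set.range x))
        (Ideal.span (Set.range x)).Cotangent,
      ∀ i, b i = (Ideal.span (Set.range x)).toCotangent
        ⟨x i, Ideal.subset_span (Set.mem_range_self i)⟩ := by
  set J := Ideal.span (Set.range x) with hJ
  let xi : Fin p → J := fun i => ⟨x i, Ideal.subset_span (Set.mem_range_self i)⟩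
  let v : Fin p → J.Cotangent := fun i => J.toCotangent (xi i)
  have hsum : ∀ a : Fin p → A,
      ∑ i, (Ideal.Quotient.mk J (a i)) • v i = J.toCotangent (∑ i, a i • xi i) := by
    intro a
    rw [map_sum]
    refine Finset.sum_congr rfl fun i _ => ?_
    rw [map_smul]
    show (algebraMap A (A ⧸ J) (a i)) • _ = _
    rw [algebraMap_smul]
  have hli : LinearIndependent (A ⧸ J) v := by
    rw [Fintype.linearIndependent_iff]
    intro g hg i
    choose a ha using fun i => Ideal.Quotient.mk_surjective (g i)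
    have : ∑ i, g i • v i = ∑ i, (Ideal.Quotient.mk J (a i)) • v i := by simp only [ha]
    rw [this, hsum, Ideal.toCotangent_eq_zero] at hg
    have hval : ((∑ i, a i • xi i : J) : A) = ∑ i, a i * x i := by
      simp [xi]
    rw [hval] at hg
    obtain ⟨c, hc, hy⟩ := exists_coeffs_sq x _ hg
    have h0 : ∑ j, (a j - c j) * x j = 0 := by
      simp only [sub_mul, Finset.sum_sub_distrib]; rw [hy]; ring
    have := coeff_mem x hreg _ h0 i
    rw [← ha i, Ideal.Quotient.eq_zero_iff_mem]
    have h2 : a i = (a i - c i) + c i := by ring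
    rw [h2]; exact add_mem this (hc i)
  have hsp : ⊤ ≤ Submodule.span (A ⧸ J) (Set.range v) := by
    rintro y -
    obtain ⟨z, rfl⟩ := Ideal.toCotangent_surjective J y
    obtain ⟨c, hc⟩ := Ideal.mem_span_range_iff_exists_fun.1 z.2
    have hz : z = ∑ i, c i • xi i := by
      apply Subtype.ext; rw [← hc]; simp [xi]
    rw [hz, ← hsum]
    exact Submodule.sum_mem _ fun i _ => Submodule.smul_mem _ _ (Submodule.subset_span ⟨i, rfl⟩)
  exact ⟨Module.Basis.mk hli hsp, fun i => by rw [Module.Basis.mk_apply]⟩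

end H6Reg
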