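import Mathlib
import Groth.Agent.Lib.helper6.EndStruct

/-! Elements of a central division algebra a power of which is central, over a field containing
all roots of unity. -/

namespace H6RU

open Polynomial IntermediateField

universe u v

lemma natDegree_minpoly_dvd_finrank {K L : Type*} [Field K] [Field L] [Algebra K L]
    [FiniteDimensional K L] (y : L) :
    (minpoly K y).natDegree ∣ Module.finrank K L := by
  have hint : IsIntegral K y := Algebra.IsIntegral.isIntegral y
  rw [← IntermediateField.adjoin.finrank hint]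
  exact ⟨_, (Module.finrank_mul_finrank K K⟮y⟯ L).symm⟩

lemma finrank_dvd_of_algHom {K L C : Type*} [Field K] [Field L] [Algebra K L] [Ring C]
    [Algebra K C] (f : L →ₐ[K] C) :
    Module.finrank K L ∣ Module.finrank K C := by
  letI : Module L C := Module.compHom C f.toRingHom
  haveI : IsScalarTower K L C := ⟨fun a l c => by
    show f (a • l) * c = a • (f l * c)
    rw [map_smul, smul_mul_assoc]⟩
  exact ⟨_, (Module.finrank_mul_finrank K L C).symm⟩

/-- In a central division algebra of dimension `n^2`, the degree of every element divides `n`. -/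
theorem natDegree_minpoly_dvd {K : Type u} [Field K] {A : Type v} [DivisionRing A] [Algebra K A]
    [Algebra.IsCentral K A] [FiniteDimensional K A] (n : ℕ) (hA : Module.finrank K A = n ^ 2)
    (x : A) : (minpoly K x).natDegree ∣ n := by
  classical
  let L : Subalgebra K A := Algebra.adjoin K {x}
  letI instC : CommRing L := Algebra.adjoinCommRingOfComm K (by
    intro a ha b hb
    rw [Set.mem_singleton_iff] at ha hb
    rw [ha, hb])
  haveI : Algebra.IsIntegral K L := Algebra.IsIntegral.of_finite K L
  have hF : IsField L := isField_of_isIntegral_of_isField' (Field.toIsField K)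
  haveI hS : IsSimpleRing L := (isSimpleRing_iff_isField L).mpr hF
  have h1 := H6SN2.centralizer_finrank (k := K) (A := A) L
  have h2 : L ≤ Subalgebra.centralizer K (L : Set A) := by
    intro y hy
    rw [Subalgebra.mem_centralizer_iff K]
    intro g hg
    exact congrArg Subtype.val (mul_comm (⟨g, hg⟩ : L) ⟨y, hy⟩)
  let xL : L := ⟨x, Algebra.subset_adjoin rfl⟩
  have hmin : minpoly K xL = minpoly K x :=
    (minpoly.algHom_eq L.val Subtype.val_injective xL).symm
  letI instF : Field L := hF.toField
  letI instAlg : Algebra K L := Subalgebra.algebra L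
  have h3 : Module.finrank K L ∣
      Module.finrank K (Subalgebra.centralizer K (L : Set A)) :=
    finrank_dvd_of_algHom (K := K) (L := L) (Subalgebra.inclusion h2)
  have h4 : Module.finrank K L ∣ n := by
    obtain ⟨r, hr⟩ := h3
    rw [hr, hA] at h1
    have : (Module.finrank K L) ^ 2 ∣ n ^ 2 := ⟨r, by rw [h1]; ring⟩
    exact (Nat.pow_dvd_pow_iff two_ne_zero).mp this
  have h5 : (minpoly K xL).natDegree ∣ Module.finrank K L :=
    natDegree_minpoly_dvd_finrank (K := K) (L := L) xL
  rw [← hmin]
  exact h5.trans h4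

/-- Over a field containing all roots of unity, an irreducible monic factor `f` of `X^m - a`
(`a ≠ 0`) divides `X^d - c` for `d = deg f` and some `c`. -/
theorem exists_dvd_X_pow_sub_C {K : Type u} [Field K]
    (hK : ∀ n : ℕ, 0 < n → (X ^ n - 1 : K[X]).Splits)
    (f : K[X]) (hf : Irreducible f) (hfm : f.Monic) (m : ℕ) (hm : 0 < m) (a : K) (ha : a ≠ 0)
    (hdiv : f ∣ X ^ m - C a) :
    ∃ c : K, f ∣ X ^ f.natDegree - C c := by
  classical
  let E := AlgebraicClosure K
  let i : K →+* E := algebraMap K E
  have hsp : (f.map i).Splits := IsAlgClosed.splits _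
  obtain ⟨R, hR⟩ : ∃ R, R = (f.map i).roots := ⟨_, rfl⟩
  have hcard : R.card = f.natDegree := by
    rw [hR, ← hsp.natDegree_eq_card_roots, natDegree_map]
  have hd : 0 < f.natDegree := hf.natDegree_pos
  obtain ⟨θ, hθ⟩ : ∃ θ, θ ∈ R := Multiset.card_pos_iff_exists_mem.mp (hcard ▸ hd)
  have hia : i a ≠ 0 := fun h => ha (i.injective (by rw [h, map_zero]))
  have hfroot : ∀ η ∈ R, eval η (f.map i) = 0 := by
    intro η hη
    rw [hR] at hη
    exact (mem_roots (Polynomial.map_ne_zero hf.ne_zero)).mp hη
  have hroot : ∀ η ∈ R, η ^ m = i a := by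
    intro η hη
    have h1 := hfroot η hη
    obtain ⟨g, hg⟩ := hdiv
    have h2 : eval η ((X ^ m - C a : K[X]).map i) = 0 := by
      rw [hg, Polynomial.map_mul, eval_mul, h1, zero_mul]
    simpa [sub_eq_zero] using h2
  have hne : ∀ η ∈ R, η ≠ 0 := by
    intro η hη h0
    have := hroot η hη
    rw [h0, zero_pow hm.ne'] at this
    exact hia this.symm
  have hθ0 : θ ≠ 0 := hne θ hθ
  have hζ : ∀ η ∈ R, ∃ ζ : K, η = i ζ * θ := by
    intro η hη
    have h1 : (η / θ) ^ m = 1 := by
      rw [div_pow, hroot η hη, hroot θ hθ, div_self hia]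
    have h2 : ((X ^ m - 1 : K[X]).map i).IsRoot (η / θ) := by
      simp [h1]
    obtain ⟨ζ, hζ⟩ := (hK m hm).mem_range_of_isRoot (X_pow_sub_C_ne_zero hm 1) h2
    refine ⟨ζ, ?_⟩
    rw [hζ, div_mul_cancel₀ _ hθ0]
  choose! g hg using hζ
  have hg0 : ∀ η ∈ R, g η ≠ 0 := by
    intro η hη h0
    have := hg η hη
    rw [h0, map_zero, zero_mul] at this
    exact hne η hη this
  have hprod : R.prod = i ((R.map g).prod) * θ ^ f.natDegree := by
    have hRR : R = R.map (fun η => i (g η) * θ) := by
      conv_lhs => rw [← Multiset.map_id R]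
      exact Multiset.map_congr rfl (fun η hη => hg η hη)
    conv_lhs => rw [hRR]
    rw [Multiset.prod_map_mul, Multiset.map_const', Multiset.prod_replicate, hcard,
      map_multiset_prod, Multiset.map_map]
    rfl
  have hcoeff : (f.map i).coeff 0 = (-1) ^ (f.map i).natDegree * R.prod := by
    rw [hR]
    exact hsp.coeff_zero_eq_prod_roots_of_monic (hfm.map i)
  rw [natDegree_map, coeff_map] at hcoeff
  obtain ⟨P, hP⟩ : ∃ P, P = (R.map g).prod := ⟨_, rfl⟩
  have hP0 : P ≠ 0 := by
    rw [hP]
    apply Multiset.prod_ne_zero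
    intro h0
    rw [Multiset.mem_map] at h0
    obtain ⟨η, hη, h0⟩ := h0
    exact hg0 η hη h0
  have hiP : i P ≠ 0 := fun h => hP0 (i.injective (by rw [h, map_zero]))
  rw [hprod, ← hP] at hcoeff
  refine ⟨(-1) ^ f.natDegree * f.coeff 0 / P, ?_⟩
  have hθd : θ ^ f.natDegree = i ((-1) ^ f.natDegree * f.coeff 0 / P) := by
    have h11 : ((-1 : E) ^ f.natDegree) * ((-1) ^ f.natDegree) = 1 := by
      rw [← mul_pow]; norm_num
    rw [map_div₀, map_mul, map_pow, map_neg, map_one, hcoeff, eq_div_iff hiP]
    linear_combination (-(i P * θ ^ f.natDegree)) * h11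
  have hfθ : aeval θ f = 0 := by
    rw [aeval_def, eval₂_eq_eval_map]
    exact hfroot θ hθ
  have hmin : f = minpoly K θ := minpoly.eq_of_irreducible_of_monic hf hfθ hfm
  rw [hmin]
  apply minpoly.dvd
  rw [← hmin]
  simp only [map_sub, map_pow, aeval_X, aeval_C]
  rw [hθd]
  exact sub_self _

end H6RU
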