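import Groth.Agent.Lib.helper6.SchlA
import Groth.Agent.Lib.helper6.ArtTorsor
import Groth.Agent.Lib.helper6.ArtVersal
import Groth.Agent.S12728

/-! Schlessinger's construction of a hull and the pro-representability criterion (helper6). -/

set_option autoImplicit false
universe u v
open CategoryTheory

namespace H6Art

open ArtFun ArtFun.Art IsLocalRing

variable {Λ : Type u} {k : Type u} [CommRing Λ] [Field k] [Algebra Λ k]

section Seq

variable [IsNoetherianRing Λ] [Module.Finite Λ k]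
variable {P : CRing Λ k} {F : Art Λ k ⥤ Type v} (hS1 : S1 F)

/-- the next stage: the least ideal to which the element lifts -/
noncomputable def nextK (s : Stage P F) : OIdeal P := Classical.choose (exists_least hS1 s)

lemma nextK_lifts (s : Stage P F) : Lifts s (nextK hS1 s) :=
  (Classical.choose_spec (exists_least hS1 s)).1

/-- the next stage -/
noncomputable def next (s : Stage P F) : Stage P F :=
  ⟨nextK hS1 s, Classical.choose (nextK_lifts hS1 s).2.2⟩

lemma next_le (s : Stage P F) : (next hS1 s).K.J ≤ s.K.J := (nextK_lifts hS1 s).2.1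

lemma next_mul_le (s : Stage P F) : maximalIdeal P.carrier * s.K.J ≤ (next hS1 s).K.J :=
  (nextK_lifts hS1 s).1

lemma next_map (s : Stage P F) (h : (next hS1 s).K.J ≤ s.K.J) :
    F.map (pqHom h) (next hS1 s).ξ = s.ξ :=
  Classical.choose_spec (nextK_lifts hS1 s).2.2 h

lemma next_least (s : Stage P F) (K'' : OIdeal P) (h : Lifts s K'') :
    (next hS1 s).K.J ≤ K''.J :=
  (Classical.choose_spec (exists_least hS1 s)).2 K'' h

/-- the sequence of stages -/
noncomputable def stg (s₀ : Stage P F) (n : ℕ) : Stage P F :=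
  Nat.rec s₀ (fun _ s => next hS1 s) n

lemma stg_succ (s₀ : Stage P F) (n : ℕ) : stg hS1 s₀ (n + 1) = next hS1 (stg hS1 s₀ n) := rfl

lemma stg_antitone (s₀ : Stage P F) : Antitone (fun n => (stg hS1 s₀ n).K.J) :=
  antitone_nat_of_succ_le (fun n => next_le hS1 _)

lemma stg_map (s₀ : Stage P F) {m n : ℕ} (hmn : m ≤ n)
    (h : (stg hS1 s₀ n).K.J ≤ (stg hS1 s₀ m).K.J) :
    F.map (pqHom h) (stg hS1 s₀ n).ξ = (stg hS1 s₀ m).ξ := by
  induction n, hmn using Nat.le_induction with
  | base => rw [pqHom_refl]; exact Functor.map_id_apply ..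
  | succ n hmn ih =>
    have h1 : (stg hS1 s₀ (n + 1)).K.J ≤ (stg hS1 s₀ n).K.J := next_le hS1 _
    have h2 : (stg hS1 s₀ n).K.J ≤ (stg hS1 s₀ m).K.J := stg_antitone hS1 s₀ hmn
    have e : pqHom h = pqHom h1 ≫ pqHom h2 := (pqHom_comp h1 h2).symm
    rw [e, Functor.map_comp_apply]
    have e2 : F.map (pqHom h1) (stg hS1 s₀ (n + 1)).ξ = (stg hS1 s₀ n).ξ :=
      next_map hS1 (stg hS1 s₀ n) h1
    rw [e2]
    exact ih h2

/-- the intersection of the ideals of the stages -/
noncomputable def Jinf (s₀ : Stage P F) : Ideal P.carrier := ⨅ n, (stg hS1 s₀ n).K.J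

lemma Jinf_le (s₀ : Stage P F) (n : ℕ) : Jinf hS1 s₀ ≤ (stg hS1 s₀ n).K.J := iInf_le _ n

lemma Jinf_le_max (s₀ : Stage P F) : Jinf hS1 s₀ ≤ maximalIdeal P.carrier :=
  (Jinf_le hS1 s₀ 0).trans (stg hS1 s₀ 0).K.le

/-- the hull ring -/
noncomputable def hullRing (s₀ : Stage P F) : CRing Λ k :=
  qCRing P (Jinf hS1 s₀) (Jinf_le_max hS1 s₀)

/-- precomposition with the quotient map -/
noncomputable def toP (s₀ : Stage P F) {A : Art Λ k}
    (φ : HomSet (hullRing hS1 s₀).carrier (hullRing hS1 s₀).res A) : HomSet P.carrier P.res A :=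
  ⟨φ.1.comp (Ideal.Quotient.mkₐ Λ (Jinf hS1 s₀)), by
    rw [← AlgHom.comp_assoc, φ.2]
    exact Ideal.Quotient.liftₐ_comp _ _ _⟩

lemma toP_apply (s₀ : Stage P F) {A : Art Λ k}
    (φ : HomSet (hullRing hS1 s₀).carrier (hullRing hS1 s₀).res A) (a : P.carrier) :
    (toP hS1 s₀ φ).1 a = φ.1 (Ideal.Quotient.mk (Jinf hS1 s₀) a) := rfl

lemma toP_ker (s₀ : Stage P F) {A : Art Λ k}
    (φ : HomSet (hullRing hS1 s₀).carrier (hullRing hS1 s₀).res A) :
    Jinf hS1 s₀ ≤ RingHom.ker ((toP hS1 s₀ φ).1 : P.carrier →+* A) := by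
  intro a ha
  rw [RingHom.mem_ker]
  change φ.1 (Ideal.Quotient.mk (Jinf hS1 s₀) a) = 0
  have h0 : (Ideal.Quotient.mk (Jinf hS1 s₀)) a = 0 := Ideal.Quotient.eq_zero_iff_mem.2 ha
  rw [h0]
  exact map_zero φ.1

/-- factorisation through the hull ring -/
noncomputable def fromP (s₀ : Stage P F) {A : Art Λ k} (φ : HomSet P.carrier P.res A)
    (h : Jinf hS1 s₀ ≤ RingHom.ker (φ.1 : P.carrier →+* A)) :
    HomSet (hullRing hS1 s₀).carrier (hullRing hS1 s₀).res A :=
  ⟨Ideal.Quotient.liftₐ (Jinf hS1 s₀) φ.1 (fun _ ha => RingHom.mem_ker.1 (h ha)), by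
    apply AlgHom.ext
    intro x
    obtain ⟨a, rfl⟩ := Ideal.Quotient.mk_surjective x
    exact DFunLike.congr_fun φ.2 a⟩

lemma toP_fromP (s₀ : Stage P F) {A : Art Λ k} (φ : HomSet P.carrier P.res A)
    (h : Jinf hS1 s₀ ≤ RingHom.ker (φ.1 : P.carrier →+* A)) :
    toP hS1 s₀ (fromP hS1 s₀ φ h) = φ :=
  Subtype.ext (AlgHom.ext fun _ => rfl)

lemma toP_injective (s₀ : Stage P F) {A : Art Λ k} :
    Function.Injective (toP hS1 s₀ (A := A)) := by
  intro φ ψ h
  apply Subtype.ext
  apply AlgHom.ext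
  intro x
  obtain ⟨a, rfl⟩ := Ideal.Quotient.mk_surjective x
  exact DFunLike.congr_fun (congrArg Subtype.val h) a

lemma toP_map (s₀ : Stage P F) {A B : Art Λ k} (f : A ⟶ B)
    (φ : HomSet (hullRing hS1 s₀).carrier (hullRing hS1 s₀).res A) :
    toP hS1 s₀ (HomSet.map f φ) = HomSet.map f (toP hS1 s₀ φ) :=
  Subtype.ext (AlgHom.ext fun _ => rfl)

lemma exists_stage_le_ker (s₀ : Stage P F) {A : Art Λ k} (φ : HomSet P.carrier P.res A)
    (hφ : Jinf hS1 s₀ ≤ RingHom.ker (φ.1 : P.carrier →+* A)) :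
    ∃ q, (stg hS1 s₀ q).K.J ≤ RingHom.ker (φ.1 : P.carrier →+* A) := by
  obtain ⟨n, hn⟩ := exists_pow_maximalIdeal_eq_bot A
  obtain ⟨q, hq⟩ := chevalley P (fun n => (stg hS1 s₀ n).K.J) (stg_antitone hS1 s₀)
    (fun q => (stg hS1 s₀ q).K.op) (n + 1)
  refine ⟨q, hq.trans (sup_le hφ ?_)⟩
  intro a ha
  exact RingHom.mem_ker.2 (mpow_le_ker φ n hn a ha)

lemma hull_app_eq_of_le (s₀ : Stage P F) {A : Art Λ k} (φ : HomSet P.carrier P.res A)
    {q q' : ℕ} (hqq : q ≤ q')
    (h : (stg hS1 s₀ q).K.J ≤ RingHom.ker (φ.1 : P.carrier →+* A))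
    (h' : (stg hS1 s₀ q').K.J ≤ RingHom.ker (φ.1 : P.carrier →+* A)) :
    F.map (pqLift (stg hS1 s₀ q).K φ h) (stg hS1 s₀ q).ξ =
      F.map (pqLift (stg hS1 s₀ q').K φ h') (stg hS1 s₀ q').ξ := by
  have hJ : (stg hS1 s₀ q').K.J ≤ (stg hS1 s₀ q).K.J := stg_antitone hS1 s₀ hqq
  have e : pqLift (stg hS1 s₀ q').K φ h' = pqHom hJ ≫ pqLift (stg hS1 s₀ q).K φ h :=
    (pqHom_pqLift hJ φ h).symm
  rw [e, Functor.map_comp_apply, stg_map hS1 s₀ hqq hJ]

lemma hull_app_eq (s₀ : Stage P F) {A : Art Λ k} (φ : HomSet P.carrier P.res A)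
    {q q' : ℕ}
    (h : (stg hS1 s₀ q).K.J ≤ RingHom.ker (φ.1 : P.carrier →+* A))
    (h' : (stg hS1 s₀ q').K.J ≤ RingHom.ker (φ.1 : P.carrier →+* A)) :
    F.map (pqLift (stg hS1 s₀ q).K φ h) (stg hS1 s₀ q).ξ =
      F.map (pqLift (stg hS1 s₀ q').K φ h') (stg hS1 s₀ q').ξ := by
  rcases le_total q q' with hqq | hqq
  · exact hull_app_eq_of_le hS1 s₀ φ hqq h h'
  · exact (hull_app_eq_of_le hS1 s₀ φ hqq h' h).symm

/-- the value of the hull family on a map from `P` killing the intersection ideal -/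
noncomputable def appP (s₀ : Stage P F) {A : Art Λ k} (φ : HomSet P.carrier P.res A)
    (hφ : Jinf hS1 s₀ ≤ RingHom.ker (φ.1 : P.carrier →+* A)) : F.obj A :=
  F.map (pqLift (stg hS1 s₀ (exists_stage_le_ker hS1 s₀ φ hφ).choose).K φ
    (exists_stage_le_ker hS1 s₀ φ hφ).choose_spec)
    (stg hS1 s₀ (exists_stage_le_ker hS1 s₀ φ hφ).choose).ξ

lemma appP_eq (s₀ : Stage P F) {A : Art Λ k} (φ : HomSet P.carrier P.res A)
    (hφ : Jinf hS1 s₀ ≤ RingHom.ker (φ.1 : P.carrier →+* A)) (q : ℕ)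
    (h : (stg hS1 s₀ q).K.J ≤ RingHom.ker (φ.1 : P.carrier →+* A)) :
    appP hS1 s₀ φ hφ = F.map (pqLift (stg hS1 s₀ q).K φ h) (stg hS1 s₀ q).ξ :=
  hull_app_eq hS1 s₀ φ _ h

lemma appP_congr (s₀ : Stage P F) {A : Art Λ k} {φ φ' : HomSet P.carrier P.res A} (e : φ = φ')
    (hφ : Jinf hS1 s₀ ≤ RingHom.ker (φ.1 : P.carrier →+* A))
    (hφ' : Jinf hS1 s₀ ≤ RingHom.ker (φ'.1 : P.carrier →+* A)) :
    appP hS1 s₀ φ hφ = appP hS1 s₀ φ' hφ' := by
  subst e; rfl

omit [IsNoetherianRing Λ] [Module.Finite Λ k] in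
lemma ker_le_ker_map {A B : Art Λ k} (f : A ⟶ B) (φ : HomSet P.carrier P.res A) {I : Ideal P.carrier}
    (h : I ≤ RingHom.ker (φ.1 : P.carrier →+* A)) :
    I ≤ RingHom.ker ((HomSet.map f φ).1 : P.carrier →+* B) := by
  intro a ha
  rw [RingHom.mem_ker]
  change f.toAlgHom (φ.1 a) = 0
  have h1 : φ.1 a = 0 := RingHom.mem_ker.1 (h ha)
  rw [h1]
  exact map_zero f.toAlgHom

lemma appP_map (s₀ : Stage P F) {A B : Art Λ k} (f : A ⟶ B) (φ : HomSet P.carrier P.res A)
    (hφ : Jinf hS1 s₀ ≤ RingHom.ker (φ.1 : P.carrier →+* A))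
    (hφ' : Jinf hS1 s₀ ≤ RingHom.ker ((HomSet.map f φ).1 : P.carrier →+* B)) :
    appP hS1 s₀ (HomSet.map f φ) hφ' = F.map f (appP hS1 s₀ φ hφ) := by
  obtain ⟨q, hq⟩ := exists_stage_le_ker hS1 s₀ φ hφ
  have hq' := ker_le_ker_map f φ hq
  rw [appP_eq hS1 s₀ _ hφ' q hq', appP_eq hS1 s₀ _ hφ q hq, ← Functor.map_comp_apply,
    pqLift_comp _ f φ hq hq']

/-- the hull family -/
noncomputable def hullFamily (s₀ : Stage P F) :
    Family (hullRing hS1 s₀).carrier (hullRing hS1 s₀).res F where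
  app A φ := appP hS1 s₀ (toP hS1 s₀ φ) (toP_ker hS1 s₀ φ)
  natural f φ := by
    rw [← appP_map hS1 s₀ f (toP hS1 s₀ φ) (toP_ker hS1 s₀ φ)
      (ker_le_ker_map f _ (toP_ker hS1 s₀ φ))]
    exact appP_congr hS1 s₀ (toP_map hS1 s₀ f φ) _ _

lemma hullFamily_app (s₀ : Stage P F) {A : Art Λ k}
    (φ : HomSet (hullRing hS1 s₀).carrier (hullRing hS1 s₀).res A) (q : ℕ)
    (h : (stg hS1 s₀ q).K.J ≤ RingHom.ker ((toP hS1 s₀ φ).1 : P.carrier →+* A)) :
    (hullFamily hS1 s₀).app A φ =
      F.map (pqLift (stg hS1 s₀ q).K (toP hS1 s₀ φ) h) (stg hS1 s₀ q).ξ :=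
  appP_eq hS1 s₀ _ (toP_ker hS1 s₀ φ) q h

/-- the hull family is bijective on tangent spaces as soon as the initial stage is -/
theorem hull_tangent_bijective (s₀ : Stage P F)
    (hT1 : ∀ φ : HomSet P.carrier P.res (dual Λ k),
      s₀.K.J ≤ RingHom.ker (φ.1 : P.carrier →+* (dual Λ k)))
    (hT2 : Function.Bijective (fun φ : HomSet P.carrier P.res (dual Λ k) =>
      F.map (pqLift s₀.K φ (hT1 φ)) s₀.ξ)) :
    Function.Bijective ((hullFamily hS1 s₀).app (dual Λ k)) := by
  have hfun : (hullFamily hS1 s₀).app (dual Λ k) =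
      (fun φ : HomSet P.carrier P.res (dual Λ k) => F.map (pqLift s₀.K φ (hT1 φ)) s₀.ξ) ∘
        (toP hS1 s₀ (A := dual Λ k)) := by
    funext φ
    exact hullFamily_app hS1 s₀ φ 0 (hT1 _)
  rw [hfun]
  refine hT2.comp ⟨toP_injective hS1 s₀, fun φ' => ?_⟩
  exact ⟨fromP hS1 s₀ φ' ((Jinf_le hS1 s₀ 0).trans (hT1 φ')), toP_fromP hS1 s₀ φ' _⟩

/-- the lifting property of the hull ring -/
theorem hull_lift (hP : IsSmoothFunctor (hR P.carrier P.res)) (s₀ : Stage P F)
    {B A : Art Λ k} (μ : B ⟶ A) (hμ : IsSmallExt μ)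
    (φ : HomSet (hullRing hS1 s₀).carrier (hullRing hS1 s₀).res A) (y : F.obj B)
    (hy : F.map μ y = (hullFamily hS1 s₀).app A φ) :
    ∃ ψ : HomSet (hullRing hS1 s₀).carrier (hullRing hS1 s₀).res B, HomSet.map μ ψ = φ := by
  obtain ⟨q, hq⟩ := exists_stage_le_ker hS1 s₀ (toP hS1 s₀ φ) (toP_ker hS1 s₀ φ)
  set s := stg hS1 s₀ q with hs
  set u : pq s.K ⟶ A := pqLift s.K (toP hS1 s₀ φ) hq with hu
  have hξ : (hullFamily hS1 s₀).app A φ = F.map u s.ξ := hullFamily_app hS1 s₀ φ q hq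
  have hC : IsFibreProd (fibreProdFst u μ hμ.1) (fibreProdSnd u μ hμ.1) u μ :=
    isFibreProd_fibreProd u μ hμ.1
  set C := fibreProd u μ hμ.1 with hCdef
  set p₁ : C ⟶ pq s.K := fibreProdFst u μ hμ.1 with hp₁def
  set p₂ : C ⟶ B := fibreProdSnd u μ hμ.1 with hp₂def
  obtain ⟨z, hz⟩ := hS1 p₁ p₂ u μ hC hμ.1 ⟨(s.ξ, y), by rw [hy, hξ]⟩
  have hz1 : F.map p₁ z = s.ξ := congrArg (fun t => t.1.1) hz
  have hp₁ : Function.Surjective p₁ := by
    intro a
    obtain ⟨b, hb⟩ := hμ.1 (u a)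
    obtain ⟨c, hc, -⟩ := hC.surj a b hb.symm
    exact ⟨c, hc⟩
  obtain ⟨w, hw⟩ := hP p₁ hp₁ (pqMk s.K)
  have hw' : ∀ a : P.carrier, p₁ ((w : HomSet P.carrier P.res C).1 a) =
      Ideal.Quotient.mk s.K.J a := fun a =>
    congrArg (fun t : HomSet P.carrier P.res (pq s.K) => t.1 a) hw
  have hw2 : ∀ a : P.carrier, μ (p₂ ((w : HomSet P.carrier P.res C).1 a)) =
      (toP hS1 s₀ φ).1 a := fun a => by
    rw [← hC.w_apply, hw' a]; rfl
  -- facts on the small extension
  have hker : ∀ c ∈ maximalIdeal B, ∀ t ∈ RingHom.ker μ.toAlgHom, c * t = 0 := by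
    intro c hc t ht
    have : c * t ∈ maximalIdeal B * RingHom.ker μ.toAlgHom := Ideal.mul_mem_mul hc ht
    rw [hμ.2.2.2] at this
    exact this
  have hresw : ∀ a : P.carrier, B.res (p₂ ((w : HomSet P.carrier P.res C).1 a)) = P.res a :=
    fun a => by
      rw [Art.res_app p₂]
      exact DFunLike.congr_fun (w : HomSet P.carrier P.res C).2 a
  -- the key claim: the next ideal is killed
  have key : (next hS1 s).K.J ≤
      RingHom.ker ((w : HomSet P.carrier P.res C).1 : P.carrier →+* C) := by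
    by_cases hcase : ∀ x ∈ s.K.J, (w : HomSet P.carrier P.res C).1 x = 0
    · exact (next_le hS1 s).trans (fun x hx => RingHom.mem_ker.2 (hcase x hx))
    · push Not at hcase
      obtain ⟨x₀, hx₀, hwx₀⟩ := hcase
      have hp₁x₀ : p₁ ((w : HomSet P.carrier P.res C).1 x₀) = 0 := by
        rw [hw' x₀]; exact Ideal.Quotient.eq_zero_iff_mem.2 hx₀
      have ht₀mem : p₂ ((w : HomSet P.carrier P.res C).1 x₀) ∈ RingHom.ker μ.toAlgHom := by
        rw [RingHom.mem_ker]
        change μ (p₂ ((w : HomSet P.carrier P.res C).1 x₀)) = 0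
        rw [← hC.w_apply, hp₁x₀]; exact map_zero u.toAlgHom
      have ht₀ne : p₂ ((w : HomSet P.carrier P.res C).1 x₀) ≠ 0 := by
        intro h0
        apply hwx₀
        apply hC.inj _ _
        · rw [hp₁x₀]; exact (map_zero p₁.toAlgHom).symm
        · rw [h0]; exact (map_zero p₂.toAlgHom).symm
      obtain ⟨t, ht⟩ := hμ.2.2.1
      have htmem : t ∈ RingHom.ker μ.toAlgHom := by
        rw [ht]; exact Submodule.mem_span_singleton_self t
      obtain ⟨b, hb⟩ : ∃ b : B, b * t = p₂ ((w : HomSet P.carrier P.res C).1 x₀) := by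
        have := ht₀mem
        rw [ht] at this
        exact Ideal.mem_span_singleton'.1 this
      have hbu : IsUnit b := by
        by_contra hnu
        apply ht₀ne
        rw [← hb]
        exact hker b ((mem_maximalIdeal b).2 hnu) t htmem
      obtain ⟨v, hv⟩ := hbu.exists_left_inv
      -- surjectivity of w
      have hwsurj : Function.Surjective (w : HomSet P.carrier P.res C).1 := by
        intro c
        obtain ⟨a, ha⟩ := Ideal.Quotient.mk_surjective (I := s.K.J) (p₁ c)
        have hc'mem : p₂ c - p₂ ((w : HomSet P.carrier P.res C).1 a) ∈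
            RingHom.ker μ.toAlgHom := by
          rw [RingHom.mem_ker, map_sub]
          change μ (p₂ c) - μ (p₂ ((w : HomSet P.carrier P.res C).1 a)) = 0
          rw [← hC.w_apply, ← hC.w_apply, hw' a, ha, sub_self]
        obtain ⟨b', hb'⟩ : ∃ b' : B, b' * t =
            p₂ c - p₂ ((w : HomSet P.carrier P.res C).1 a) := by
          have := hc'mem
          rw [ht] at this
          exact Ideal.mem_span_singleton'.1 this
        obtain ⟨a', ha'⟩ := P.res_surjective (B.res (b' * v))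
        refine ⟨a + a' * x₀, ?_⟩
        apply hC.inj _ _
        · rw [map_add, map_mul]
          change p₁ ((w : HomSet P.carrier P.res C).1 a +
            (w : HomSet P.carrier P.res C).1 a' * (w : HomSet P.carrier P.res C).1 x₀) = p₁ c
          have e1 : p₁ ((w : HomSet P.carrier P.res C).1 a +
              (w : HomSet P.carrier P.res C).1 a' * (w : HomSet P.carrier P.res C).1 x₀) =
              p₁ ((w : HomSet P.carrier P.res C).1 a) +
              p₁ ((w : HomSet P.carrier P.res C).1 a') *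
                p₁ ((w : HomSet P.carrier P.res C).1 x₀) := by
            rw [← map_mul p₁.toAlgHom, ← map_add p₁.toAlgHom]
          rw [e1, hp₁x₀, mul_zero, add_zero, hw' a, ha]
        · rw [map_add, map_mul]
          have e1 : p₂ ((w : HomSet P.carrier P.res C).1 a +
              (w : HomSet P.carrier P.res C).1 a' * (w : HomSet P.carrier P.res C).1 x₀) =
              p₂ ((w : HomSet P.carrier P.res C).1 a) +
              p₂ ((w : HomSet P.carrier P.res C).1 a') *
                p₂ ((w : HomSet P.carrier P.res C).1 x₀) := by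
            rw [← map_mul p₂.toAlgHom, ← map_add p₂.toAlgHom]
          change p₂ ((w : HomSet P.carrier P.res C).1 a +
            (w : HomSet P.carrier P.res C).1 a' * (w : HomSet P.carrier P.res C).1 x₀) = p₂ c
          rw [e1]
          -- p₂ (w a') * t₀ = (b' * v) * t₀ = b' * t
          have e2 : p₂ ((w : HomSet P.carrier P.res C).1 a') *
              p₂ ((w : HomSet P.carrier P.res C).1 x₀) =
              (b' * v) * p₂ ((w : HomSet P.carrier P.res C).1 x₀) := by
            have hdiff : p₂ ((w : HomSet P.carrier P.res C).1 a') - b' * v ∈ maximalIdeal B := by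
              rw [B.mem_maximalIdeal_iff, map_sub, hresw a', ha', sub_self]
            have := hker _ hdiff _ ht₀mem
            rw [sub_mul, sub_eq_zero] at this
            exact this
          rw [e2, ← hb]
          have e3 : b' * v * (b * t) = b' * t := by
            have : b' * v * (b * t) = b' * ((v * b) * t) := by ring
            rw [this, hv, one_mul]
          rw [e3, hb']
          ring
      -- the kernel as an open ideal
      obtain ⟨n, hn⟩ := s.K.op
      have hop : maximalIdeal P.carrier ^ (n + 1) ≤ maximalIdeal P.carrier * s.K.J := by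
        rw [pow_succ']; exact Ideal.mul_mono_right hn
      have hKle : RingHom.ker ((w : HomSet P.carrier P.res C).1 : P.carrier →+* C) ≤ s.K.J := by
        intro a ha
        have h1 := hw' a
        have ha' : (w : HomSet P.carrier P.res C).1 a = 0 := RingHom.mem_ker.1 ha
        rw [ha'] at h1
        have h2 : (Ideal.Quotient.mk s.K.J) a = 0 := h1.symm.trans (map_zero p₁.toAlgHom)
        exact Ideal.Quotient.eq_zero_iff_mem.1 h2
      have hmK : maximalIdeal P.carrier * s.K.J ≤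
          RingHom.ker ((w : HomSet P.carrier P.res C).1 : P.carrier →+* C) := by
        rw [Ideal.mul_le]
        intro a ha j hj
        rw [RingHom.mem_ker]
        change (w : HomSet P.carrier P.res C).1 (a * j) = 0
        rw [map_mul]
        have hj1 : p₁ ((w : HomSet P.carrier P.res C).1 j) = 0 := by
          rw [hw' j]; exact Ideal.Quotient.eq_zero_iff_mem.2 hj
        apply hC.inj _ _
        · have : p₁ ((w : HomSet P.carrier P.res C).1 a * (w : HomSet P.carrier P.res C).1 j) =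
              p₁ ((w : HomSet P.carrier P.res C).1 a) * p₁ ((w : HomSet P.carrier P.res C).1 j) :=
            map_mul p₁.toAlgHom _ _
          rw [this, hj1, mul_zero]; exact (map_zero p₁.toAlgHom).symm
        · have : p₂ ((w : HomSet P.carrier P.res C).1 a * (w : HomSet P.carrier P.res C).1 j) =
              p₂ ((w : HomSet P.carrier P.res C).1 a) * p₂ ((w : HomSet P.carrier P.res C).1 j) :=
            map_mul p₂.toAlgHom _ _
          rw [this]
          have hjm : p₂ ((w : HomSet P.carrier P.res C).1 j) ∈ RingHom.ker μ.toAlgHom := by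
            rw [RingHom.mem_ker]
            change μ (p₂ ((w : HomSet P.carrier P.res C).1 j)) = 0
            rw [← hC.w_apply, hj1]; exact map_zero u.toAlgHom
          have ham : p₂ ((w : HomSet P.carrier P.res C).1 a) ∈ maximalIdeal B := by
            rw [B.mem_maximalIdeal_iff, hresw a]
            exact (P.mem_maximalIdeal_iff a).1 ha
          rw [hker _ ham _ hjm]; exact (map_zero p₂.toAlgHom).symm
      let Kt : OIdeal P := ⟨RingHom.ker ((w : HomSet P.carrier P.res C).1 : P.carrier →+* C),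
        hKle.trans s.K.le, ⟨n + 1, hop.trans hmK⟩⟩
      have hKt : Kt.J ≤ RingHom.ker ((w : HomSet P.carrier P.res C).1 : P.carrier →+* C) := le_rfl
      set e : pq Kt ⟶ C := pqLift Kt w hKt with he
      have hbij : Function.Bijective e := by
        constructor
        · intro x₁ x₂ h12
          obtain ⟨a₁, rfl⟩ := Ideal.Quotient.mk_surjective (I := Kt.J) x₁
          obtain ⟨a₂, rfl⟩ := Ideal.Quotient.mk_surjective (I := Kt.J) x₂
          rw [he, pqLift_mk, pqLift_mk] at h12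
          refine Ideal.Quotient.eq.2 ?_
          change a₁ - a₂ ∈ RingHom.ker ((w : HomSet P.carrier P.res C).1 : P.carrier →+* C)
          rw [RingHom.mem_ker, map_sub, sub_eq_zero]
          exact h12
        · intro c
          obtain ⟨a, ha⟩ := hwsurj c
          exact ⟨Ideal.Quotient.mk Kt.J a, ha⟩
      haveI : IsIso e := isIso_of_bijective e hbij
      have hKts : Kt.J ≤ s.K.J := hKle
      have hLift : Lifts s Kt := by
        refine ⟨hmK, hKle, F.map (inv e) z, fun h => ?_⟩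
        have e1 : pqHom h = e ≫ p₁ := pq_hom_ext fun a => by
          rw [pqHom_mk, Art.comp_apply, he, pqLift_mk, hw' a]
        rw [e1, ← Functor.map_comp_apply, IsIso.inv_hom_id_assoc, hz1]
      exact next_least hS1 s Kt hLift
  -- conclusion
  have hJ : Jinf hS1 s₀ ≤ RingHom.ker ((HomSet.map p₂ w).1 : P.carrier →+* B) := by
    refine ker_le_ker_map p₂ w ?_
    exact (Jinf_le hS1 s₀ (q + 1)).trans key
  refine ⟨fromP hS1 s₀ (HomSet.map p₂ w) hJ, ?_⟩
  apply toP_injective hS1 s₀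
  rw [toP_map, toP_fromP]
  apply Subtype.ext
  apply AlgHom.ext
  intro a
  exact hw2 a

/-- the hull family is versal -/
theorem hull_isVersal (h0 : H0 F) (hE : Heps F) (hP : IsSmoothFunctor (hR P.carrier P.res))
    (s₀ : Stage P F)
    (htan : Function.Surjective ((hullFamily hS1 s₀).app (dual Λ k))) :
    IsVersal (hullFamily hS1 s₀) :=
  (Groth.Agent.S12728.result h0 hS1 hE (hullRing hS1 s₀) (hullFamily hS1 s₀)).2
    ⟨htan, fun _ _ μ hμ φ y hy => hull_lift hS1 hP s₀ μ hμ φ y hy⟩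

end Seq

section Universal

variable [IsNoetherianRing Λ] [Module.Finite Λ k]
variable {F : Art Λ k ⥤ Type v}

universe v₁ v₂

/-- variant of `GNat.eq_of_smallExt` using only the square condition -/
theorem GNat.eq_of_smallExt_sq {F₁ : Art Λ k ⥤ Type v₁} {F₂ : Art Λ k ⥤ Type v₂} (η : GNat F₁ F₂)
    (hS1 : S1 F₁)
    (hE1 : ∀ ⦃P B : Art Λ k⦄ (p' : P ⟶ B) (p'' : P ⟶ dual Λ k)
      (h : IsFibreProd p' p'' (toBase B) (toBase (dual Λ k))), Function.Injective (cmp F₁ h))
    (hd : Function.Injective (η.app (dual Λ k)))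
    {B A : Art Λ k} (μ : B ⟶ A) (hμ : IsSmallExt μ)
    (hI2 : ∀ ⦃P : Art Λ k⦄ (p₁ p₂ : P ⟶ B) (h : IsFibreProd p₁ p₂ μ μ),
      Function.Injective (cmp F₂ h))
    (y₁ y₂ : F₁.obj B)
    (hμy : F₁.map μ y₁ = F₁.map μ y₂) (hy : η.app B y₁ = η.app B y₂) : y₁ = y₂ := by
  set P := fibreProd μ μ hμ.1 with hP
  set p₁ : P ⟶ B := fibreProdFst μ μ hμ.1 with hp₁
  set p₂ : P ⟶ B := fibreProdSnd μ μ hμ.1 with hp₂
  have h : IsFibreProd p₁ p₂ μ μ := isFibreProd_fibreProd μ μ hμ.1
  obtain ⟨δ, hδ, hΔ⟩ := exists_delta hμ h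
  obtain ⟨Δ, hΔ1, hΔ2⟩ := IsFibreProd.exists_lift h (𝟙 B) (𝟙 B) rfl
  have hΔδ := hΔ Δ hΔ1 hΔ2
  obtain ⟨z, hz⟩ := hS1 p₁ p₂ μ μ h hμ.1 ⟨(y₁, y₂), hμy⟩
  have hz1 : F₁.map p₁ z = y₁ := congrArg (fun t => t.1.1) hz
  have hz2 : F₁.map p₂ z = y₂ := congrArg (fun t => t.1.2) hz
  have hηz : η.app P z = F₂.map Δ (η.app B y₁) := by
    apply hI2 p₁ p₂ h
    apply Subtype.ext
    apply Prod.ext
    · change F₂.map p₁ (η.app P z) = F₂.map p₁ (F₂.map Δ (η.app B y₁))
      rw [← η.natural, hz1, ← Functor.map_comp_apply, hΔ1, Functor.map_id_apply]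
    · change F₂.map p₂ (η.app P z) = F₂.map p₂ (F₂.map Δ (η.app B y₁))
      rw [← η.natural, hz2, ← Functor.map_comp_apply, hΔ2, Functor.map_id_apply, hy]
  have hv : F₁.map δ z = F₁.map δ (F₁.map Δ y₁) := by
    apply hd
    rw [η.natural, η.natural, hηz, η.natural]
  have hzΔ : z = F₁.map Δ y₁ := by
    apply hE1 p₁ δ hδ
    apply Subtype.ext
    apply Prod.ext
    · change F₁.map p₁ z = F₁.map p₁ (F₁.map Δ y₁)
      rw [hz1, ← Functor.map_comp_apply, hΔ1, Functor.map_id_apply]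
    · exact hv
  rw [← hz2, hzΔ, ← Functor.map_comp_apply, hΔ2, Functor.map_id_apply]

/-- a hull of a functor satisfying the square condition is universal -/
theorem isUniversal_of_isMiniversal_of_hsq (h0 : H0 F) (hSq : HSq F) (R : CRing Λ k)
    (ξ : Family R.carrier R.res F) (hξ : IsMiniversal ξ) : IsUniversal ξ := by
  have hsurj := surjective_app_of_isVersal_of_h0 ξ hξ.1 h0
  have hS1R : S1 (hR R.carrier R.res) := by
    intro B A A' A'' p' p'' f' f'' h _
    rintro ⟨⟨g', g''⟩, hg⟩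
    obtain ⟨s, hs1, hs2⟩ := IsFibreProd.exists_homSet_lift h g' g'' hg
    exact ⟨s, Subtype.ext (Prod.ext hs1 hs2)⟩
  have hE1R : ∀ ⦃P B : Art Λ k⦄ (p' : P ⟶ B) (p'' : P ⟶ dual Λ k)
      (h : IsFibreProd p' p'' (toBase B) (toBase (dual Λ k))),
      Function.Injective (cmp (hR R.carrier R.res) h) := by
    intro P B p' p'' h s₁ s₂ e
    have e1 : HomSet.map p' s₁ = HomSet.map p' s₂ := congrArg (fun t => t.1.1) e
    have e2 : HomSet.map p'' s₁ = HomSet.map p'' s₂ := congrArg (fun t => t.1.2) e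
    apply Subtype.ext
    apply AlgHom.ext
    intro r
    exact h.inj _ _ (congrArg (fun t : HomSet R.carrier R.res _ => t.1 r) e1)
      (congrArg (fun t : HomSet R.carrier R.res _ => t.1 r) e2)
  have hinj : ∀ A : Art Λ k, Function.Injective (ξ.app A) := by
    intro A
    have key := surjective_induction_smallExt
      (fun (A B : Art Λ k) (_ : B ⟶ A) =>
        Function.Injective (ξ.app A) → Function.Injective (ξ.app B))
      (by
        intro A B e he hA x y hxy
        haveI := he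
        have h1 : ξ.app A (HomSet.map e x) = ξ.app A (HomSet.map e y) := by
          rw [ξ.natural, ξ.natural, hxy]
        have h2 := hA h1
        have h3 := congrArg (HomSet.map (inv e)) h2
        have h4 : ∀ t : HomSet R.carrier R.res B, HomSet.map (inv e) (HomSet.map e t) = t := by
          intro t
          apply Subtype.ext
          apply AlgHom.ext
          intro r
          change (e ≫ inv e) (t.1 r) = t.1 r
          rw [IsIso.hom_inv_id]; rfl
        rw [h4, h4] at h3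
        exact h3)
      (by
        intro A B p hp hA x y hxy
        refine GNat.eq_of_smallExt_sq (GNat.ofFamily ξ) hS1R hE1R hξ.2.1 p hp
          (fun P p₁ p₂ h => (hSq p₁ p₂ p h hp).1) x y ?_ hxy
        apply hA
        change ξ.app A (HomSet.map p x) = ξ.app A (HomSet.map p y)
        rw [ξ.natural, ξ.natural, hxy])
      (by
        intro A B C p q hp hq hA
        exact hp (hq hA))
      (toBase A) A.res_surjective
    apply key
    intro x y _
    rw [homSet_base_eq x, homSet_base_eq y]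
  exact fun A => ⟨hinj A, hsurj A⟩

end Universal

end H6Art
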