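import Groth.Agent.Lib.helper6.SchlB

/-! The first-order stage of Schlessinger's construction over a power series ring (helper6). -/

set_option autoImplicit false
universe u v
open CategoryTheory

namespace H6Art

open ArtFun ArtFun.Art IsLocalRing

variable {Λ : Type u} {k : Type u} [CommRing Λ] [Field k] [Algebra Λ k]

section TZ

variable (Λ k) in
/-- the object `k ⊕ k^r` -/
noncomputable def tz (r : ℕ) : Art Λ k :=
  { carrier := TrivSqZeroExt k (Fin r → k)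
    isLocalRing := isLocalRing_tsze k (Fin r → k)
    isArtinianRing := isArtinianRing_tsze k (Fin r → k)
    res := TrivSqZeroExt.fstHom Λ k (Fin r → k)
    res_surjective := fun a => ⟨TrivSqZeroExt.inl a, rfl⟩ }

/-- the map to the dual numbers given by a linear form -/
noncomputable def tzTo {r : ℕ} (ℓ : (Fin r → k) →ₗ[k] k) : tz Λ k r ⟶ dual Λ k :=
  ⟨tszeMap ℓ, AlgHom.ext fun _ => rfl⟩

/-- the map to `k[ε₁, ε₂]` given by two linear forms -/
noncomputable def tzTo2 {r : ℕ} (ℓ₁ ℓ₂ : (Fin r → k) →ₗ[k] k) : tz Λ k r ⟶ dual2 Λ k :=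
  ⟨tszeMap (ℓ₁.prod ℓ₂), AlgHom.ext fun _ => rfl⟩

lemma tzTo2_pr₁ {r : ℕ} (ℓ₁ ℓ₂ : (Fin r → k) →ₗ[k] k) :
    tzTo2 ℓ₁ ℓ₂ ≫ pr₁ = (tzTo ℓ₁ : tz Λ k r ⟶ dual Λ k) :=
  hom_ext (AlgHom.ext fun _ => TrivSqZeroExt.ext rfl rfl)

lemma tzTo2_pr₂ {r : ℕ} (ℓ₁ ℓ₂ : (Fin r → k) →ₗ[k] k) :
    tzTo2 ℓ₁ ℓ₂ ≫ pr₂ = (tzTo ℓ₂ : tz Λ k r ⟶ dual Λ k) :=
  hom_ext (AlgHom.ext fun _ => TrivSqZeroExt.ext rfl rfl)

lemma tzTo2_plus {r : ℕ} (ℓ₁ ℓ₂ : (Fin r → k) →ₗ[k] k) :
    tzTo2 ℓ₁ ℓ₂ ≫ plus = (tzTo (ℓ₁ + ℓ₂) : tz Λ k r ⟶ dual Λ k) :=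
  hom_ext (AlgHom.ext fun _ => TrivSqZeroExt.ext rfl rfl)

lemma tzTo_scale {r : ℕ} (c : k) (ℓ : (Fin r → k) →ₗ[k] k) :
    tzTo ℓ ≫ scale c = (tzTo (c • ℓ) : tz Λ k r ⟶ dual Λ k) :=
  hom_ext (AlgHom.ext fun _ => TrivSqZeroExt.ext rfl rfl)

/-- forgetting the first coordinate -/
noncomputable def tzTail (r : ℕ) : tz Λ k (r + 1) ⟶ tz Λ k r :=
  ⟨tszeMap (LinearMap.funLeft k k Fin.succ), AlgHom.ext fun _ => rfl⟩

lemma isFibreProd_tz (r : ℕ) :
    IsFibreProd (tzTail r : tz Λ k (r + 1) ⟶ _) (tzTo (LinearMap.proj 0))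
      (toBase (tz Λ k r)) (toBase (dual Λ k)) where
  w := by rw [eq_toBase (tzTail r ≫ toBase _), eq_toBase (tzTo _ ≫ toBase _)]
  inj b₁ b₂ h₁ h₂ := by
    have e₁ : TrivSqZeroExt.fst b₁ = TrivSqZeroExt.fst b₂ := by
      have e := congrArg TrivSqZeroExt.fst h₁; exact e
    have e₂ : ∀ i : Fin r, TrivSqZeroExt.snd b₁ i.succ = TrivSqZeroExt.snd b₂ i.succ := fun i => by
      have e := congrFun (congrArg TrivSqZeroExt.snd h₁) i; exact e
    have e₃ : TrivSqZeroExt.snd b₁ 0 = TrivSqZeroExt.snd b₂ 0 := by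
      have e := congrArg TrivSqZeroExt.snd h₂; exact e
    exact TrivSqZeroExt.ext e₁ (funext (Fin.cases e₃ e₂))
  surj a' a'' h := by
    have h' : TrivSqZeroExt.fst a' = TrivSqZeroExt.fst a'' := h
    refine ⟨(TrivSqZeroExt.fst a', (Fin.cons (TrivSqZeroExt.snd a'') (TrivSqZeroExt.snd a') :
      Fin (r + 1) → k)), TrivSqZeroExt.ext rfl ?_, TrivSqZeroExt.ext h' ?_⟩
    · funext i
      exact Fin.cons_succ (α := fun _ => k) (TrivSqZeroExt.snd a'') (TrivSqZeroExt.snd a') i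
    · exact Fin.cons_zero (α := fun _ => k) (TrivSqZeroExt.snd a'') (TrivSqZeroExt.snd a')

end TZ

section TanLin

variable {F : Art Λ k ⥤ Type v} [TangentStr F]

/-- evaluation of an element over `k ⊕ k^r` on linear forms is linear -/
noncomputable def tanLin {r : ℕ} (z : F.obj (tz Λ k r)) :
    ((Fin r → k) →ₗ[k] k) →ₗ[k] TangentSpace F where
  toFun ℓ := F.map (tzTo ℓ) z
  map_add' ℓ₁ ℓ₂ := by
    have h1 : F.map pr₁ (F.map (tzTo2 ℓ₁ ℓ₂) z) = F.map (tzTo ℓ₁) z := by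
      rw [← Functor.map_comp_apply, tzTo2_pr₁]
    have h2 : F.map pr₂ (F.map (tzTo2 ℓ₁ ℓ₂) z) = F.map (tzTo ℓ₂) z := by
      rw [← Functor.map_comp_apply, tzTo2_pr₂]
    have h3 : F.map plus (F.map (tzTo2 ℓ₁ ℓ₂) z) = F.map (tzTo (ℓ₁ + ℓ₂)) z := by
      rw [← Functor.map_comp_apply, tzTo2_plus]
    rw [← h3, ← h1, ← h2]
    exact (TangentStr.add_eq _).symm
  map_smul' c ℓ := by
    rw [RingHom.id_apply]
    have h1 : F.map (scale c) (F.map (tzTo ℓ) z) = F.map (tzTo (c • ℓ)) z := by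
      rw [← Functor.map_comp_apply, tzTo_scale]
    rw [← h1]
    exact (TangentStr.smul_eq c _).symm

lemma tanLin_apply {r : ℕ} (z : F.obj (tz Λ k r)) (ℓ : (Fin r → k) →ₗ[k] k) :
    tanLin z ℓ = F.map (tzTo ℓ) z := rfl

omit [TangentStr F] in
theorem exists_tz_elt (h0 : H0 F) (hE : Heps F) : ∀ (r : ℕ) (v : Fin r → F.obj (dual Λ k)),
    ∃ z : F.obj (tz Λ k r), ∀ i, F.map (tzTo (LinearMap.proj i)) z = v i := by
  intro r
  induction r with
  | zero =>
    intro v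
    obtain ⟨pt⟩ := h0.1
    let j : dual Λ k ⟶ tz Λ k 0 :=
      ⟨tszeMap (0 : k →ₗ[k] (Fin 0 → k)), AlgHom.ext fun _ => rfl⟩
    exact ⟨F.map j (F.map baseToDual pt), fun i => i.elim0⟩
  | succ r ih =>
    intro v
    obtain ⟨z₀, hz₀⟩ := ih (fun i => v i.succ)
    obtain ⟨z, hz⟩ := (hE (tzTail r) (tzTo (LinearMap.proj 0)) (isFibreProd_tz r)).2
      ⟨(z₀, v 0), h0.2.elim _ _⟩
    have hz1 : F.map (tzTail r) z = z₀ := congrArg (fun t => t.1.1) hz
    have hz2 : F.map (tzTo (LinearMap.proj 0)) z = v 0 := congrArg (fun t => t.1.2) hz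
    refine ⟨z, fun i => ?_⟩
    refine Fin.cases hz2 (fun i => ?_) i
    have e : (tzTo (LinearMap.proj i.succ) : tz Λ k (r + 1) ⟶ _) =
        tzTail r ≫ tzTo (LinearMap.proj i) :=
      hom_ext (AlgHom.ext fun _ => TrivSqZeroExt.ext rfl rfl)
    rw [e, Functor.map_comp_apply, hz1, hz₀]

end TanLin

section Initial

variable [IsLocalRing Λ] [IsNoetherianRing Λ] [IsAdicComplete (maximalIdeal Λ) Λ]
variable {F : Art Λ k ⥤ Type v} [TangentStr F]

theorem exists_initial_stage (hk : Function.Surjective (algebraMap Λ k)) (h0 : H0 F)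
    (hE : Heps F) (hfin : Hfin F) :
    ∃ (r : ℕ) (s₀ : Stage (psCRing Λ k hk r) F)
      (hT1 : ∀ φ : HomSet (psCRing Λ k hk r).carrier (psCRing Λ k hk r).res (dual Λ k),
        s₀.K.J ≤ RingHom.ker (φ.1 : (psCRing Λ k hk r).carrier →+* (dual Λ k))),
      Function.Bijective
        (fun φ : HomSet (psCRing Λ k hk r).carrier (psCRing Λ k hk r).res (dual Λ k) =>
          F.map (pqLift s₀.K φ (hT1 φ)) s₀.ξ) := by
  haveI : Module.Finite k (TangentSpace F) := hfin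
  haveI : Module.Finite Λ k := Module.Finite.of_surjective (Algebra.linearMap Λ k) hk
  obtain ⟨r, hr⟩ : ∃ r : ℕ, r = Module.finrank k (TangentSpace F) := ⟨_, rfl⟩
  let bs : Module.Basis (Fin r) k (TangentSpace F) := Module.finBasisOfFinrankEq k _ hr.symm
  obtain ⟨z, hz⟩ := exists_tz_elt h0 hE r (fun i => (bs i : F.obj (dual Λ k)))
  have hs : ∀ i : Fin r, (TrivSqZeroExt.inr (Pi.single i (1 : k)) : tz Λ k r) ∈
      maximalIdeal (tz Λ k r) := fun i => ((tz Λ k r).mem_maximalIdeal_iff _).2 rfl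
  obtain ⟨θ, hθ⟩ := exists_homSet_ps r (tz Λ k r)
    (fun i => TrivSqZeroExt.inr (Pi.single i (1 : k))) hs
  let P := psCRing Λ k hk r
  let θ' : HomSet P.carrier P.res (tz Λ k r) := θ
  have hθ' : ∀ i, θ'.1 (MvPowerSeries.X i) = TrivSqZeroExt.inr (Pi.single i (1 : k)) := hθ
  have hθsurj : Function.Surjective θ'.1 := by
    let g : MvPowerSeries (Fin r) Λ →ₐ[Λ] TrivSqZeroExt k (Fin r → k) := θ.1
    have hg : ∀ i, g (MvPowerSeries.X i) = TrivSqZeroExt.inr (Pi.single i (1 : k)) := hθ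
    have hgs : Function.Surjective g := by
      intro x
      obtain ⟨l₀, hl₀⟩ := hk (TrivSqZeroExt.fst x)
      choose l hl using fun i => hk (TrivSqZeroExt.snd x i)
      refine ⟨((MvPowerSeries.C l₀ : MvPowerSeries (Fin r) Λ) +
        ∑ i, (MvPowerSeries.C (l i) : MvPowerSeries (Fin r) Λ) * MvPowerSeries.X i :
          MvPowerSeries (Fin r) Λ), ?_⟩
      have hC : ∀ a : Λ, g (MvPowerSeries.C a : MvPowerSeries (Fin r) Λ) =
          TrivSqZeroExt.inl (algebraMap Λ k a) := fun a => by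
        rw [H6PS.C_eq_algebraMap]
        exact (AlgHom.commutes g a).trans (TrivSqZeroExt.algebraMap_eq_inl' _ _ _ a)
      rw [map_add, map_sum, hC, hl₀]
      simp_rw [map_mul, hC, hg, hl, TrivSqZeroExt.inl_mul_inr]
      apply TrivSqZeroExt.ext
      · simp [TrivSqZeroExt.fst_sum]
      · ext j
        simp [TrivSqZeroExt.snd_sum, Finset.sum_apply, Pi.single_apply]
    exact hgs
  have hKle : RingHom.ker (θ'.1 : P.carrier →+* (tz Λ k r)) ≤ maximalIdeal P.carrier := by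
    intro a ha
    rw [P.mem_maximalIdeal_iff]
    have h1 : (tz Λ k r).res (θ'.1 a) = P.res a := DFunLike.congr_fun θ'.2 a
    have h2 : θ'.1 a = 0 := RingHom.mem_ker.1 ha
    rw [← h1, h2]
    exact map_zero (tz Λ k r).res
  have hsq : ∀ x y : tz Λ k r, x ∈ maximalIdeal (tz Λ k r) → y ∈ maximalIdeal (tz Λ k r) →
      x * y = 0 := by
    intro x y hx hy
    rw [(tz Λ k r).mem_maximalIdeal_iff] at hx hy
    have hx' : TrivSqZeroExt.fst x = 0 := hx
    have hy' : TrivSqZeroExt.fst y = 0 := hy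
    apply TrivSqZeroExt.ext
    · refine (TrivSqZeroExt.fst_mul x y).trans ?_
      rw [hx', zero_mul]; rfl
    · refine (TrivSqZeroExt.snd_mul x y).trans ?_
      rw [hx', hy', zero_smul, MulOpposite.op_zero, zero_smul, add_zero]; rfl
  have hKop : maximalIdeal P.carrier ^ 2 ≤ RingHom.ker (θ'.1 : P.carrier →+* (tz Λ k r)) := by
    rw [pow_two, Ideal.mul_le]
    intro a ha b hb
    rw [RingHom.mem_ker]
    have : θ'.1 (a * b) = θ'.1 a * θ'.1 b := map_mul θ'.1 a b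
    exact this.trans (hsq _ _ (homSet_map_maximalIdeal θ' ha) (homSet_map_maximalIdeal θ' hb))
  let K₂ : OIdeal P := ⟨RingHom.ker (θ'.1 : P.carrier →+* (tz Λ k r)), hKle, ⟨2, hKop⟩⟩
  have hK₂ : K₂.J ≤ RingHom.ker (θ'.1 : P.carrier →+* (tz Λ k r)) := le_rfl
  let ι : pq K₂ ⟶ tz Λ k r := pqLift K₂ θ' hK₂
  have hιbij : Function.Bijective ι := by
    constructor
    · intro x₁ x₂ h12
      obtain ⟨a₁, rfl⟩ := Ideal.Quotient.mk_surjective (I := K₂.J) x₁
      obtain ⟨a₂, rfl⟩ := Ideal.Quotient.mk_surjective (I := K₂.J) x₂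
      have h12' : θ'.1 a₁ = θ'.1 a₂ := h12
      refine Ideal.Quotient.eq.2 ?_
      change a₁ - a₂ ∈ RingHom.ker (θ'.1 : P.carrier →+* (tz Λ k r))
      rw [RingHom.mem_ker, map_sub, sub_eq_zero]
      exact h12'
    · intro c
      obtain ⟨a, ha⟩ := hθsurj c
      exact ⟨Ideal.Quotient.mk K₂.J a, ha⟩
  haveI : IsIso ι := isIso_of_bijective ι hιbij
  let s₀ : Stage P F := ⟨K₂, F.map (inv ι) z⟩
  let cstr : (Fin r → k) ≃ₗ[k] ((Fin r → k) →ₗ[k] k) := (Pi.basisFun k (Fin r)).constr k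
  have hfac : ∀ φ : HomSet P.carrier P.res (dual Λ k), ∃ c : Fin r → k,
      φ = HomSet.map (tzTo (cstr c)) θ' := by
    intro φ
    refine ⟨fun i => TrivSqZeroExt.snd (φ.1 (MvPowerSeries.X i)), ?_⟩
    apply homSet_ps_ext (r := r) (A := dual Λ k)
    intro i
    change φ.1 (MvPowerSeries.X i) = tzTo (cstr _) (θ'.1 (MvPowerSeries.X i))
    rw [hθ']
    apply TrivSqZeroExt.ext
    · have h1 : TrivSqZeroExt.fst (φ.1 (MvPowerSeries.X i)) = P.res (MvPowerSeries.X i) :=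
        DFunLike.congr_fun φ.2 _
      rw [h1]
      exact psRes_X r i
    · have := (Pi.basisFun k (Fin r)).constr_basis k
        (fun i => TrivSqZeroExt.snd (φ.1 (MvPowerSeries.X i))) i
      rw [Pi.basisFun_apply] at this
      exact this.symm
  have hT1 : ∀ φ : HomSet P.carrier P.res (dual Λ k),
      s₀.K.J ≤ RingHom.ker (φ.1 : P.carrier →+* (dual Λ k)) := by
    intro φ
    obtain ⟨c, rfl⟩ := hfac φ
    exact ker_le_ker_map _ θ' hK₂
  have hval : ∀ (c : Fin r → k)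
      (h : s₀.K.J ≤ RingHom.ker ((HomSet.map (tzTo (cstr c)) θ').1 : P.carrier →+* (dual Λ k))),
      F.map (pqLift s₀.K (HomSet.map (tzTo (cstr c)) θ') h) s₀.ξ = bs.equivFun.symm c := by
    intro c h
    have e1 : pqLift s₀.K (HomSet.map (tzTo (cstr c)) θ') h = ι ≫ tzTo (cstr c) :=
      (pqLift_comp K₂ (tzTo (cstr c)) θ' hK₂ h).symm
    rw [e1]
    change F.map (ι ≫ tzTo (cstr c)) (F.map (inv ι) z) = _
    rw [← Functor.map_comp_apply, IsIso.inv_hom_id_assoc]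
    change ((tanLin z).comp cstr.toLinearMap) c = bs.equivFun.symm.toLinearMap c
    congr 1
    apply (Pi.basisFun k (Fin r)).ext
    intro i
    rw [Pi.basisFun_apply]
    change F.map (tzTo (cstr (Pi.single i 1))) z = bs.equivFun.symm (Pi.single i 1)
    have e2 : cstr (Pi.single i (1 : k)) = LinearMap.proj i := by
      apply (Pi.basisFun k (Fin r)).ext
      intro j
      rw [Module.Basis.constr_basis, Pi.basisFun_apply, LinearMap.proj_apply, Pi.single_apply,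
        Pi.single_apply]
      simp [eq_comm]
    rw [e2, hz i]
    apply bs.equivFun.injective
    rw [LinearEquiv.apply_symm_apply]
    ext j
    rw [Module.Basis.equivFun_self, Pi.single_apply]
    simp [eq_comm]
  refine ⟨r, s₀, hT1, ?_, ?_⟩
  · intro φ₁ φ₂ h12
    obtain ⟨c₁, rfl⟩ := hfac φ₁
    obtain ⟨c₂, rfl⟩ := hfac φ₂
    change F.map (pqLift s₀.K _ _) s₀.ξ = F.map (pqLift s₀.K _ _) s₀.ξ at h12
    rw [hval c₁, hval c₂] at h12
    have := bs.equivFun.symm.injective h12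
    rw [this]
  · intro t
    refine ⟨HomSet.map (tzTo (cstr (bs.equivFun t))) θ', ?_⟩
    change F.map (pqLift s₀.K _ _) s₀.ξ = t
    rw [hval]
    exact bs.equivFun.symm_apply_apply t

end Initial

end H6Art
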