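import Groth.Agent.Lib.helper6.SchlFirst
import Groth.Agent.Lib.helper6.ArtFormal2
import Groth.Agent.S12731

/-! Schlessinger's pro-representability criterion (helper6). -/

set_option autoImplicit false
universe u v
open CategoryTheory

namespace H6Art

open ArtFun ArtFun.Art IsLocalRing

variable {Λ : Type u} {k : Type u} [CommRing Λ] [Field k] [Algebra Λ k]

/-- a functor with a universal family is left exact -/
theorem isLeftExact_of_isUniversal {F : Art Λ k ⥤ Type v} {R : Type u} [CommRing R] [Algebra Λ R]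
    {resR : R →ₐ[Λ] k} (ξ : Family R resR F) (hξ : IsUniversal ξ) : IsLeftExact F := by
  intro B A A' A'' p' p'' f' f'' h
  constructor
  · intro x y hxy
    obtain ⟨s, rfl⟩ := (hξ B).2 x
    obtain ⟨t, rfl⟩ := (hξ B).2 y
    have e1 : F.map p' (ξ.app B s) = F.map p' (ξ.app B t) := congrArg (fun t => t.1.1) hxy
    have e2 : F.map p'' (ξ.app B s) = F.map p'' (ξ.app B t) := congrArg (fun t => t.1.2) hxy
    rw [← ξ.natural, ← ξ.natural] at e1 e2
    have e1' := (hξ A').1 e1
    have e2' := (hξ A'').1 e2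
    congr 1
    apply Subtype.ext
    apply AlgHom.ext
    intro r
    exact h.inj _ _ (congrArg (fun t : HomSet R resR _ => t.1 r) e1')
      (congrArg (fun t : HomSet R resR _ => t.1 r) e2')
  · rintro ⟨⟨a', a''⟩, ha⟩
    obtain ⟨g', rfl⟩ := (hξ A').2 a'
    obtain ⟨g'', rfl⟩ := (hξ A'').2 a''
    have ha' : F.map f' (ξ.app A' g') = F.map f'' (ξ.app A'' g'') := ha
    rw [← ξ.natural, ← ξ.natural] at ha'
    have hg := (hξ A).1 ha'
    obtain ⟨s, hs1, hs2⟩ := IsFibreProd.exists_homSet_lift h g' g'' hg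
    refine ⟨ξ.app B s, Subtype.ext (Prod.ext ?_ ?_)⟩
    · change F.map p' (ξ.app B s) = ξ.app A' g'
      rw [← ξ.natural, hs1]
    · change F.map p'' (ξ.app B s) = ξ.app A'' g''
      rw [← ξ.natural, hs2]

/-- Schlessinger's criterion, the existence part -/
theorem isProrepresentable_of_conditions [IsLocalRing Λ] [IsNoetherianRing Λ]
    [IsAdicComplete (maximalIdeal Λ) Λ] (hk : Function.Surjective (algebraMap Λ k))
    (F : Art Λ k ⥤ Type v) [TangentStr F] (h0 : H0 F)
    (hbar : Hbar F) (heps : Heps F) (hfin : Hfin F) (hsq : HSq F) : IsProrepresentable F := by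
  haveI : Module.Finite Λ k := Module.Finite.of_surjective (Algebra.linearMap Λ k) hk
  have hS1 : S1 F := cmp_surjective_of_smallExt hbar
  obtain ⟨r, s₀, hT1, hT2⟩ := exists_initial_stage hk h0 heps hfin
  have hP : IsSmoothFunctor (hR (psCRing Λ k hk r).carrier (psCRing Λ k hk r).res) :=
    isSmoothFunctor_hR_ps r
  have htan := hull_tangent_bijective hS1 s₀ hT1 hT2
  have hvers := hull_isVersal hS1 h0 heps hP s₀ htan.2
  have huniv := isUniversal_of_isMiniversal_of_hsq h0 hsq (hullRing hS1 s₀) (hullFamily hS1 s₀)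
    ⟨hvers, htan⟩
  exact ⟨⟨hullRing hS1 s₀, hullFamily hS1 s₀, huniv⟩⟩

/-- Schlessinger's criterion, the necessity part -/
theorem conditions_of_isProrepresentable [IsNoetherianRing Λ] [Module.Finite Λ k]
    (F : Art Λ k ⥤ Type v) [TangentStr F] (h0 : H0 F) (hF : IsProrepresentable F) :
    IsLeftExact F ∧ Hfin F := by
  obtain ⟨Pr⟩ := hF
  have hle := isLeftExact_of_isUniversal Pr.family Pr.universal
  have hvers := isVersal_of_isUniversal Pr.family Pr.universal
  have hhull : HasHull F := ⟨⟨Pr.ring, Pr.family, ⟨hvers, Pr.universal _⟩⟩⟩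
  exact ⟨hle, (Groth.Agent.S12731.result F h0 hhull).2.2⟩

end H6Art
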